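import Cfsg.Agent.RC.B.Defs

/-!
# RC, `l = 3`: Lang's theorem in subtori, fixed lifts of Weyl group elements, `boxLn` (helper57)
-/

set_option autoImplicit false
set_option linter.unusedSectionVars false

namespace Cfsg.Agent.RC.B

open Cfsg Cfsg.Lie Cfsg.Agent.DL Cfsg.Agent.Nodes.Reps Matrix Subgroup Cfsg.Agent.KM.Ht Cfsg.Agent.KM.Tor
open Cfsg.Agent.Nodes.BNOf Cfsg.Agent.KM.Tor.TW
open Cfsg.Agent.KM.Si (ZL)

namespace Ln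

variable {p : ℕ} [Fact p.Prime] {k : Type} [Field k] [CharP k p] {Y : Type} [Group Y] {N : Type} [Fintype N]
  [DecidableEq N] {ρ : Y →* GL N k} {F : MulAut Y} {G : Subgroup Y} [IsAlgClosed k] {X : Datum p ρ F G}

/-- **Lang's theorem for the divisible elements of a stable subgroup of the torus.** -/
theorem lang_div {H : Subgroup Y} (hT : H ≤ X.T) (hF : ∀ z ∈ H, F z ∈ H) {t : Y}
    (ht : ∀ n : ℕ, n ≠ 0 → ∃ x ∈ H, x ^ n = t) : ∃ s ∈ H, t = s⁻¹ * F s := by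
  obtain ⟨d, e, h⟩ := X.exists_split'
  have h1 : 1 < p ^ e := Nat.one_lt_pow h.e_pos.ne' (Fact.out : p.Prime).one_lt
  obtain ⟨x, hx, rfl⟩ := ht (p ^ e - 1) (by omega)
  have h2 : ∀ m : ℕ, ∃ s ∈ H, x⁻¹ * (F ^ m) x = s⁻¹ * F s := fun m => by
    induction m with
    | zero => exact ⟨1, one_mem _, by simp⟩
    | succ m ih =>
      obtain ⟨s, hs, h3⟩ := ih
      have h4 : (F ^ m) x ∈ H := pow_mem_of_maps (H := (H : Set Y)) hF m hx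
      refine ⟨s * (F ^ m) x, mul_mem hs h4, ?_⟩
      rw [map_mul, _root_.mul_inv_rev, mul_assoc, ← mul_assoc s⁻¹, ← h3, X.T_comm (hT (inv_mem hx)) (hT h4), pow_succ',
        MulAut.mul_apply]
      group
  obtain ⟨s, hs, h3⟩ := h2 d
  refine ⟨s, hs, ?_⟩
  rw [← h3, h.T (hT hx), eq_inv_mul_iff_mul_eq, ← pow_succ', Nat.sub_add_cancel h1.le]

/-- the elements of a subtorus are divisible -/
theorem div_closure {A : Set Y} (h : ∀ z ∈ A, ∃ v a, z = X.τ (coch v a) ∧ ∀ b, X.τ (coch v b) ∈ A) {t : Y}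
    (ht : t ∈ closure A) {n : ℕ} (hn : n ≠ 0) : ∃ x ∈ closure A, x ^ n = t := by
  have h0 : closure A ≤ X.T := (closure_le _).2 fun z hz => by
    obtain ⟨v, a, rfl, -⟩ := h z hz
    exact X.τ_mem _
  induction ht using closure_induction with
  | mem z hz =>
    obtain ⟨v, a, rfl, h1⟩ := h z hz
    obtain ⟨b, rfl⟩ := exists_zpow_eq (Int.natCast_ne_zero.2 hn) a
    exact ⟨_, subset_closure (h1 b), by rw [zpow_natCast, map_pow, map_pow]⟩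
  | one => exact ⟨1, one_mem _, one_pow _⟩
  | mul a b _ _ ha hb =>
    obtain ⟨x, hx, rfl⟩ := ha
    obtain ⟨y, hy, rfl⟩ := hb
    exact ⟨x * y, mul_mem hx hy, Commute.mul_pow (X.T_comm (h0 hx) (h0 hy)) n⟩
  | inv a _ ha =>
    obtain ⟨x, hx, rfl⟩ := ha
    exact ⟨x⁻¹, inv_mem hx, inv_pow x n⟩

theorem div_ZL {Λ : Set (X.R → ℤ)} {t : Y} (ht : t ∈ ZL X Λ) {n : ℕ} (hn : n ≠ 0) : ∃ x ∈ ZL X Λ, x ^ n = t :=
  div_closure (X := X) (by rintro _ ⟨v, hv, a, e⟩; exact ⟨v, a, e, fun b => ⟨v, hv, b, rfl⟩⟩) ht hn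

theorem div_Z0 {A : Set Y} {t : Y} (ht : t ∈ Z0 X A) {n : ℕ} (hn : n ≠ 0) : ∃ x ∈ Z0 X A, x ^ n = t :=
  div_closure (X := X) (by rintro _ ⟨v, a, hv, e⟩; exact ⟨v, a, e, fun b => ⟨v, b, hv, rfl⟩⟩) ht hn

theorem F_ZL {Λ : Set (X.R → ℤ)} (h : ∀ v ∈ Λ, X.Mx *ᵥ v ∈ Λ) {z : Y} (hz : z ∈ ZL X Λ) : F z ∈ ZL X Λ := by
  refine ((closure_le _).2 ?_ : ZL X Λ ≤ (ZL X Λ).comap F.toMonoidHom) hz
  rintro _ ⟨v, hv, a, rfl⟩
  change F _ ∈ ZL X Λ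
  rw [X.F_τ, mon_coch]
  exact KM.Si.Qd.mem_ZL X (h v hv) a

/-- **Lang's theorem in a stable subtorus.** -/
theorem lang_ZL {Λ : Set (X.R → ℤ)} (h : ∀ v ∈ Λ, X.Mx *ᵥ v ∈ Λ) {t : Y} (ht : t ∈ ZL X Λ) :
    ∃ s ∈ ZL X Λ, t = s⁻¹ * F s :=
  lang_div (KM.Si.Qd.ZL_le_T X Λ) (fun _ => F_ZL h) fun _ => div_ZL ht

theorem lang_Z0 {A : Set Y} (h : ∀ z ∈ Z0 X A, F z ∈ Z0 X A) {t : Y} (ht : t ∈ Z0 X A) :
    ∃ s ∈ Z0 X A, t = s⁻¹ * F s :=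
  lang_div (Z0_le_T X A) h fun _ => div_Z0 ht

variable {a b : X.I → ℤ} {Ψ : Set (X.I → ℤ)} {Z : Set Y}

theorem exists_rf (ha : X.Rt a) : ∃ m ∈ X.S {a, -a}, X.Rp (X.rf a) m := by
  obtain ⟨m, hm, h1⟩ := X.exists_rp_rf ha
  obtain ⟨s, hs, t, ht, rfl⟩ := (X.mem_TS (TO.G2D.rt_pair ha)).1 ((sup_le_sup_left (sup_le
    (RGD.le_Sup (S := {a, -a}) (.inl rfl)) (RGD.le_Sup (S := {a, -a}) (.inr rfl))) _) hm)
  exact ⟨s, hs, by simpa using h1.mul (rp_of_mem (cs := X.cs) (hN := X.nsys) ht).inv⟩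

theorem pair_le (h1 : a ∈ Ψ) (h2 : -a ∈ Ψ) : X.S {a, -a} ≤ X.S Ψ :=
  RGD.Sup_mono (Set.insert_subset h1 (Set.singleton_subset_iff.2 h2))

theorem cor_mem (ha : X.Rt a) (h1 : a ∈ Ψ) (h2 : -a ∈ Ψ) (e : kˣ) : X.τ (coch (X.cor a) e) ∈ X.S Ψ :=
  let ⟨_, hm, h⟩ := exists_rf ha
  pair_le h1 h2 (TO.G2D.τ_cor_mem ha e h hm)

/-- representatives in the derived group -/
theorem exists_rp_S (h0 : ∀ a ∈ Ψ, X.Rt a) (h1 : ∀ a ∈ Ψ, -a ∈ Ψ) {w : X.W} (hw : w ∈ closure (X.rf '' Ψ)) :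
    ∃ m ∈ X.S Ψ, X.Rp w m := by
  induction hw using closure_induction with
  | mem _ h =>
    obtain ⟨a, ha, rfl⟩ := h
    obtain ⟨m, hm, h⟩ := exists_rf (h0 a ha)
    exact ⟨m, pair_le ha (h1 a ha) hm, h⟩
  | one => exact ⟨1, one_mem _, rp_one⟩
  | mul _ _ _ _ h h' =>
    obtain ⟨m, hm, h⟩ := h
    obtain ⟨m', hm', h'⟩ := h'
    exact ⟨_, mul_mem hm hm', h.mul h'⟩
  | inv _ _ h =>
    obtain ⟨m, hm, h⟩ := h
    exact ⟨_, inv_mem hm, h.inv⟩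

/-- the torus of the derived group of a connected centraliser -/
theorem mem_ZL_cor (hZ : Z ⊆ X.T) (hF : ∀ a ∈ X.Sz Z, X.g a ∈ X.Sz Z) {t : Y} (ht : t ∈ X.T) (h : t ∈ X.S (X.Sz Z)) :
    t ∈ ZL X (X.cor '' X.Sz Z) := by
  have h1 := KM.Si.Qd.T_inf_S_le (X.sub hZ hF rfl) (x := t) ⟨ht, by
    rw [X.sub_S hZ hF rfl]
    exact (X.io_roots Z).symm ▸ h⟩
  refine ((closure_le _).2 ?_ : ZL (X.sub hZ hF rfl) _ ≤ ZL X (X.cor '' X.Sz Z)) h1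
  rintro _ ⟨_, ⟨j, rfl⟩, a, rfl⟩
  exact KM.Si.Qd.mem_ZL X (Set.mem_image_of_mem X.cor (X.mem_Sz.2 ⟨Base.bs_root j, Base.bs_mem j⟩)) a

theorem ZL_cor_le : ZL X (X.cor '' X.Sz Z) ≤ X.T ⊓ X.S (X.Sz Z) := (closure_le _).2 (by
  rintro _ ⟨_, ⟨a, ha, rfl⟩, e, rfl⟩
  exact ⟨X.τ_mem _, cor_mem ha.1 ha (X.Sz_neg ha) e⟩)

/-- **Fixed representatives in the derived group.** -/
theorem exists_fix (hZ : Z ⊆ X.T) (hF : ∀ a ∈ X.Sz Z, X.g a ∈ X.Sz Z) {w : X.W} (hw : w ∈ closure (X.rf '' X.Sz Z))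
    (h : X.Fw w = w) : ∃ n ∈ X.S (X.Sz Z), F n = n ∧ X.Rp w n := by
  obtain ⟨m, hm, h1⟩ := exists_rp_S X.Sz_root (fun _ => X.Sz_neg) hw
  have h2 : ∀ z ∈ X.S (X.Sz Z), F z ∈ X.S (X.Sz Z) := fun z => X.F_mem_S X.Sz_root hF
  obtain ⟨s, hs, e⟩ := lang_div (H := X.T ⊓ X.S (X.Sz Z)) inf_le_left (fun z hz => ⟨X.F_mem_T hz.1, h2 z hz.2⟩)
    fun n hn => (div_ZL (mem_ZL_cor hZ hF (h1.unique (h ▸ h1.mapF)) (mul_mem (inv_mem hm) (h2 m hm))) hn).imp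
      fun x hx => ⟨ZL_cor_le hx.1, hx.2⟩
  refine ⟨m * s⁻¹, mul_mem hm (inv_mem hs.2), ?_, by
    simpa using h1.mul (rp_of_mem (cs := X.cs) (hN := X.nsys) hs.1).inv⟩
  rw [map_mul, map_inv, ← mul_inv_cancel_left m (F m), e, mul_assoc, mul_inv_cancel_right]

theorem exists_Sz (h0 : ∀ a ∈ Ψ, X.Rt a) (h : Lvs X Ψ) : ∃ Z : Set Y, Z ⊆ X.T ∧ X.Sz Z = Ψ := by
  obtain ⟨v, hv⟩ := h
  refine ⟨Set.range fun a => X.τ (coch v a), fun _ ⟨_, e⟩ => e ▸ X.τ_mem _, Set.ext fun a => ⟨fun ha => ?_, fun ha => ?_⟩⟩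
  · refine (hv a ha.1).2 (eq_zero_of_zpow (k := k) fun c => ?_)
    have h1 := ha.2 _ ⟨c, rfl⟩
    rwa [X.χ_τ, chr_coch, Units.val_eq_one] at h1
  · refine ⟨h0 a ha, ?_⟩
    rintro _ ⟨c, rfl⟩
    rw [X.χ_τ, chr_coch, Units.val_eq_one]
    exact (congrArg (c ^ ·) ((hv a (h0 a ha)).1 ha)).trans (zpow_zero c)

variable (X) in
/-- a base of a subsystem of type `A₂` -/
structure Bs (a b : X.I → ℤ) : Prop where
  ra : X.Rt a
  rb : X.Rt b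
  ab : X.wt a ⬝ᵥ X.cor b = -1
  ba : X.wt b ⬝ᵥ X.cor a = -1

theorem of_cmp (h0 : ∀ a ∈ Ψ, X.Rt a) (h : Cmp X Ψ a b) : Bs X a b :=
  ⟨h0 a (h.sub (.inl rfl)), h0 b (h.sub (.inr (.inl rfl))), h.ab, h.ba⟩

namespace Bs

variable (h : Bs X a b)
include h

theorem symm : Bs X b a := ⟨h.rb, h.ra, h.ba, h.ab⟩

theorem act : X.act (X.rf b) a = a + b := by
  rw [act_rf h.rb, show pr X a b = -1 from h.ab, neg_smul, one_smul, sub_neg_eq_add]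

theorem add : X.Rt (a + b) := h.act ▸ h.ra.act _

theorem rt : ∀ c ∈ A2 X a b, X.Rt c := by
  rintro c (rfl | rfl | rfl | rfl | rfl | rfl)
  exacts [h.ra, h.rb, h.add, h.ra.neg, h.rb.neg, h.add.neg]

theorem cor_add : X.cor (a + b) = X.cor a + X.cor b := by
  rw [← h.act, X.cor_act _ h.ra, X.Wm_rf h.rb, sub_mulVec, one_mulVec, vecMulVec_mulVec, h.ba]
  simp

theorem neg : Bs X (-a) (-b) := ⟨h.ra.neg, h.rb.neg, by
  rw [X.cor_neg h.rb, map_neg, neg_dotProduct_neg, h.ab], by rw [X.cor_neg h.ra, map_neg, neg_dotProduct_neg, h.ba]⟩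

theorem rot : Bs X b (-(a + b)) := ⟨h.rb, h.add.neg, by
  rw [X.cor_neg h.add, h.cor_add, dotProduct_neg, dotProduct_add, h.ba, show X.wt b ⬝ᵥ X.cor b = 2 from pr_self h.rb]
  rfl, by
  rw [map_neg, map_add, neg_dotProduct, add_dotProduct, h.ab, show X.wt b ⬝ᵥ X.cor b = 2 from pr_self h.rb]
  rfl⟩

theorem rf_neg : X.rf (-a) * X.rf (-b) = X.rf a * X.rf b := by rw [X.rf_neg h.ra, X.rf_neg h.rb]

theorem rf_rot : X.rf b * X.rf (-(a + b)) = X.rf a * X.rf b := by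
  rw [X.rf_neg h.add, ← h.act, X.rf_act' _ h.ra, ← mul_assoc, ← mul_assoc, X.rf_mul_self h.rb, one_mul,
    inv_eq_of_mul_eq_one_right (X.rf_mul_self h.rb)]

end Bs

theorem A2_neg (a b : X.I → ℤ) : A2 X (-a) (-b) = A2 X a b := by
  ext c
  simp only [A2, Set.mem_insert_iff, Set.mem_singleton_iff, neg_neg, ← neg_add]
  tauto

theorem A2_rot (a b : X.I → ℤ) : A2 X b (-(a + b)) = A2 X a b := by
  ext c
  simp only [A2, Set.mem_insert_iff, Set.mem_singleton_iff, neg_neg, show b + -(a + b) = -a by abel]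
  tauto

theorem A2_symm (a b : X.I → ℤ) : A2 X b a = A2 X a b := by
  ext c
  simp only [A2, Set.mem_insert_iff, Set.mem_singleton_iff, add_comm b a]
  tauto

theorem neg_mem_A2 {c : X.I → ℤ} (hc : c ∈ A2 X a b) : -c ∈ A2 X a b := by
  rcases hc with rfl | rfl | rfl | rfl | rfl | rfl <;> simp only [A2, Set.mem_insert_iff, Set.mem_singleton_iff,
    neg_neg, true_or, or_true]

/-- the images under plus or minus a rotation -/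
theorem of_rot (h : Bs X a b) {a' b' : X.I → ℤ} (hr : Rot X a b a' b') :
    Bs X a' b' ∧ A2 X a' b' = A2 X a b ∧ X.rf a' * X.rf b' = X.rf a * X.rf b := by
  have h1 : -(b + -(a + b)) = a := by abel
  have h2 := h.rot.rot
  have h3 := (A2_rot b (-(a + b))).trans (A2_rot a b)
  have h4 := h.rot.rf_rot.trans h.rf_rot
  rw [h1] at h2 h3 h4
  obtain ⟨ε, rfl | rfl, ⟨rfl, rfl⟩ | ⟨rfl, rfl⟩ | ⟨rfl, rfl⟩⟩ := hr <;> simp only [neg_smul, one_smul]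
  exacts [⟨h, trivial, trivial⟩, ⟨h.rot, A2_rot a b, h.rf_rot⟩, ⟨h2, h3, h4⟩, ⟨h.neg, A2_neg a b, h.rf_neg⟩,
    ⟨h.rot.neg, (A2_neg _ _).trans (A2_rot a b), h.rot.rf_neg.trans h.rf_rot⟩,
    ⟨h2.neg, (A2_neg _ _).trans h3, h2.rf_neg.trans h4⟩]

theorem g_add (h : Bs X a b) (h' : X.wt (X.g a) ⬝ᵥ X.cor (X.g b) = -1) : X.g (a + b) = X.g a + X.g b := by
  rw [← h.act, X.g_act _ h.ra, X.Fw_rf h.rb, act_rf (X.g_root b h.rb), show pr X _ _ = -1 from h', neg_smul, one_smul,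
    sub_neg_eq_add]

theorem g_mem (h : Bs X a b) (h' : X.wt (X.g a) ⬝ᵥ X.cor (X.g b) = -1) :
    ∀ c ∈ A2 X a b, X.g c ∈ A2 X (X.g a) (X.g b) := by
  rintro c (rfl | rfl | rfl | rfl | rfl | rfl) <;> simp only [X.g_neg h.ra, X.g_neg h.rb, X.g_neg h.add, g_add h h', A2,
    Set.mem_insert_iff, Set.mem_singleton_iff, true_or, or_true]

end Ln

open Ln

/-- **[LN]** -/
theorem boxLn : BoxLn := by
  intro p _ k _ _ Y _ N _ _ ρ F G _ X a b ha hb h1 h2 hL hr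
  have h : Bs X a b := ⟨ha, hb, h1, h2⟩
  obtain ⟨h3, h4, h5⟩ := of_rot h hr
  obtain ⟨Z, hZ, e⟩ := exists_Sz h.rt hL
  rw [← e]
  refine exists_fix hZ (e.symm ▸ fun c hc => h4 ▸ g_mem h h3.ab c hc) (e.symm ▸ mul_mem
    (subset_closure ⟨a, .inl rfl, rfl⟩) (subset_closure ⟨b, .inr (.inl rfl), rfl⟩)) ?_
  rw [map_mul, X.Fw_rf ha, X.Fw_rf hb, h5]

end Cfsg.Agent.RC.B
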