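import Cfsg.Agent.RC.B.Defs
import Cfsg.Agent.KM.Tor.K6

/-!
# RC, types `E₆`, `E₇`, `E₈` : the transfer kit (helper29)

`Kit X X₀` : coordinates `e` of the root lattice of `X`; `K.φ` (cocharacters to coweight coordinates), `K.ψ` (coroot
lattice), `K.tw w` (change of the chamber), normal forms `dom`, `std`, `kac`, `one`, `pair`.
-/

set_option autoImplicit false
set_option linter.unusedSectionVars false

namespace Cfsg.Agent.RC.B

open Cfsg Cfsg.Lie Cfsg.Agent.DL Cfsg.Agent.Nodes.Reps Matrix Cfsg.Agent.KM.Ht Cfsg.Agent.KM.Tor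
open Cfsg.Agent.KZ.DatX Cfsg.Agent.Nodes.RGDChev Cfsg.Agent.Nodes.Coroot Cfsg.Agent.ChevalleyStructure.NPerm
  Cfsg.Agent.ChevalleyStructure.CoxeterGeom Cfsg.Agent.ChevalleyStructure.CoxeterGeomTypes Cfsg.Agent.Tits.Roots
open Cfsg.Agent.TO.X.Cn (Pi1 PM cl cl_sr exists_exp pm_E6 pm_E7 pm_E8)
open Cfsg.Agent.H931.KC (hr Kac exists_ok exists_dom)
open Cfsg.Agent.H92.NE (bl bl_comm bl_rep bl_root)
open Cfsg.Agent.KM.Ex (sr_dot)

/-! ### the coroot map -/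

section Co

variable {C : ChevalleyDatum} {n : ℕ}

theorem sum_sr (a : Fin n → ℤ) : a = ∑ i, a i • sr i := by
  funext j
  rw [Finset.sum_apply, Finset.sum_eq_single j (fun i _ hi => by
    rw [Pi.smul_apply, sr_ne hi.symm, smul_zero]) fun h => absurd (Finset.mem_univ j) h, Pi.smul_apply, sr_self,
    smul_eq_mul, mul_one]

/-- `co` as an additive map -/
def coH (C : ChevalleyDatum) (n : ℕ) : (Fin n → ℤ) →+ (Fin n → ℤ) := AddMonoidHom.mk' (co C n) fun a b => funext fun j => by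
  simp only [co, Pi.add_apply, add_mul, Finset.sum_add_distrib]

theorem co_add (a b : Fin n → ℤ) : co C n (a + b) = co C n a + co C n b := (coH C n).map_add a b

theorem co_sub (a b : Fin n → ℤ) : co C n (a - b) = co C n a - co C n b := (coH C n).map_sub a b

theorem co_neg (a : Fin n → ℤ) : co C n (-a) = -co C n a := (coH C n).map_neg a

theorem co_zero : co C n 0 = 0 := (coH C n).map_zero

theorem co_smul (m : ℤ) (a : Fin n → ℤ) : co C n (m • a) = m • co C n a := map_zsmul (coH C n) m a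

theorem co_comm (h : SL C n) (a b : Fin n → ℤ) : a ⬝ᵥ co C n b = b ⬝ᵥ co C n a := by
  rw [dot_co, dot_co, bl_comm h.1.1]

theorem pm_co {f : ℕ} (h : PM C n f) (y : Fin n → ℤ) : ∃ β, (f : ℤ) • y = co C n β := by
  obtain ⟨B, h⟩ := h
  refine ⟨fun i => ∑ j, y j * B j i, funext fun m => ?_⟩
  simp only [co, Pi.smul_apply, smul_eq_mul, Finset.sum_mul, mul_assoc]
  rw [Finset.sum_comm]
  simp only [← Finset.mul_sum, h, mul_ite, mul_zero, Finset.sum_ite_eq', Finset.mem_univ, if_true, mul_comm]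

theorem co_inj (h : SL C n) {f : ℕ} (hf : f ≠ 0) (hP : PM C n f) : Function.Injective (co C n) :=
  (injective_iff_map_eq_zero (coH C n)).2 fun β hβ => funext fun i => by
    obtain ⟨γ, hγ⟩ := pm_co hP (sr i)
    have h1 := co_comm h β γ
    rw [← hγ, show co C n β = 0 from hβ, dotProduct_zero, dotProduct_smul, dotProduct_comm, sr_dot, smul_eq_mul] at h1
    exact (mul_eq_zero.1 h1).resolve_left (Int.natCast_ne_zero.2 hf)

/-- the finite checks : the highest root is the only dominant root, `j` is the node attached to it -/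
def PR (C : ChevalleyDatum) (n : ℕ) (j : Fin n) : Prop := (∀ s : Fin C.nroots, ∀ i, -2 ≤ co C n (vec C n s) i) ∧
  (∀ s : Fin C.nroots, (∀ i, 0 ≤ co C n (vec C n s) i) → vec C n s = hr C n) ∧ co C n (hr C n) = sr j ∧
  ∀ s : Fin C.nroots, vec C n s j = -1 → (∀ i, i ≠ j → 0 ≤ co C n (vec C n s) i) → vec C n s = -sr j

instance PR.dec (j : Fin n) : Decidable (PR C n j) := by unfold PR; infer_instance

theorem sl_E6 : SL chevE6 6 := by decide +kernel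

theorem sl_E7 : SL chevE7 7 := by decide +kernel

theorem sl_E8 : SL chevE8 8 := by decide +kernel

theorem pr_E6 : PR chevE6 6 1 := by decide +kernel

theorem pr_E7 : PR chevE7 7 0 := by decide +kernel

theorem pr_E8 : PR chevE8 8 7 := by decide +kernel

end Co

variable {p : ℕ} [Fact p.Prime] {k : Type} [Field k] [CharP k p] {Y : Type} [Group Y] {N : Type} [Fintype N]
  [DecidableEq N] {ρ : Y →* GL N k} {F : MulAut Y} {G : Subgroup Y} [IsAlgClosed k] (X : Datum p ρ F G)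
  {C : ChevalleyDatum} {n : ℕ} {M : CoxeterMatrix (Fin n)} {hp : IsType C n M} {Mx : Matrix (Fin n) (Fin n) ℤ}

/-- coordinates of the root lattice -/
structure Kit (X₀ : XF hp p k Mx) where
  e : (X.I → ℤ) ≃+ (Fin n → ℤ)
  rt : ∀ a, X.Rt a ↔ X₀.D.Rt (e a)
  pr : ∀ a b, X.Rt b → cpr X.cs X.h a b = e a ⬝ᵥ co C n (e b)

/-- simply connected, simply laced; `j` is the node attached to the highest root -/
structure Ok (C : ChevalleyDatum) (n : ℕ) (j : Fin n) : Prop where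
  pi : Pi1 X 1
  ss : ∀ v, Pp X {a | X.Rt a} v → v = 0
  sl : SL C n
  pm : ∃ f : ℕ, f ≠ 0 ∧ PM C n f
  pr : PR C n j

variable {X}

theorem Ty.kit (h : Ty X hp) : ∃ (Mx : Matrix (Fin n) (Fin n) ℤ) (X₀ : XF hp p k Mx), Nonempty (Kit X X₀) :=
  let ⟨Mx, X₀, e, h1, h2⟩ := h; ⟨Mx, X₀, ⟨⟨e, h1, h2⟩⟩⟩

theorem TE.ok6 {m : ℕ} (h : TE X m) : Ok X chevE6 6 1 := ⟨h.pi, h.ss, sl_E6, ⟨3, by decide, pm_E6⟩, pr_E6⟩

theorem TE.ok7 {m : ℕ} (h : TE X m) : Ok X chevE7 7 0 := ⟨h.pi, h.ss, sl_E7, ⟨2, by decide, pm_E7⟩, pr_E7⟩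

theorem TE.ok8 {m : ℕ} (h : TE X m) : Ok X chevE8 8 7 := ⟨h.pi, h.ss, sl_E8, ⟨1, by decide, pm_E8⟩, pr_E8⟩

theorem TE.kit6 (h : TE X 6) : ∃ (Mx : Matrix (Fin 6) (Fin 6) ℤ) (X₀ : XF hpE6 p k Mx), Nonempty (Kit X X₀) := by
  rcases h.ty with h | h | h
  exacts [h.2.kit, absurd h.1 (by decide), absurd h.1 (by decide)]

theorem TE.kit7 (h : TE X 7) : ∃ (Mx : Matrix (Fin 7) (Fin 7) ℤ) (X₀ : XF hpE7 p k Mx), Nonempty (Kit X X₀) := by
  rcases h.ty with h | h | h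
  exacts [absurd h.1 (by decide), h.2.kit, absurd h.1 (by decide)]

theorem TE.kit8 (h : TE X 8) : ∃ (Mx : Matrix (Fin 8) (Fin 8) ℤ) (X₀ : XF hpE8 p k Mx), Nonempty (Kit X X₀) := by
  rcases h.ty with h | h | h
  exacts [absurd h.1 (by decide), absurd h.1 (by decide), h.2.kit]

namespace Kit

variable {X₀ : XF hp p k Mx} (K : Kit X X₀) {j : Fin n}

theorem rt_symm (a : Fin n → ℤ) : X.Rt (K.e.symm a) ↔ X₀.D.Rt a := by rw [K.rt, AddEquiv.apply_symm_apply]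

theorem rt_sr (i : Fin n) : X.Rt (K.e.symm (sr i)) := (K.rt_symm _).2 (isRoot_sr _ _ i)

theorem rt_vec (s : Fin C.nroots) : X.Rt (K.e.symm (vec C n s)) := (K.rt_symm _).2 (KM.Tor.rt_vec X₀ s)

/-- a property of all roots from the table -/
theorem forall_rt {Q : (Fin n → ℤ) → Prop} (h : ∀ s : Fin C.nroots, Q (vec C n s)) {a : X.I → ℤ} (ha : X.Rt a) :
    Q (K.e a) := KM.Tor.forall_rt X₀ h _ ((K.rt a).1 ha)

/-- the values of the simple roots on a cocharacter -/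
noncomputable def φ : (X.R → ℤ) →+ (Fin n → ℤ) :=
  AddMonoidHom.mk' (fun v i => X.wt (K.e.symm (sr i)) ⬝ᵥ v) fun _ _ => funext fun _ => dotProduct_add _ _ _

theorem φ_apply (v : X.R → ℤ) (i : Fin n) : K.φ v i = X.wt (K.e.symm (sr i)) ⬝ᵥ v := rfl

theorem dot (a : X.I → ℤ) (v : X.R → ℤ) : X.wt a ⬝ᵥ v = K.e a ⬝ᵥ K.φ v := by
  conv_lhs => rw [← K.e.symm_apply_apply a, sum_sr (K.e a), map_sum, map_sum, sum_dotProduct]
  exact Finset.sum_congr rfl fun i _ => by rw [map_zsmul, map_zsmul, smul_dotProduct, smul_eq_mul, φ_apply]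

theorem dot_symm (a : Fin n → ℤ) (v : X.R → ℤ) : X.wt (K.e.symm a) ⬝ᵥ v = a ⬝ᵥ K.φ v := by
  rw [K.dot, AddEquiv.apply_symm_apply]

theorem wt_cor (a : X.I → ℤ) {b : X.I → ℤ} (hb : X.Rt b) : X.wt a ⬝ᵥ X.cor b = K.e a ⬝ᵥ co C n (K.e b) :=
  (X.pair_cor hb a).trans (K.pr a b hb)

theorem φ_cor {b : X.I → ℤ} (hb : X.Rt b) : K.φ (X.cor b) = co C n (K.e b) := funext fun i => by
  rw [φ_apply, K.wt_cor _ hb, AddEquiv.apply_symm_apply, sr_dot]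

/-- the coroot lattice -/
noncomputable def ψ : (Fin n → ℤ) →+ (X.R → ℤ) :=
  AddMonoidHom.mk' (fun β => ∑ i, β i • X.cor (K.e.symm (sr i))) fun _ _ => by
    simp only [Pi.add_apply, add_smul, Finset.sum_add_distrib]

theorem ψ_apply (β : Fin n → ℤ) : K.ψ β = ∑ i, β i • X.cor (K.e.symm (sr i)) := rfl

theorem φ_ψ (β : Fin n → ℤ) : K.φ (K.ψ β) = co C n β := by
  rw [ψ_apply, map_sum]
  conv_rhs => rw [sum_sr β]
  refine Eq.trans (Finset.sum_congr rfl fun i _ => ?_) (map_sum (coH C n) _ _).symm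
  rw [map_zsmul, map_zsmul, K.φ_cor (K.rt_sr i), AddEquiv.apply_symm_apply]
  rfl

theorem dot_ψ (a : X.I → ℤ) (β : Fin n → ℤ) : X.wt a ⬝ᵥ K.ψ β = K.e a ⬝ᵥ co C n β := by rw [K.dot, φ_ψ]

theorem χ_coch (a : X.I → ℤ) (v : X.R → ℤ) (ζ : kˣ) : X.χ a (X.τ (coch v ζ)) = (ζ ^ (K.e a ⬝ᵥ K.φ v) : kˣ) := by
  rw [X.χ_τ, chr_coch, ← K.dot]
  rfl

theorem χ_ψ (a : X.I → ℤ) (β : Fin n → ℤ) (ζ : kˣ) : X.χ a (X.τ (coch (K.ψ β) ζ)) = (ζ ^ (K.e a ⬝ᵥ co C n β) : kˣ) := by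
  rw [K.χ_coch, φ_ψ]

theorem act_rf {b : X.I → ℤ} (hb : X.Rt b) (a : X.I → ℤ) :
    K.e (X.act (X.rf b) a) = K.e a - (K.e a ⬝ᵥ co C n (K.e b)) • K.e b := by
  rw [X.act_rf hb, map_sub, map_zsmul, K.pr a b hb]

theorem act_rf' (hS : SL C n) {b : X.I → ℤ} (hb : X.Rt b) (a : X.I → ℤ) :
    K.e (X.act (X.rf b) a) = X₀.D.act (X₀.D.rf (K.e b)) (K.e a) := by
  have h1 := (K.rt b).1 hb
  refine (K.act_rf hb a).trans (Eq.trans ?_ (X₀.D.act_rf h1 _).symm)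
  exact congrArg (fun m : ℤ => K.e a - m • K.e b) ((congrArg (K.e a ⬝ᵥ ·) (cor_eq X₀ hS h1).symm).trans
    (X₀.D.pair_cor h1 (K.e a)))

theorem act_one' (a : X.I → ℤ) : X.act 1 a = a := by simp only [Datum.act, map_one, Module.End.one_apply]

theorem exists_W (hS : SL C n) (w₀ : X₀.D.W) : ∃ w : X.W, ∀ a, K.e (X.act w a) = X₀.D.act w₀ (K.e a) := by
  induction w₀ using X₀.D.cs.simple_induction with
  | simple i => exact ⟨X.rf (K.e.symm (sr i)), fun a => (K.act_rf' hS (K.rt_sr i) a).trans (by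
      rw [AddEquiv.apply_symm_apply]
      exact congrArg (X₀.D.act · (K.e a)) (X₀.D.rf_sr i))⟩
  | one => exact ⟨1, fun a => (congrArg K.e (act_one' a)).trans (act_one' (X := X₀.D) _).symm⟩
  | mul u v hu hv =>
    obtain ⟨u', hu⟩ := hu
    obtain ⟨v', hv⟩ := hv
    exact ⟨u' * v', fun a => Eq.trans (by rw [act_mul', hu, hv]) (act_mul' (X := X₀.D) u v _).symm⟩

theorem exists_W' (hS : SL C n) (w : X.W) : ∃ w₀ : X₀.D.W, ∀ a, K.e (X.act w a) = X₀.D.act w₀ (K.e a) := by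
  induction w using X.cs.simple_induction with
  | simple i => exact ⟨X₀.D.rf (K.e (sr i)), fun a => by rw [← K.act_rf' hS (isRoot_sr _ _ i), X.rf_sr]⟩
  | one => exact ⟨1, fun a => (congrArg K.e (act_one' a)).trans (act_one' (X := X₀.D) _).symm⟩
  | mul u v hu hv =>
    obtain ⟨u', hu⟩ := hu
    obtain ⟨v', hv⟩ := hv
    exact ⟨u' * v', fun a => Eq.trans (by rw [act_mul', hu, hv]) (act_mul' (X := X₀.D) u' v' _).symm⟩

/-! #### change of the chamber -/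

/-- the coordinates `w ∘ e` -/
noncomputable def tw (hS : SL C n) (w : X₀.D.W) : Kit X X₀ where
  e := K.e.trans ⟨⟨X₀.D.act w, X₀.D.act w⁻¹, act_inv_act w, act_act_inv w⟩, fun a b => map_add (rep X₀.D.cs X₀.D.h w) a b⟩
  rt a := (K.rt a).trans (rt_act (X := X₀.D) w).symm
  pr a b hb := (K.pr a b hb).trans ((dot_co _ _).trans ((bl_rep hp hS.1 w _ _).symm.trans (dot_co _ _).symm))

theorem tw_e (hS : SL C n) (w : X₀.D.W) (a : X.I → ℤ) : (K.tw hS w).e a = X₀.D.act w (K.e a) := rfl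

theorem tw_φ (hS : SL C n) (w : X₀.D.W) (v : X.R → ℤ) : (K.tw hS w).φ v = X₀.D.Wm w *ᵥ K.φ v := funext fun i =>
  (K.dot_symm (X₀.D.act w⁻¹ (sr i)) v).trans ((dot_Wm (X := X₀.D) w (sr i) (K.φ v)).symm.trans (sr_dot i _))

theorem tw_W (hS : SL C n) (w₀ : X₀.D.W) : ∃ w : X.W, ∀ a, (K.tw hS w₀).e a = K.e (X.act w a) :=
  (K.exists_W hS w₀).imp fun _ h a => (h a).symm

/-- a cocharacter is dominant in some chamber -/
theorem dom (hS : SL C n) (v : X.R → ℤ) : ∃ w, ∀ i, 0 ≤ (K.tw hS w).φ v i := by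
  obtain ⟨_, _, _, _, H⟩ := exists_ok hp
  obtain ⟨w, hw⟩ : ∃ w : X₀.D.W, ∀ i : Fin n, 0 ≤ X₀.D.wt (X₀.D.act w (sr i)) ⬝ᵥ K.φ v :=
    exists_dom hp H (H931.KC.psi (K.φ v))
  exact ⟨w⁻¹, fun i => (hw i).trans_eq ((dot_Wm' (X := X₀.D) w (sr i) _).symm.trans
    ((sr_dot i _).trans (congrFun (K.tw_φ hS w⁻¹ v).symm i)))⟩

/-- the roots orthogonal to a dominant cocharacter -/
theorem dot_eq_zero {v : X.R → ℤ} (h : ∀ i, 0 ≤ K.φ v i) {a : X.I → ℤ} (ha : X.Rt a) :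
    X.wt a ⬝ᵥ v = 0 ↔ ∀ i, K.φ v i ≠ 0 → K.e a i = 0 := by
  rw [K.dot]
  refine of_pos X₀ (Q := fun a => a ⬝ᵥ K.φ v = 0 ↔ ∀ i, K.φ v i ≠ 0 → a i = 0) (fun a h => by
    simpa only [neg_dotProduct, Pi.neg_apply, neg_eq_zero] using h) (fun a _ h0 => ?_) _ ((K.rt a).1 ha)
  refine (Finset.sum_eq_zero_iff_of_nonneg fun i _ => mul_nonneg (h0 i) (h i)).trans ?_
  exact ⟨fun h1 i hi => (mul_eq_zero.1 (h1 i (Finset.mem_univ _))).resolve_right hi,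
    fun h1 i _ => mul_eq_zero.2 (or_iff_not_imp_right.2 (h1 i))⟩

include K in
/-- Levi subsystems are standard in some chamber -/
theorem std (hS : SL C n) {Ψ : Set (X.I → ℤ)} (h0 : ∀ a ∈ Ψ, X.Rt a) (h : Lvs X Ψ) :
    ∃ (K' : Kit X X₀) (J : Finset (Fin n)), ∀ a, a ∈ Ψ ↔ X.Rt a ∧ ∀ i ∈ J, K'.e a i = 0 := by
  obtain ⟨v, hv⟩ := h
  obtain ⟨w, hw⟩ := K.dom hS v
  refine ⟨K.tw hS w, Finset.univ.filter fun i => (K.tw hS w).φ v i ≠ 0, fun a => ?_⟩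
  simp only [Finset.mem_filter, Finset.mem_univ, true_and]
  exact ⟨fun ha => ⟨h0 a ha, (dot_eq_zero _ hw (h0 a ha)).1 ((hv a (h0 a ha)).1 ha)⟩,
    fun ha => (hv a ha.1).2 ((dot_eq_zero _ hw ha.1).2 ha.2)⟩

/-- the cocharacters orthogonal to a standard Levi subsystem -/
theorem pp_std {Ψ : Set (X.I → ℤ)} {J : Finset (Fin n)} (h : ∀ a, a ∈ Ψ ↔ X.Rt a ∧ ∀ i ∈ J, K.e a i = 0) (v : X.R → ℤ) :
    Pp X Ψ v ↔ ∀ i, i ∉ J → K.φ v i = 0 := by
  refine ⟨fun hv i hi => hv _ ((h _).2 ⟨K.rt_sr i, fun j hj => ?_⟩), fun hv a ha => ?_⟩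
  · rw [AddEquiv.apply_symm_apply]
    exact sr_ne fun e => hi (e ▸ hj)
  · rw [K.dot]
    refine Finset.sum_eq_zero fun i _ => ?_
    by_cases hi : i ∈ J
    · rw [((h a).1 ha).2 i hi, zero_mul]
    · rw [hv i hi, mul_zero]

include K in
/-- Kac coordinates in some chamber -/
theorem kac (hS : SL C n) {m : ℕ} (hm : 0 < m) (v : X.R → ℤ) : ∃ (K' : Kit X X₀) (c : Fin n → ℕ) (c0 : ℕ) (d : Fin n → ℤ),
    Kac C n m c c0 ∧ K'.φ v = (fun i => (c i : ℤ)) + (m : ℤ) • d := by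
  obtain ⟨w, c, c0, d, h1, h2⟩ := alc X₀ hm (K.φ v)
  refine ⟨K.tw hS w⁻¹, c, c0, X₀.D.Wm w⁻¹ *ᵥ d, h1, (K.tw_φ hS w⁻¹ v).trans ((congrArg (X₀.D.Wm w⁻¹ *ᵥ ·) h2).trans ?_)⟩
  have h3 := Wm_Wm_inv (X := X₀.D) w⁻¹ (fun i : Fin n => (c i : ℤ))
  rw [inv_inv] at h3
  exact (mulVec_add _ _ _).trans (congrArg₂ (· + ·) h3 (mulVec_smul _ _ _))

/-! #### simply connected groups -/

section Ok

variable (H : Ok X C n j)
include H

theorem φ_inj : Function.Injective K.φ := (injective_iff_map_eq_zero K.φ).2 fun v hv => H.ss v fun a _ => by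
  rw [K.dot, hv, dotProduct_zero]

theorem cor_eq {b : X.I → ℤ} (hb : X.Rt b) : X.cor b = K.ψ (K.e b) := K.φ_inj H (by rw [K.φ_cor hb, φ_ψ])

theorem cl_eq (γ : X.I → ℤ) : cl X γ = K.ψ (K.e γ) := by
  conv_rhs => rw [X.eq_sum_sr γ, map_sum, map_sum]
  exact Finset.sum_congr rfl fun i _ => by rw [map_zsmul, map_zsmul, ← K.cor_eq H (isRoot_sr _ _ i), X.cor_sr]

theorem ψ_inj : Function.Injective K.ψ := fun a b h => by
  obtain ⟨f, hf, hP⟩ := H.pm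
  exact co_inj H.sl hf hP (by rw [← K.φ_ψ, h, φ_ψ])

theorem exists_ψ (v : X.R → ℤ) : ∃ β, v = K.ψ β := by
  obtain ⟨f, hf, hP⟩ := H.pm
  obtain ⟨β, hβ⟩ := pm_co hP (K.φ v)
  obtain ⟨γ, hγ⟩ := H.pi v f (K.e.symm β) (Int.natCast_ne_zero.2 hf) (K.φ_inj H (by
    rw [K.cl_eq H, AddEquiv.apply_symm_apply, φ_ψ, map_zsmul, hβ]))
  exact ⟨K.e γ, by rw [← K.cl_eq H, ← hγ, Nat.cast_one, one_smul]⟩

theorem dvd_ψ (m : ℤ) (β : Fin n → ℤ) : (∀ r, m ∣ K.ψ β r) ↔ ∀ i, m ∣ β i := by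
  refine ⟨fun h => ?_, fun h => ?_⟩
  · choose u hu using h
    obtain ⟨γ, rfl⟩ := K.exists_ψ H u
    obtain rfl : β = m • γ := K.ψ_inj H (by rw [map_zsmul]; exact funext hu)
    exact fun i => Dvd.intro _ rfl
  · choose u hu using h
    obtain rfl : β = m • u := funext hu
    exact fun r => by rw [map_zsmul]; exact Dvd.intro _ rfl

theorem τ_ψ_eq_one (β : Fin n → ℤ) (ζ : kˣ) : X.τ (coch (K.ψ β) ζ) = 1 ↔ ∀ i, (orderOf ζ : ℤ) ∣ β i := by
  rw [← K.dvd_ψ H, ← map_one X.τ, X.τ_inj.eq_iff, funext_iff]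
  exact forall_congr' fun r => orderOf_dvd_iff_zpow_eq_one.symm

/-- the elements of the torus -/
theorem exists_el {t : Y} (ht : t ∈ X.T) : ∃ (ζ : kˣ) (β : Fin n → ℤ), 0 < orderOf ζ ∧ orderOf ζ ∣ orderOf t ∧
    t = X.τ (coch (K.ψ β) ζ) := by
  obtain ⟨ζ, v, h1, h2, h3⟩ := exists_exp X ht
  obtain ⟨β, rfl⟩ := K.exists_ψ H v
  exact ⟨ζ, β, h1, h2, h3⟩

/-- a root is the highest root of some chamber -/
theorem one {a : X.I → ℤ} (ha : X.Rt a) : ∃ w, (K.tw H.sl w).e a = hr C n :=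
  (K.dom H.sl (X.cor a)).imp fun w hw => (K.tw H.sl w).forall_rt (Q := fun a => (∀ i, 0 ≤ co C n a i) → a = hr C n)
    H.pr.2.1 ha fun i => (hw i).trans_eq (congrFun (φ_cor _ ha) i)

include K in
/-- normal form of a subsystem of type `A₂` -/
theorem pair {a b : X.I → ℤ} (ha : X.Rt a) (hb : X.Rt b) (h : X.wt a ⬝ᵥ X.cor b = -1) :
    ∃ K' : Kit X X₀, K'.e a = hr C n ∧ K'.e b = -sr j := by
  obtain ⟨w, hw⟩ := K.dom H.sl ((3 : ℤ) • X.cor a + X.cor b)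
  generalize K.tw H.sl w = K' at hw
  rw [map_add, map_zsmul, K'.φ_cor ha, K'.φ_cor hb] at hw
  have h1 : K'.e a = hr C n := K'.forall_rt (Q := fun a => (∀ i, 0 ≤ co C n a i) → a = hr C n) H.pr.2.1 ha fun i => by
    have h2 := hw i
    have h3 := K'.forall_rt (Q := fun a => -2 ≤ co C n a i) (fun s => H.pr.1 s i) hb.neg
    rw [map_neg, co_neg, Pi.neg_apply] at h3
    rw [Pi.add_apply, Pi.smul_apply, smul_eq_mul] at h2
    omega
  refine ⟨K', h1, K'.forall_rt (Q := fun b => b j = -1 → (∀ i, i ≠ j → 0 ≤ co C n b i) → b = -sr j) H.pr.2.2.2 hb ?_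
    fun i hi => ?_⟩
  · rwa [K'.wt_cor a hb, co_comm H.sl, h1, H.pr.2.2.1, dotProduct_comm, sr_dot] at h
  · have h2 := hw i
    rwa [h1, H.pr.2.2.1, Pi.add_apply, Pi.smul_apply, sr_ne hi, smul_zero, zero_add] at h2

include K in
/-- the Weyl group is transitive on the roots -/
theorem trans {a b : X.I → ℤ} (ha : X.Rt a) (hb : X.Rt b) : ∃ w : X.W, X.act w a = b := by
  obtain ⟨u, hu⟩ := K.one H ha
  obtain ⟨v, hv⟩ := K.one H hb
  obtain ⟨u', hu'⟩ := K.tw_W H.sl u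
  obtain ⟨v', hv'⟩ := K.tw_W H.sl v
  exact ⟨v'⁻¹ * u', by rw [act_mul', K.e.injective ((hu' a).symm.trans (hu.trans (hv.symm.trans (hv' b)))), act_inv_act]⟩

include K in
theorem ex_eq {a b : X.I → ℤ} (ha : X.Rt a) (hb : X.Rt b) : X.ex a = X.ex b := by
  obtain ⟨w, rfl⟩ := K.trans H ha hb
  exact (X.ex_act w ha).symm

/-- `F` is `q` times an isometry `γ` of the root lattice -/
theorem exists_γ : ∃ (f : ℕ) (γ : (Fin n → ℤ) →+ (Fin n → ℤ)), (∀ a, X.Rt a → X.ex a = f ∧ K.e (X.g a) = γ (K.e a)) ∧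
    (∀ β, X.Mx *ᵥ K.ψ β = (p : ℤ) ^ f • K.ψ (γ β)) ∧ ∀ a b, γ a ⬝ᵥ co C n (γ b) = a ⬝ᵥ co C n b := by
  obtain ⟨γ, hγ⟩ : ∃ γ : (Fin n → ℤ) →+ (Fin n → ℤ), ∀ β, γ β = ∑ i, β i • K.e (X.g (K.e.symm (sr i))) :=
    ⟨AddMonoidHom.mk' (fun β => ∑ i, β i • K.e (X.g (K.e.symm (sr i)))) fun _ _ => by
      simp only [Pi.add_apply, add_smul, Finset.sum_add_distrib], fun _ => rfl⟩
  have h0 := fun a ha => K.ex_eq H (a := a) ha (K.rt_sr j)
  generalize X.ex (K.e.symm (sr j)) = f at h0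
  have hq : (p : ℤ) ^ f ≠ 0 := pow_ne_zero _ (Int.natCast_ne_zero.2 (Fact.out : p.Prime).ne_zero)
  have h1 : ∀ β, X.ψ (K.e.symm (γ β)) = (p : ℤ) ^ f • K.e.symm β := fun β => by
    conv_rhs => rw [sum_sr β, map_sum, Finset.smul_sum]
    rw [hγ, map_sum, map_sum]
    exact Finset.sum_congr rfl fun i _ => by
      rw [map_zsmul, map_zsmul, map_zsmul, AddEquiv.symm_apply_apply, X.ψ_g (K.rt_sr i), h0 _ (K.rt_sr i), smul_comm]
  have h2 : ∀ β, X.Mx *ᵥ K.ψ β = (p : ℤ) ^ f • K.ψ (γ β) := fun β => by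
    rw [hγ, map_sum, ψ_apply, mulVec_sum, Finset.smul_sum]
    exact Finset.sum_congr rfl fun i _ => by
      rw [mulVec_smul, map_zsmul, X.Mx_cor (K.rt_sr i), h0 _ (K.rt_sr i), K.cor_eq H (X.g_root _ (K.rt_sr i)), smul_comm]
  refine ⟨f, γ, fun a ha => ⟨h0 a ha, K.e.symm.injective (X.ψ_injective ?_)⟩, h2, fun a b => mul_left_cancel₀ hq ?_⟩
  · rw [h1, AddEquiv.symm_apply_apply, AddEquiv.symm_apply_apply, X.ψ_g ha, h0 a ha]
  · have h3 := congrArg (X.wt (K.e.symm (γ a)) ⬝ᵥ ·) (h2 b)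
    rw [dotProduct_mulVec, ← X.wt_ψ, h1, map_zsmul, smul_dotProduct, dotProduct_smul, K.dot_ψ, K.dot_ψ,
      AddEquiv.apply_symm_apply, AddEquiv.apply_symm_apply] at h3
    exact h3.symm

end Ok

end Kit

end Cfsg.Agent.RC.B
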