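import Cfsg.Agent.RC.B.Kit

/-!
# RC, types `E₆`, `E₇`, `E₈` : `boxTy`, `boxK0` (helper29)
-/

set_option autoImplicit false
set_option linter.unusedSectionVars false

namespace Cfsg.Agent.RC.B

open Cfsg Cfsg.Lie Cfsg.Agent.DL Cfsg.Agent.Nodes.Reps Matrix Cfsg.Agent.KM.Ht Cfsg.Agent.KM.Tor
open Cfsg.Agent.KZ.DatX Cfsg.Agent.Nodes.RGDChev Cfsg.Agent.Nodes.Coroot Cfsg.Agent.ChevalleyStructure.NPerm
  Cfsg.Agent.ChevalleyStructure.CoxeterGeom Cfsg.Agent.ChevalleyStructure.CoxeterGeomTypes Cfsg.Agent.Tits.Roots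
open Cfsg.Agent.H931.KC (hr)
open Cfsg.Agent.KM.Ex (sr_dot)

variable {p : ℕ} [Fact p.Prime] {k : Type} [Field k] [CharP k p] {Y : Type} [Group Y] {N : Type} [Fintype N]
  [DecidableEq N] {ρ : Y →* GL N k} {F : MulAut Y} {G : Subgroup Y} [IsAlgClosed k] {X : Datum p ρ F G}
  {C : ChevalleyDatum} {n : ℕ} {M : CoxeterMatrix (Fin n)} {hp : IsType C n M} {Mx : Matrix (Fin n) (Fin n) ℤ}

/-! ### the type -/

theorem pr_self (X₀ : XF hp p k Mx) (hS : SL C n) (a : Fin n → ℤ) {b : Fin n → ℤ} (hb : X₀.D.Rt b) :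
    cpr X₀.D.cs X₀.D.h a b = a ⬝ᵥ co C n b :=
  (X₀.D.pair_cor hb a).symm.trans (congrArg (a ⬝ᵥ ·) (cor_eq X₀ hS hb))

/-- an isomorphism of the root lattices which preserves the roots preserves the pairing -/
theorem pr_of_rt (X₀ : XF hp p k Mx) (hS : SL C n) (e : (X.I → ℤ) ≃+ (Fin n → ℤ)) (he : ∀ a, X.Rt a ↔ X₀.D.Rt (e a))
    (a : X.I → ℤ) {b : X.I → ℤ} (hb : X.Rt b) : cpr X.cs X.h a b = e a ⬝ᵥ co C n (e b) := by
  have hb' := (he b).1 hb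
  obtain ⟨δ, hδ⟩ : ∃ δ : (X.I → ℤ) →+ ℤ, ∀ a, δ a = e a ⬝ᵥ co C n (e b) - cpr X.cs X.h a b :=
    ⟨AddMonoidHom.mk' (fun a => e a ⬝ᵥ co C n (e b) - cpr X.cs X.h a b) fun x y => by
      rw [map_add, add_dotProduct, cpr_add _ _ _ _ hb]; ring, fun _ => rfl⟩
  have h0 : δ b = 0 := by rw [hδ, ← pr_self X₀ hS _ hb', cpr_self _ _ hb', cpr_self _ _ hb, sub_self]
  have h1 : ∀ a, X.Rt a → X.Rt (a + δ a • b) := fun a ha => by
    have h2 : X.Rt (a + (-(e a ⬝ᵥ co C n (e b))) • b) := (he _).2 (by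
      rw [map_add, map_zsmul, neg_smul, ← sub_eq_add_neg, ← pr_self X₀ hS _ hb']
      exact isRoot_refl _ _ ((he a).1 ha) hb')
    have h3 := isRoot_refl _ _ h2 hb
    rw [cpr_add _ _ _ _ hb, cpr_smul _ _ _ _ hb, cpr_self _ _ hb] at h3
    convert h3 using 1
    rw [hδ]
    module
  have h2 : ∀ a, X.Rt a → δ a = 0 := fun a ha => by
    by_contra h3
    have h4 : ∀ m : ℕ, X.Rt (a + ((m : ℤ) * δ a) • b) := fun m => by
      induction m with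
      | zero => rwa [Nat.cast_zero, zero_mul, zero_smul, add_zero]
      | succ m ih =>
        have h5 := h1 _ ih
        rwa [map_add, map_zsmul, h0, smul_zero, add_zero, add_assoc, ← add_smul, ← add_one_mul, ← Nat.cast_succ] at h5
    exact Set.infinite_of_injective_forall_mem (s := {a | X.Rt a}) (f := fun m : ℕ => a + ((m : ℤ) * δ a) • b) (fun m m' h => by
      exact_mod_cast mul_right_cancel₀ h3 (smul_left_injective ℤ hb.ne_zero (add_left_cancel h))) h4 X.finite_roots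
  have h3 : δ a = 0 := by
    rw [X.eq_sum_sr a, map_sum]
    exact Finset.sum_eq_zero fun i _ => by rw [map_zsmul, h2 _ (isRoot_sr _ _ i), smul_zero]
  rw [hδ] at h3
  exact (sub_eq_zero.1 h3).symm

theorem boxTy : BoxTy := fun {C n M} hp p _ k _ _ _ Mx X₀ hS => by
  refine ⟨⟨⟨Mx, X₀, AddEquiv.refl _, fun _ => Iff.rfl, fun a _ hb => pr_self X₀ hS a hb⟩, fun v hv => funext fun i =>
    (sr_dot i v).symm.trans (hv (sr i) (isRoot_sr _ _ i))⟩, fun {Y} _ _ _ _ _ _ _ X θ z I => ?_⟩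
  have hz : (z : ℤ) ≠ 0 := Int.natCast_ne_zero.2 I.pos.ne'
  obtain ⟨P, Q, PQ, QP, r1, r2⟩ : ∃ (P : Matrix (Fin n) X.R ℤ) (Q : Matrix X.R (Fin n) ℤ),
      P * Q = (z : ℤ) • (1 : Matrix (Fin n) (Fin n) ℤ) ∧
      Q * P = (z : ℤ) • (1 : Matrix X.R X.R ℤ) ∧ (∀ a', X.Rt a' → ∃ a : Fin n → ℤ, X₀.D.Rt a ∧ X.wt a' = a ᵥ* P) ∧
      ∀ a : Fin n → ℤ, X₀.D.Rt a → ∃ a', X.Rt a' ∧ X.wt a' = a ᵥ* P := ⟨I.P, I.Q, I.PQ, I.QP, I.root, I.root'⟩
  have hP : ∀ x y : Fin n → ℤ, x ᵥ* P = y ᵥ* P → x = y := fun x y h => by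
    have h1 := congrArg (· ᵥ* Q) h
    simp only [vecMul_vecMul, PQ] at h1
    rw [Matrix.vecMul_smul, Matrix.vecMul_smul, vecMul_one, vecMul_one] at h1
    exact smul_right_injective _ hz h1
  choose r _ hr using fun i => r1 (sr i) (isRoot_sr _ _ i)
  obtain ⟨e, he⟩ : ∃ e : (X.I → ℤ) →+ (Fin n → ℤ), ∀ a, X.wt a = e a ᵥ* P := by
    refine ⟨AddMonoidHom.mk' (fun a => ∑ i, a i • r i) fun _ _ => by
      simp only [Pi.add_apply, add_smul, Finset.sum_add_distrib], fun a => ?_⟩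
    conv_lhs => rw [X.eq_sum_sr a, map_sum]
    rw [AddMonoidHom.mk'_apply, sum_vecMul]
    exact Finset.sum_congr rfl fun i _ => by rw [map_zsmul, hr, smul_vecMul]
  have hb : Function.Bijective e := ⟨fun a b h => X.wt_injective (by rw [he, he, h]), fun x => by
    choose s _ hs using fun i => r2 (sr i) (isRoot_sr _ _ i)
    refine ⟨∑ i, x i • s i, ?_⟩
    conv_rhs => rw [sum_sr x]
    rw [map_sum]
    exact Finset.sum_congr rfl fun i _ => by rw [map_zsmul, hP _ _ ((he _).symm.trans (hs i))]⟩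
  have hR : ∀ a, X.Rt a ↔ X₀.D.Rt (AddEquiv.ofBijective e hb a) := fun a => ⟨fun ha => by
    obtain ⟨x, h1, h2⟩ := r1 a ha
    exact (hP _ _ (h2.symm.trans (he a))) ▸ h1, fun ha => by
    obtain ⟨x, h1, h2⟩ := r2 _ ha
    exact X.wt_injective (h2.trans (he a).symm) ▸ h1⟩
  refine ⟨⟨Mx, X₀, _, hR, fun a _ hb => pr_of_rt X₀ hS _ hR a hb⟩, fun v hv => smul_right_injective _ hz ?_⟩
  have h1 : P *ᵥ v = 0 := funext fun i => by
    obtain ⟨x, h1, h2⟩ := r2 _ (isRoot_sr _ _ i)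
    have h3 := hv x h1
    rwa [h2, ← dotProduct_mulVec, sr_dot] at h3
  have h2 := congrArg (Q *ᵥ ·) h1
  simp only [mulVec_mulVec, QP, smul_mulVec, one_mulVec, mulVec_zero] at h2
  exact h2.trans (smul_zero _).symm

/-! ### subsystems of type `A₂` -/

/-- the finite check -/
def LAc (C : ChevalleyDatum) (n : ℕ) (j i : Fin n) (β β' : Fin n → ℤ) : Prop :=
  (∀ s : Fin C.nroots, A2P (hr C n) (-sr j) (vec C n s) ↔ vec C n s ⬝ᵥ co C n β = 0) ∧ hr C n ⬝ᵥ co C n β' = 0 ∧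
  -sr j ⬝ᵥ co C n β' = 0 ∧ (∀ r, 3 ∣ (β' - (hr C n - -sr j)) r) ∧ ¬ 3 ∣ sr i ⬝ᵥ co C n (hr C n - -sr j)

instance LAc.dec (j i : Fin n) (β β' : Fin n → ℤ) : Decidable (LAc C n j i β β') := by unfold LAc; infer_instance

theorem Kit.mem_A2 {X₀ : XF hp p k Mx} (K : Kit X X₀) (a b c : X.I → ℤ) :
    c ∈ A2 X a b ↔ A2P (K.e a) (K.e b) (K.e c) := by
  simp only [A2, A2P, Set.mem_insert_iff, Set.mem_singleton_iff, ← map_add, ← map_neg, K.e.injective.eq_iff]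

theorem pp_A2 {a b : X.I → ℤ} {v : X.R → ℤ} : Pp X (A2 X a b) v ↔ X.wt a ⬝ᵥ v = 0 ∧ X.wt b ⬝ᵥ v = 0 := by
  refine ⟨fun h => ⟨h a (.inl rfl), h b (.inr (.inl rfl))⟩, fun h c hc => ?_⟩
  rcases hc with rfl | rfl | rfl | rfl | rfl | rfl <;>
    simp only [map_add, map_neg, add_dotProduct, neg_dotProduct, h.1, h.2, add_zero, neg_zero]

theorem Kit.la {X₀ : XF hp p k Mx} (K : Kit X X₀) {j i : Fin n} (H : Ok X C n j) {β β' : Fin n → ℤ}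
    (h : LAc C n j i β β') : Sl X ∧ LA X := by
  refine ⟨fun a b ha hb => by rw [K.wt_cor a hb, K.wt_cor b ha, co_comm H.sl], fun a b ha hb hab => ?_⟩
  obtain ⟨K, h1, h2⟩ := K.pair H ha hb hab
  have h3 : X.cor a - X.cor b = K.ψ (hr C n - -sr j) := by rw [K.cor_eq H ha, K.cor_eq H hb, h1, h2, map_sub]
  refine ⟨⟨K.ψ β, fun c hc => ?_⟩, ⟨K.ψ β', pp_A2.2 ⟨?_, ?_⟩, ?_⟩, _, K.rt_sr i, ?_⟩
  · rw [K.mem_A2, h1, h2, K.dot_ψ]
    exact K.forall_rt (Q := fun c => A2P (hr C n) (-sr j) c ↔ c ⬝ᵥ co C n β = 0) h.1 hc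
  · rw [K.dot_ψ, h1, h.2.1]
  · rw [K.dot_ψ, h2, h.2.2.1]
  · rw [h3, ← map_sub]
    exact (K.dvd_ψ H 3 _).2 h.2.2.2.1
  · rw [h3, K.dot_ψ, AddEquiv.apply_symm_apply]
    exact h.2.2.2.2

theorem lac6 : LAc chevE6 6 1 3 ![-1, 0, 3, 0, 2, 0] ![1, 0, 2, 0, 2, 1] := by decide +kernel

theorem lac7 : LAc chevE7 7 0 2 ![0, 0, 0, -2, 1, 5, -1] ![0, 2, 0, 1, 0, 2, 1] := by decide +kernel

theorem lac8 : LAc chevE8 8 7 6 ![4, -1, 0, 1, 7, -7, 0, 0] ![2, 0, 1, 0, 2, 1, 0, 0] := by decide +kernel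

theorem boxK0 : BoxK0 := fun _ _ h => by
  rcases h.ty with h1 | h1 | h1 <;> obtain ⟨_, _, ⟨K⟩⟩ := h1.2.kit
  exacts [K.la h.ok6 lac6, K.la h.ok7 lac7, K.la h.ok8 lac8]

end Cfsg.Agent.RC.B
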