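import Cfsg.Agent.RC.B.Defs
import Cfsg.Agent.H658.Major
import Cfsg.Agent.H648.Dict

/-!
# RC (S4576), box [BR] (helper32)
-/

set_option autoImplicit false

namespace Cfsg.Agent.RC.B

open Cfsg Subgroup Cfsg.Agent.H662

variable {G : Type} [Group G] [Finite G] {l : ℕ} {M : Ideal AlgInt} {B : Set (IrrCharacter G)} {D : Subgroup G}

/-- a subgroup which contains `D C(D)` has a block with defect group `D` -/
theorem exists_blk_over (hM : IsPModular l M) (hB : IsPBlock M B) (hD : IsDefectGroup l M B D) {U : Subgroup G} (h1 : D ≤ U)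
    (h2 : centralizer (D : Set G) ≤ U) : ∃ f : Set (IrrCharacter U), IsPBlock M f ∧ IsInducedBlock M U f B ∧
      IsDefectGroup l M f (D.subgroupOf U) := by
  have : Fact l.Prime := ⟨hM.1⟩
  obtain ⟨b, hb, h3⟩ := (S0973.result l M hM B hB D hD).1
  have h4 := sup_le h1 h2
  obtain ⟨f, hf, h5⟩ := exists_in_overgroup hM (Blocks.Basic.isPGroup_of_isDefectGroup hD) le_sup_left le_sup_right
    (H658.root_le_normalizer D) h4 h3.1
  have h6 := (isInducedBlockIn_iff h4).1 hf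
  obtain ⟨E, hE, h7⟩ := S0917.result l M hM _ _ h6.1 f hf.2.1 h6 _ (isDefectGroup_trB (eIn h4).symm hb)
  have h8 : D.subgroupOf U ≤ E := fun x hx => h7 ⟨⟨x, mem_sup_left hx⟩, ⟨⟨x, mem_sup_left hx⟩, hx, rfl⟩, rfl⟩
  refine ⟨f, hf.2.1, h5 B h3, (eq_of_le_of_card_ge h8 ?_).symm ▸ hE⟩
  rw [Nat.card_congr (subgroupOfEquivOfLe h1).toEquiv, S0908.result l M hM f hf.2.1 E hE, S0908.result l M hM B hB D hD]
  exact Nat.pow_le_pow_right hM.1.pos (H658.defect_le_of_induced hM (h5 B h3))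

theorem exists_hz (hM : IsPModular l M) (hB : IsPBlock M B) (hD : IsDefectGroup l M B D) : ∃ θ ∈ B,
    (Nat.card G).factorization l ≤ (charDegree (θ : G → ℂ)).factorization l + (Nat.card D).factorization l := by
  have : Fact l.Prime := ⟨hM.1⟩
  have := hM.2.1.isPrime
  obtain ⟨θ, h1, h2⟩ := Nat.sInf_mem (s := (fun χ : IrrCharacter G => (charDegree (χ : G → ℂ)).factorization l) '' B)
    (Set.Nonempty.image _ (Blocks.Basic.isPBlock_nonempty hB))
  refine ⟨θ, h1, ?_⟩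
  rw [S0908.result l M hM B hB D hD, Nat.factorization_pow_self hM.1, blockDefect, ← h2]
  exact le_add_tsub

theorem boxBR : BoxBR := fun l Y _ H _ M B D hM hB hD R C h1 h2 hC => by
  have : Fact l.Prime := ⟨hM.1⟩
  have := hM.2.1.isPrime
  let R' := R.subgroupOf H
  have h3 : R' ≤ D := fun x hx => (mem_map_iff_mem H.subtype_injective).1 (h1 hx)
  have h4 : D ≤ normalizer (R' : Set H) := fun d hd => mem_normalizer_fintype fun x hx => h2 d ⟨d, hd, rfl⟩ x hx
  obtain ⟨f, hf, -, h5⟩ := exists_blk_over hM hB hD h4 ((centralizer_le h3).trans (centralizer_le_normalizer _))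
  let N := (centralizer (R' : Set H)).subgroupOf (normalizer (R' : Set H))
  have := Fintype.ofFinite N
  obtain ⟨c, hc, -, -, h6⟩ := H648.Dict.exists_stable_covered (N := N) hM hf h5
  obtain ⟨θ, -, h7⟩ := exists_hz hM hc h6
  have hm : ∀ x : H, x ∈ centralizer (R' : Set H) ↔ (x : Y) ∈ C := fun x => by
    rw [hC]
    exact ⟨fun h => ⟨x.2, fun r hr => congrArg Subtype.val (h ⟨r, map_subtype_le D (h1 hr)⟩ hr)⟩,
      fun h r hr => Subtype.ext (h.2 r hr)⟩
  have hH : C ≤ H := hC ▸ inf_le_left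
  let e : N ≃* C :=
    { toFun := fun x => ⟨x.1.1, (hm _).1 x.2⟩
      invFun := fun x => ⟨⟨⟨x, hH x.2⟩, centralizer_le_normalizer _ ((hm _).2 x.2)⟩, (hm _).2 x.2⟩
      left_inv := fun _ => rfl
      right_inv := fun _ => rfl
      map_mul' := fun _ _ => rfl }
  refine ⟨tr e θ, ?_⟩
  rw [← Nat.card_congr e.toEquiv, charDegree, tr_apply_one, ← Nat.card_congr (show
    ((D.subgroupOf (normalizer (R' : Set H)) ⊓ N).subgroupOf N) ≃ ↥(D.map H.subtype ⊓ C) from
    { toFun := fun x => ⟨x.1.1.1, ⟨_, x.2.1, rfl⟩, (hm _).1 x.1.2⟩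
      invFun := fun x => ⟨e.symm ⟨x, x.2.2⟩, (mem_map_iff_mem H.subtype_injective).1 x.2.1, (e.symm ⟨x, x.2.2⟩).2⟩
      left_inv := fun _ => rfl
      right_inv := fun _ => rfl })]
  exact h7

end Cfsg.Agent.RC.B
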