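import Cfsg.Agent.RC.B.Defs

/-!
# RC (S4576): DEC and CZ (helper10)

* `Dec.cz`, `Dec.czL` : elements of `cen Z` (of a Levi subgroup) which centralise the root groups lie in `Zc`;
* `Dec.dec`, `Cmp.dec`, `Cmp.comm` : `cen Z = (T H_C) . S (Sz Z \ C)`, the second factor centralises `H_C`;
* `Dec.mem_clo`, `Dec.mem_cloL` : the Weyl group of `cen Z` is generated by reflections (no stability under `F`).
-/

set_option autoImplicit false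
set_option linter.unusedSectionVars false

namespace Cfsg.Agent.RC.B

open Cfsg Cfsg.Lie Cfsg.Agent.DL Cfsg.Agent.Nodes.Reps Cfsg.Agent.Nodes.BNOf Matrix Subgroup Cfsg.Agent.KM.Ht
  Cfsg.Agent.KM.Tor Cfsg.Agent.ChevalleyStructure.CoxeterGeom Cfsg.Agent.Tits.Roots Cfsg.Agent.DL.Base
open Cfsg.Agent.KM.Tor.TW (pr pr_add pr_neg pr_self pr_act pr_smul pr_sub a_neg a_add)

variable {p : ℕ} [Fact p.Prime] {k : Type} [Field k] [CharP k p] {Y : Type} [Group Y] {N : Type} [Fintype N]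
  [DecidableEq N] {ρ : Y →* GL N k} {F : MulAut Y} {G : Subgroup Y} [IsAlgClosed k] {X : Datum p ρ F G}
  {Z : Set Y} {Φ Ψ : Set (X.I → ℤ)} {a b c : X.I → ℤ} {g m t u : Y} {w : X.W}

namespace Dec

theorem conj_cen {H : Set Y} (h : ∀ u ∈ H, m⁻¹ * u * m ∈ H) (hg : g ∈ centralizer H) : m * g * m⁻¹ ∈ centralizer H :=
  fun u hu => by
    rw [show u * (m * g * m⁻¹) = m * (m⁻¹ * u * m * g) * m⁻¹ by group, hg _ (h u hu)]
    group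

/-- the frame with a split power of `F` -/
@[reducible] def spl {d e : ℕ} (H : X.Split d e) : Datum p ρ (F ^ d) G :=
  X.newF (X.amb.pow H.d_pos) id (fun _ => e) (fun _ h => h)
    (fun a ha => ⟨1, one_ne_zero, fun u => by rw [one_mul]; exact H.x a ha u⟩) (X.Mx ^ d) (X.F_pow_τ d)

theorem mem_B (hg : g ∈ G) (hc : g ∈ centralizer (X.S {a | X.Rt a} : Set Y)) : ∃ t ∈ X.T, ∃ u ∈ X.U, g = t * u := by
  obtain ⟨w, u, hu, m, hm, v, hv, rfl⟩ := X.exists_normal_form hg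
  have hv' := X.NW_le_U w hv
  have h1 : w = 1 := eq_one_of_nonneg X.cs X.h w fun i => by
    have hi := isRoot_sr X.cs X.h i
    have h2 : X.x (sr i) 1 ∈ X.U := RGD.le_Sup (S := RGD.Pos X.cs X.h) ⟨hi, sr_nonneg i⟩ (X.x_mem hi 1)
    have h3 := mul_mem (mul_mem (inv_mem hv') h2) hv'
    have h4 := hc _ (RGD.Sup_mono (fun _ h => h.1) h3)
    refine (hi.act w).pos_or_neg.resolve_right fun h5 => one_ne_zero ((X.x_eq_one_iff hi).1 (conj_eq_one_iff.1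
      (X.eq_one_of_mem_U_of_mem_UN ?_ (RGD.le_Sup (And.intro (hi.act w) h5) (X.conj_mem hm hi (X.x_mem hi 1))))))
    rw [show m * X.x (sr i) 1 * m⁻¹ = u⁻¹ * (u * m * v * (v⁻¹ * X.x (sr i) 1 * v)) * v⁻¹ * m⁻¹ by group, ← h4,
      show u⁻¹ * (v⁻¹ * X.x (sr i) 1 * v * (u * m * v)) * v⁻¹ * m⁻¹ = u⁻¹ * (v⁻¹ * X.x (sr i) 1 * v) * u by group]
    exact mul_mem (mul_mem (inv_mem hu) h3) hu
  subst h1
  exact ⟨m, hm.mem_of_one, m⁻¹ * u * m⁻¹⁻¹ * v, mul_mem (X.conj_mem_U_of_T (inv_mem hm.mem_of_one) hu) hv', by group⟩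

theorem cz_top (hg : g ∈ G) (hc : g ∈ centralizer (X.S {a | X.Rt a} : Set Y)) : g ∈ X.T := by
  obtain ⟨w, hw⟩ := X.exists_chamber (-Nodes.Slope.htHom) fun a ha => neg_ne_zero.2 (Nodes.Slope.ht_ne_zero ha)
  obtain ⟨m, hm, -⟩ := X.exists_rp w
  obtain ⟨t, ht, u, hu, rfl⟩ := mem_B hg hc
  obtain ⟨t', ht', u', hu', e⟩ := mem_B (mul_mem (mul_mem hm.mem_G hg) (inv_mem hm.mem_G)) (conj_cen (fun u hu => by
    simpa using X.conj_mem_S hm.inv (S' := {a | X.Rt a}) (fun _ h => h) (fun _ h => IsRoot.act h _) hu) hc)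
  have h1 := (X.eq_of_mem_UNU (one_mem _) (X.conj_mem_U_of_T ht' hu') (hm.mul (rp_of_mem ht)) ((rp_of_mem ht').mul hm) hu
    (one_mem _) (by rw [show 1 * (m * t) * u = m * (t * u) * m⁻¹ * m by group, e]; group)).2
  have h2 : m * u * m⁻¹ = u' := by
    rw [show m * u * m⁻¹ = m * (m * t)⁻¹ * (m * (t * u) * m⁻¹) by group, e, h1]
    group
  have h3 := X.eq_one_of_mem_U_of_mem_UN (h2 ▸ hu') (X.conj_mem_S hm (fun _ ha => ha.1) (fun a ha => And.intro (ha.1.act w)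
    ((ha.1.act w).not_nonneg_iff.1 fun h1 => lt_asymm (RGD.ht_pos (ha.1.act w) h1) (neg_pos.1 ((hw a ha.1).2 ha.2)))) hu)
  rwa [conj_eq_one_iff.1 h3, mul_one]

theorem zc_iff (h0 : ∀ a ∈ Ψ, X.Rt a) (ht : t ∈ X.T) : t ∈ Zc X Ψ ↔ t ∈ centralizer (X.S Ψ : Set Y) := by
  refine ⟨fun h u hu => mem_centralizer_singleton_iff.1 ((RGD.Sup_le fun a ha v hv => ?_ : X.S Ψ ≤ centralizer {t}) hu),
    fun h => ⟨ht, fun a ha => ?_⟩⟩
  · exact X.X_le_centralizer (Set.singleton_subset_iff.2 ht) ⟨h0 a ha, fun _ e => e ▸ h.2 a ha⟩ hv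
  · have h1 := X.tor' (h0 a ha) ht 1
    rw [← h _ (RGD.le_Sup ha (X.x_mem (h0 a ha) 1)), mul_inv_cancel_right, mul_one] at h1
    exact (X.x_inj a (h0 a ha) h1).symm

attribute [local instance] fintypeSmp decSmp in
/-- **CZ** -/
theorem cz (hZ : Z ⊆ X.T) (hg : g ∈ X.cen Z) (hc : g ∈ centralizer (X.S (X.Sz Z) : Set Y)) : g ∈ Zc X (X.Sz Z) := by
  obtain ⟨d, e, H⟩ := X.exists_split'
  refine (zc_iff X.Sz_root (cz_top (X := (spl H).sub hZ (fun _ h => h) rfl) hg ?_)).2 hc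
  rw [Datum.sub_S, (spl H).io_roots]
  exact hc

attribute [local instance] fintypeSmp decSmp in
theorem mem_clo (hZ : Z ⊆ X.T) (hm : X.Rp w m) (hc : m ∈ X.cen Z) : w ∈ closure (X.rf '' X.Sz Z) := by
  obtain ⟨d, e, H⟩ := X.exists_split'
  obtain ⟨v, hv⟩ : m ∈ ((spl H).sub hZ (fun _ h => h) rfl).NN := by
    rw [Datum.sub_NN]
    exact ⟨⟨w, hm⟩, hc⟩
  exact X.range_subW (Z := Z) ▸ ⟨v, X.rp_unique ((spl H).rp_of_sub hZ (fun _ h => h) rfl hv) hm⟩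

/-- a generic element of the centre of a Levi subgroup -/
theorem exists_s (h0 : ∀ a ∈ Ψ, X.Rt a) (h : Lvs X Ψ) : ∃ s ∈ X.T, X.Sz {s} = Ψ := by
  obtain ⟨v, hv⟩ := h
  obtain ⟨n, hn⟩ := (X.finite_roots.image fun a => (X.wt a ⬝ᵥ v).natAbs).bddAbove
  obtain ⟨ζ, hζ⟩ := exists_prim p k (n := p * n + 1) fun h1 =>
    (Fact.out : p.Prime).one_lt.ne' (Nat.dvd_one.1 ((Nat.dvd_add_right (dvd_mul_right _ _)).1 h1))
  refine ⟨_, X.τ_mem (coch v ζ), (Sz_exp v ζ).trans (Set.ext fun a => ⟨fun ha => (hv a ha.1).2 ?_,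
    fun ha => ⟨h0 a ha, (hv a (h0 a ha)).1 ha ▸ dvd_zero _⟩⟩)⟩
  have h1 := ha.2
  rw [hζ, Int.natCast_dvd] at h1
  exact Int.natAbs_eq_zero.1 (Nat.eq_zero_of_dvd_of_lt h1 (Nat.lt_succ_of_le ((hn ⟨a, ha.1, rfl⟩).trans
    (Nat.le_mul_of_pos_left _ (Fact.out : p.Prime).pos))))

/-- **CZ** for a Levi subsystem -/
theorem czL (h0 : ∀ a ∈ Ψ, X.Rt a) (h : Lvs X Ψ) (hg : g ∈ X.T ⊔ X.S Ψ) (hc : g ∈ centralizer (X.S Ψ : Set Y)) :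
    g ∈ Zc X Ψ := by
  obtain ⟨s, hs, rfl⟩ := exists_s h0 h
  exact cz (Set.singleton_subset_iff.2 hs) hg hc

theorem mem_cloL (h0 : ∀ a ∈ Ψ, X.Rt a) (h : Lvs X Ψ) (hm : X.Rp w m) (hc : m ∈ X.T ⊔ X.S Ψ) :
    w ∈ closure (X.rf '' Ψ) := by
  obtain ⟨s, hs, rfl⟩ := exists_s h0 h
  exact mem_clo (Set.singleton_subset_iff.2 hs) hm hc

/-- orthogonal subsystems commute -/
theorem comm_SS (hS : Sl X) (h0 : ∀ a ∈ Φ, X.Rt a) (h1 : ∀ a ∈ Ψ, X.Rt a) (h : ∀ c ∈ Ψ, ∀ a ∈ Φ, X.wt c ⬝ᵥ X.cor a = 0) :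
    X.S Ψ ≤ centralizer (X.S Φ : Set Y) :=
  RGD.Sup_le fun c hc _ hu _ hv => mem_centralizer_singleton_iff.1 ((RGD.Sup_le fun a ha _ hv =>
    mem_centralizer_singleton_iff.2 (comm_of_orth hS (h1 c hc) (h0 a ha) (h c hc a ha) hu hv).symm :
      X.S Φ ≤ centralizer {_}) hv)

theorem conj_cenS (h0 : ∀ a ∈ Φ, X.Rt a) (hm : m ∈ X.T ⊔ X.S Φ) (hg : g ∈ centralizer (X.S Φ : Set Y)) :
    m * g * m⁻¹ ∈ centralizer (X.S Φ : Set Y) := by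
  obtain ⟨s, hs, t, ht, rfl⟩ := (X.mem_TS h0).1 hm
  refine conj_cen (fun u hu => ?_) hg
  rw [show (s * t)⁻¹ * u * (s * t) = t⁻¹ * (s⁻¹ * u * s) * t⁻¹⁻¹ by group]
  exact X.conj_mem_S_of_T h0 (inv_mem ht) (mul_mem (mul_mem (inv_mem hs) hu) hs)

/-- **DEC** -/
theorem dec (hS : Sl X) (h1 : ∀ a ∈ Ψ, X.Rt a) (h2 : Φ ⊆ Ψ) (h : ∀ c ∈ Ψ, c ∉ Φ → ∀ a ∈ Φ, X.wt c ⬝ᵥ X.cor a = 0)
    (hg : g ∈ X.T ⊔ X.S Ψ) : ∃ g₁ ∈ X.T ⊔ X.S Φ, ∃ g₂ ∈ X.S (Ψ \ Φ), g = g₁ * g₂ := by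
  have h3 : X.T ⊔ X.S Φ ≤ normalizer (X.S (Ψ \ Φ) : Set Y) := sup_le (X.T_le_normalizer fun a ha => h1 a ha.1)
    ((le_centralizer_iff.1 (comm_SS hS (fun a ha => h1 a (h2 ha)) (fun a ha => h1 a ha.1) fun c hc => h c hc.1 hc.2)).trans
      (centralizer_le_normalizer _))
  have h4 : X.T ⊔ X.S Ψ ≤ (X.T ⊔ X.S Φ) ⊔ X.S (Ψ \ Φ) := sup_le (le_sup_of_le_left le_sup_left) (RGD.Sup_le fun a ha => by
    by_cases e : a ∈ Φ
    · exact le_sup_of_le_left (le_sup_of_le_right (RGD.le_Sup e))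
    · exact le_sup_of_le_right (RGD.le_Sup (S := Ψ \ Φ) ⟨ha, e⟩))
  obtain ⟨g₁, k1, g₂, k2, e⟩ := (coe_mul_of_left_le_normalizer_right _ _ h3).subset (h4 hg)
  exact ⟨g₁, k1, g₂, k2, e.symm⟩

theorem a_mem : a ∈ A2 X a b := Or.inl rfl

theorem b_mem : b ∈ A2 X a b := Or.inr (Or.inl rfl)

theorem ab_mem : a + b ∈ A2 X a b := Or.inr (Or.inr (Or.inl rfl))

theorem neg_mem (h : c ∈ A2 X a b) : -c ∈ A2 X a b := by
  rcases h with rfl | rfl | rfl | rfl | rfl | rfl <;> simp [A2]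

theorem rf_a_b (ha : X.Rt a) (h : X.wt b ⬝ᵥ X.cor a = -1) : X.act (X.rf a) b = a + b := by
  rw [TW.act_rf ha, show pr X b a = -1 from h, neg_one_smul, sub_neg_eq_add, add_comm]

theorem a2_rt (ha : X.Rt a) (hb : X.Rt b) (h : X.wt b ⬝ᵥ X.cor a = -1) : ∀ c ∈ A2 X a b, X.Rt c := by
  have h1 : X.Rt (a + b) := rf_a_b ha h ▸ hb.act _
  rintro c (rfl | rfl | rfl | rfl | rfl | rfl)
  exacts [ha, hb, h1, ha.neg, hb.neg, h1.neg]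

theorem cor_add (ha : X.Rt a) (hb : X.Rt b) (h1 : X.wt a ⬝ᵥ X.cor b = -1) (h2 : X.wt b ⬝ᵥ X.cor a = -1) :
    X.cor (a + b) = X.cor a + X.cor b := by
  rw [← rf_a_b ha h2, X.cor_act _ hb, X.Wm_rf ha, sub_mulVec, one_mulVec, vecMulVec_mulVec, op_smul_eq_smul, h1,
    neg_one_smul, sub_neg_eq_add, add_comm]

end Dec

open Dec

theorem Cmp.orth' (h : Cmp X Ψ a b) (h0 : ∀ a ∈ Ψ, X.Rt a) (c : X.I → ℤ) (hc : c ∈ Ψ) (h1 : c ∉ A2 X a b) :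
    ∀ e ∈ A2 X a b, X.wt c ⬝ᵥ X.cor e = 0 := by
  have h2 := h.orth c hc h1
  have ha := h0 _ (h.sub a_mem)
  have hb := h0 _ (h.sub b_mem)
  have h3 : X.wt c ⬝ᵥ X.cor (a + b) = 0 := by rw [cor_add ha hb h.ab h.ba, dotProduct_add, h2.1, h2.2, add_zero]
  rintro e (rfl | rfl | rfl | rfl | rfl | rfl)
  exacts [h2.1, h2.2, h3, by rw [X.cor_neg ha, dotProduct_neg, h2.1, neg_zero],
    by rw [X.cor_neg hb, dotProduct_neg, h2.2, neg_zero], by rw [X.cor_neg (h0 _ (h.sub ab_mem)), dotProduct_neg, h3, neg_zero]]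

/-- the other components centralise `H_C` -/
theorem Cmp.comm (h : Cmp X Ψ a b) (hS : Sl X) (h0 : ∀ a ∈ Ψ, X.Rt a) :
    X.S (Ψ \ A2 X a b) ≤ centralizer (X.S (A2 X a b) : Set Y) :=
  comm_SS hS (fun c hc => h0 c (h.sub hc)) (fun c hc => h0 c hc.1) fun c hc => h.orth' h0 c hc.1 hc.2

/-- **DEC** for a component of type `A₂` -/
theorem Cmp.dec (h : Cmp X (X.Sz Z) a b) (hS : Sl X) (hg : g ∈ X.cen Z) :
    ∃ g₁ ∈ X.T ⊔ X.S (A2 X a b), ∃ g₂ ∈ X.S (X.Sz Z \ A2 X a b), g = g₁ * g₂ :=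
  Dec.dec hS X.Sz_root h.sub (h.orth' X.Sz_root) hg

end Cfsg.Agent.RC.B
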