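import Cfsg.Agent.KM.Si.Adm
import Cfsg.Agent.KM.Tor.Kill
import Cfsg.Agent.KM.Tor.K0
import Cfsg.Agent.KM.Mu.Rows

/-!
# RC (S4576), `l = 3`, types `E₆`, `E₇`, `E₈` : definitions and boxes (helper1)

The paper proofs are in `notes/RC/plan.md`.
-/

set_option autoImplicit false
set_option linter.unusedSectionVars false

namespace Cfsg.Agent.RC.B

open Cfsg Cfsg.Lie Cfsg.Agent.DL Cfsg.Agent.Nodes.Reps Matrix Subgroup Cfsg.Agent.KM.Ht Cfsg.Agent.KM.Tor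
open Cfsg.Agent.KZ.DatX Cfsg.Agent.Nodes.RGDChev Cfsg.Agent.Nodes.Coroot
open Cfsg.Agent.KM.Mu (Rob RCg)
open Cfsg.Agent.KM.Si (Adm)
open Cfsg.Agent.TO.X.Cn (Pi1)

/-! ### finite groups -/

section Grp

variable {Y : Type} [Group Y]

/-- the centre of `D` -/
def Zn (D : Subgroup Y) : Subgroup Y := D ⊓ centralizer (D : Set Y)

/-- the elements of `D` and the `l'`-elements of its centraliser -/
def Ce (l : ℕ) (G D : Subgroup Y) (g : Y) : Prop := g ∈ D ∨ (g ∈ G ∧ g ∈ centralizer (D : Set Y) ∧ ¬ l ∣ orderOf g)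

/-- the centraliser of a normal subgroup of `D` has a character of small defect -/
def BR (l : ℕ) (H D : Subgroup Y) : Prop := ∀ R C : Subgroup Y, R ≤ D → (∀ d ∈ D, ∀ x ∈ R, d * x * d⁻¹ ∈ R) →
  C = H ⊓ centralizer (R : Set Y) → ∃ θ : IrrCharacter C, (Nat.card C).factorization l ≤
    (charDegree (θ : C → ℂ)).factorization l + (Nat.card ↥(D ⊓ C)).factorization l

/-- the centre of `D` has an invariant cyclic subgroup of index at most three -/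
def Cy (H D : Subgroup Y) : Prop := ∃ Q : Subgroup Y, Q ≤ Zn D ∧ IsCyclic Q ∧ Nat.card (Zn D) ≤ 3 * Nat.card Q ∧
  ∀ g ∈ H, g ∈ normalizer (D : Set Y) → ∀ x ∈ Q, g * x * g⁻¹ ∈ Q

end Grp

/-- [CYC] -/
def BoxCyc : Prop := ∀ (K : Type) [Group K] [Finite K] (M : Ideal AlgInt) (B : Set (IrrCharacter K)) (D : Subgroup K),
  IsPModular 3 M → IsPBlock M B → IsDefectGroup 3 M B D → ¬ IsMulCommutative D → Cy ⊤ D → ∀ χ ∈ B, Rob 3 D χ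

/-- [BR] -/
def BoxBR : Prop := ∀ (l : ℕ) (Y : Type) [Group Y] (H : Subgroup Y) [Finite H] (M : Ideal AlgInt)
  (B : Set (IrrCharacter H)) (D : Subgroup H), IsPModular l M → IsPBlock M B → IsDefectGroup l M B D →
  BR l H (D.map H.subtype)

/-- [SYL] -/
def BoxSyl : Prop := ∀ (l : ℕ) (Y : Type) [Group Y] (H D μ : Subgroup Y) (y t n z : Y), l.Prime → Finite H →
  Loc l H D y → (∀ m ∈ μ, ∀ h ∈ H, m * h = h * m) → t ∈ H → n ∈ H → n * y = y * n → n * t * n⁻¹ = t * z → z ^ l ∈ μ →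
  n * z * n⁻¹ * z⁻¹ ∈ μ → (∀ d ∈ D, d * t * d⁻¹ * t⁻¹ ∈ μ ∧ d * z * d⁻¹ * z⁻¹ ∈ μ) → z ∈ μ

/-! ### reductive groups -/

variable {p : ℕ} [Fact p.Prime] {k : Type} [Field k] [CharP k p] {Y : Type} [Group Y] {N : Type} [Fintype N]
  [DecidableEq N] {ρ : Y →* GL N k} {F : MulAut Y} {G : Subgroup Y} [IsAlgClosed k] (X : Datum p ρ F G)

/-- the canonical torus of `D` -/
structure Can (l : ℕ) (D S : Subgroup Y) : Prop extends Adm l X D (S : Set Y) where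
  z0 : Z0 X S = S
  max : ∀ g ∈ G, ∀ v : X.R → ℤ, (∀ c, Ce l G D c → ∀ a : kˣ,
    c * (g * X.τ (coch v a) * g⁻¹) = g * X.τ (coch v a) * g⁻¹ * c) → ∀ a : kˣ, g * X.τ (coch v a) * g⁻¹ ∈ S

/-- `u` is isolated in the centraliser of `S` -/
def Iso (S : Subgroup Y) (u : Y) : Prop := ∀ v, Pp X (X.Sz (insert u (S : Set Y))) v → Pp X (X.Sz S) v

/-- `A2 X a b` is a component of `Ψ` -/
structure Cmp (Ψ : Set (X.I → ℤ)) (a b : X.I → ℤ) : Prop where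
  sub : A2 X a b ⊆ Ψ
  ab : X.wt a ⬝ᵥ X.cor b = -1
  ba : X.wt b ⬝ᵥ X.cor a = -1
  orth : ∀ c ∈ Ψ, c ∉ A2 X a b → X.wt c ⬝ᵥ X.cor a = 0 ∧ X.wt c ⬝ᵥ X.cor b = 0

/-- the centre of the subgroup of type `A₂` (for `ω` of order three) -/
noncomputable def zc (a b : X.I → ℤ) (ω : kˣ) : Y := X.τ (coch (X.cor a - X.cor b) ω)

/-- `(a', b')` is the image of `(a, b)` under plus or minus a rotation -/
def Rot (a b a' b' : X.I → ℤ) : Prop := ∃ ε : ℤ, (ε = 1 ∨ ε = -1) ∧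
  ((a' = ε • a ∧ b' = ε • b) ∨ (a' = ε • b ∧ b' = -ε • (a + b)) ∨ (a' = -ε • (a + b) ∧ b' = ε • a))

/-- subsystems of type `A₂` : Levi, with connected centre, the centre of the derived group is not central -/
def LA : Prop := ∀ a b, X.Rt a → X.Rt b → X.wt a ⬝ᵥ X.cor b = -1 → Lvs X (A2 X a b) ∧
  (∃ v, Pp X (A2 X a b) v ∧ ∀ r, 3 ∣ (v - (X.cor a - X.cor b)) r) ∧ ∃ c, X.Rt c ∧ ¬ 3 ∣ X.wt c ⬝ᵥ (X.cor a - X.cor b)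

/-- the central elements of order at most three -/
def mu : Subgroup Y where
  carrier := {t | t ∈ Zc X {a | X.Rt a} ∧ t ^ 3 = 1}
  one_mem' := ⟨one_mem _, one_pow _⟩
  mul_mem' := fun {_ _} h h' => ⟨mul_mem h.1 h'.1, by
    rw [Commute.mul_pow (X.T_comm h.1.1 h'.1.1), h.2, h'.2, mul_one]⟩
  inv_mem' := fun {_} h => ⟨inv_mem h.1, by rw [inv_pow, h.2, inv_one]⟩

/-- the root system is the root system of an adjoint frame of the type `hp` -/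
def Ty {C : ChevalleyDatum} {n : ℕ} {M : CoxeterMatrix (Fin n)} (hp : IsType C n M) : Prop :=
  ∃ (Mx : Matrix (Fin n) (Fin n) ℤ) (X₀ : XF hp p k Mx) (e : (X.I → ℤ) ≃+ (Fin n → ℤ)),
    (∀ a, X.Rt a ↔ X₀.D.Rt (e a)) ∧ ∀ a b, X.Rt b → cpr X.cs X.h a b = e a ⬝ᵥ co C n (e b)

/-- simply connected of type `E n` -/
structure TE (n : ℕ) : Prop where
  pi : Pi1 X 1
  ss : ∀ v, Pp X {a | X.Rt a} v → v = 0
  ty : (n = 6 ∧ Ty X hpE6) ∨ (n = 7 ∧ Ty X hpE7) ∨ (n = 8 ∧ Ty X hpE8)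

/-- the local setting -/
structure St (D S : Subgroup Y) (y : Y) : Prop where
  p3 : 3 ≠ p
  pi : Pi1 X 1
  sl : Sl X
  la : LA X
  can : Can X 3 D S
  loc : Loc 3 (GF F G) D y
  na : ¬ Ab D
  br : BR 3 (GF F G) D

theorem TE.conj {n : ℕ} {X : Datum p ρ F G} (h : TE X n) {y : Y} (hy : y ∈ G) (hN : y⁻¹ * F y ∈ X.NN) :
    TE (X.conj hy hN) n := ⟨h.pi, h.ss, h.ty⟩

/-! #### characters -/

/-- [SUP] a torus in the support -/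
def BoxSup : Prop := AllD fun {p} _ _ _ _ {Y} _ _ _ _ _ {F} {G} _ X => ∀ (l : ℕ) (θ : IrrCharacter ↥(GF F G)), l.Prime →
  l ≠ p → ∃ (y : Y) (hy : y ∈ G) (hN : y⁻¹ * F y ∈ X.NN), (charDegree (θ : GF F G → ℂ)).factorization l +
    (Nat.card ↥(GF F (X.conj hy hN).T)).factorization l ≤ (Nat.card ↥(GF F G)).factorization l

/-- [TOR] a torus in the support which contains an admissible torus on which `F` is a scalar -/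
def BoxTor : Prop := AllD fun {p} _ _ _ _ {Y} _ _ _ _ _ {F} {G} _ X => ∀ [Finite ↥(GF F G)] (l : ℕ) (M : Ideal AlgInt)
  (B : Set (IrrCharacter ↥(GF F G))) (D : Subgroup ↥(GF F G)) (y : Y) (hy : y ∈ G) (hN : y⁻¹ * F y ∈ X.NN) (A : Set Y)
  (c : ℤ), X.QS → IsPModular l M → l ≠ p → IsPBlock M B → IsDefectGroup l M B D →
  Adm l (X.conj hy hN) (D.map (GF F G).subtype) A →
  (∀ v, Pp (X.conj hy hN) ((X.conj hy hN).Sz A) v → (X.conj hy hN).Mx *ᵥ v = c • v) → ∀ χ ∈ B,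
  ∃ (y' : Y) (hy' : y' ∈ G) (hN' : y'⁻¹ * F y' ∈ (X.conj hy hN).NN),
    Z0 (X.conj hy hN) A ≤ ((X.conj hy hN).conj hy' hN').T ∧ (charDegree (χ : GF F G → ℂ)).factorization l +
      (Nat.card ↥(GF F ((X.conj hy hN).conj hy' hN').T)).factorization l ≤ (Nat.card ↥(GF F G)).factorization l

/-! #### the canonical torus -/

/-- [CAN] existence -/
def BoxCan : Prop := AllD fun {p} _ _ _ _ {Y} _ _ _ _ _ {F} {G} _ X => ∀ (l : ℕ) (D : Subgroup Y), l.Prime → l ≠ p →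
  Pi1 X 1 → IsPGroup l D → D ≤ GF F G → ∃ (y : Y) (hy : y ∈ G) (hN : y⁻¹ * F y ∈ X.NN) (S : Subgroup Y),
    Can (X.conj hy hN) l D S

/-- [CC] centralisers and frames for a torus `S = Z0 S` -/
def BoxCC : Prop := AllD fun {p} _ _ _ _ {Y} _ _ _ _ _ {F} {G} _ X => ∀ (l : ℕ) (S : Subgroup Y), l.Prime → l ≠ p →
  Pi1 X 1 → Z0 X S = S → CC X S ∧ (∀ u ∈ X.T, El l {u} → CC X (insert u (S : Set Y))) ∧
  (∀ (y : Y) (hy : y ∈ G) (hN : y⁻¹ * F y ∈ X.NN), S ≤ (X.conj hy hN).T → Z0 (X.conj hy hN) S = S) ∧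
  ((∀ z ∈ S, F z ∈ S) → ∀ u ∈ GF F G, ∀ v ∈ GF F G, El l {u, v} → u * v = v * u →
    (∀ z ∈ S, u * z = z * u ∧ v * z = z * v) → ∃ (y : Y) (hy : y ∈ G) (hN : y⁻¹ * F y ∈ X.NN),
      S ≤ (X.conj hy hN).T ∧ u ∈ (X.conj hy hN).T ∧ v ∈ (X.conj hy hN).T)

/-- [FR] change of the frame, isolated elements -/
def BoxFr : Prop := AllD fun {p} _ _ _ _ {Y} _ _ _ _ _ {F} {G} _ X => ∀ (l : ℕ) (D S : Subgroup Y), l.Prime → l ≠ p →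
  Pi1 X 1 → IsPGroup l D → D ≤ G → Can X l D S → (∀ z ∈ S, F z ∈ S) ∧ (∀ c, Ce l G D c → c ∈ X.cen S) ∧
  (∀ v, (∀ c, Ce l G D c → ∀ a, c * X.τ (coch v a) = X.τ (coch v a) * c) → Pp X (X.Sz S) v) ∧
  (∀ (y : Y) (hy : y ∈ G) (hN : y⁻¹ * F y ∈ X.NN), S ≤ (X.conj hy hN).T → Can (X.conj hy hN) l D S) ∧
  ∀ u ∈ X.T, u ∈ Zn D → Iso X S u ∧ ∀ c, Ce l G D c → c ∈ X.cen (insert u (S : Set Y))

/-! #### components of type `A₂` -/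

/-- [LN] the lift of the rotation -/
def BoxLn : Prop := AllD fun {_} _ _ _ _ _ _ _ _ _ _ {F} _ _ X => ∀ a b, X.Rt a → X.Rt b → X.wt a ⬝ᵥ X.cor b = -1 →
  X.wt b ⬝ᵥ X.cor a = -1 → Lvs X (A2 X a b) → Rot X a b (X.g a) (X.g b) →
  ∃ n ∈ X.S (A2 X a b), F n = n ∧ X.Rp (X.rf a * X.rf b) n

/-- [LE] a fixed `3`-element of the torus which acts on the component -/
def BoxLE : Prop := AllD fun {p} _ {k} _ _ _ _ _ _ _ _ {F} _ _ X => ∀ (a b : X.I → ℤ) (ω : kˣ), 3 ≠ p → X.Rt a → X.Rt b →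
  X.wt a ⬝ᵥ X.cor b = -1 → X.wt b ⬝ᵥ X.cor a = -1 → X.g a ∈ A2 X a b → X.g b ∈ A2 X a b → orderOf ω = 3 →
  F (zc X a b ω) = zc X a b ω → zc X a b ω ≠ 1 → (∃ v, Pp X (A2 X a b) v ∧ ∀ r, 3 ∣ (v - (X.cor a - X.cor b)) r) →
  ∃ t ∈ X.T, F t = t ∧ El 3 {t} ∧ t ∉ Zc X (A2 X a b)

/-- [TRI] `D` acts irreducibly on a component -/
def BoxTri : Prop := AllD fun {p} _ _ _ _ {Y} _ _ _ _ _ {F} {G} _ X => ∀ (D S : Subgroup Y) (Z : Set Y) (a b : X.I → ℤ)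
  (x : Y), 3 ≠ p → Sl X → IsPGroup 3 D → D ≤ GF F G →
  (∀ v, (∀ c, Ce 3 G D c → ∀ s, c * X.τ (coch v s) = X.τ (coch v s) * c) → Pp X (X.Sz S) v) →
  Z ⊆ X.T → X.Sz Z ⊆ X.Sz S → Cmp X (X.Sz Z) a b → Lvs X (A2 X a b) → (∀ c, Ce 3 G D c → c ∈ X.cen Z) → x ∈ D → x ∈ X.T →
  x ∉ Zc X (A2 X a b) → x ^ 3 ∈ Zc X (A2 X a b) →
  (∀ d ∈ D, d * x * d⁻¹ * x⁻¹ ∈ centralizer (X.S (A2 X a b) : Set Y)) →
  X.χ a x = X.χ b x ∧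
  (∀ c ∈ G, c ∈ centralizer (D : Set Y) → ¬ 3 ∣ orderOf c → c ∈ centralizer (X.S (A2 X a b) : Set Y)) ∧
  (X.g a ∈ A2 X a b → Rot X a b (X.g a) (X.g b))

/-- [PK] -/
def BoxPK : Prop := AllD fun {_} _ _ _ _ {Y} _ _ _ _ _ _ {G} _ X => ∀ (D S μ : Subgroup Y) (y : Y) (Z : Set Y)
  (a b : X.I → ℤ) (x : Y), St X D S y → μ ≤ mu X → Z ⊆ X.T → X.Sz Z ⊆ X.Sz S → Cmp X (X.Sz Z) a b →
  (∀ c, Ce 3 G D c → c ∈ X.cen Z) → x ∈ D → x ∈ X.T → x ∉ Zc X (A2 X a b) → x ^ 3 ∈ Zc X (A2 X a b) →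
  (∀ d ∈ D, d * x * d⁻¹ * x⁻¹ ∈ μ) → X.g a ∉ A2 X a b

/-- [A2K] all components are of type `A₂` -/
def BoxA2K : Prop := AllD fun {_} _ {k} _ _ {Y} _ _ _ _ _ {F} _ _ X => ∀ (D S : Subgroup Y) (y : Y) (Z : Set Y) (m : ℕ)
  (a b : Fin m → X.I → ℤ), St X D S y → Z.Finite → Z ⊆ X.T → Z ⊆ Zn D → CC X Z → X.Sz Z ⊆ X.Sz S →
  (∀ i, Cmp X (X.Sz Z) (a i) (b i)) → (∀ c ∈ X.Sz Z, ∃ i, c ∈ A2 X (a i) (b i)) →
  ((∀ i, X.g (a i) ∈ A2 X (a i) (b i) ∧ ∀ ω : kˣ, orderOf ω = 3 → F (zc X (a i) (b i) ω) = zc X (a i) (b i) ω) ∨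
    ∀ i j, ∃ e : ℕ, X.g^[e] (a i) ∈ A2 X (a j) (b j)) → y ∈ Zc X (X.Sz Z)

/-- [ROT] -/
def BoxRot : Prop := AllD fun {p} _ _ _ _ {Y} _ _ _ _ _ {F} {G} _ X => ∀ (D : Subgroup Y) (y u : Y) (Z : Set Y) (w : X.W),
  3 ≠ p → Loc 3 (GF F G) D y → Z ⊆ X.T → (∀ z ∈ Z, F z ∈ Z) → D ≤ X.cen Z → y ∈ Zc X (X.Sz Z) → u ∈ X.T → u ∈ Zn D →
  u ^ 3 ∈ Zc X (X.Sz Z) → CC X (insert u Z) → (∀ ζ ∈ Zc X (X.Sz Z), ζ ^ 3 = 1 → F ζ = ζ) → w ∈ closure (X.rf '' X.Sz Z) →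
  (∀ c ∈ X.Sz Z, X.χ (X.act w c) u = X.χ c u) → w ∈ closure (X.rf '' X.Sz (insert u Z))

/-! #### the types -/

/-- [TY] -/
def BoxTy : Prop := ∀ {C : ChevalleyDatum} {n : ℕ} {M : CoxeterMatrix (Fin n)} (hp : IsType C n M) {p : ℕ} [Fact p.Prime]
  {k : Type} [Field k] [CharP k p] [IsAlgClosed k] {Mx : Matrix (Fin n) (Fin n) ℤ} (X₀ : XF hp p k Mx), SL C n →
  (Ty X₀.D hp ∧ ∀ v, Pp X₀.D {a | X₀.D.Rt a} v → v = 0) ∧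
  ∀ {Y : Type} [Group Y] {N : Type} [Fintype N] [DecidableEq N] {ρ : Y →* GL N k} {F : MulAut Y} {G : Subgroup Y}
    (X : Datum p ρ F G) (θ : Y →* ↥(C.group k)) (z : ℕ), KM.Sc.Isog X X₀.D θ z →
    Ty X hp ∧ ∀ v, Pp X {a | X.Rt a} v → v = 0

/-- [K0] -/
def BoxK0 : Prop := AllD fun X => ∀ n, TE X n → Sl X ∧ LA X

/-- [K1] the centres of the Levi subgroups -/
def BoxK1 : Prop := AllD fun {p} _ _ _ _ {Y} _ _ _ _ _ _ _ _ X => ∀ n, TE X n → 3 ≠ p →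
  Nat.card (mu X) = (if n = 6 then 3 else 1) ∧
  ∀ S : Subgroup Y, Z0 X S = S → ∀ t ∈ Zc X (X.Sz S), El 3 {t} → t ∈ S ⊔ mu X

/-- [K3] isolated elements -/
def BoxK3 : Prop := AllD fun {p} _ _ _ _ {Y} _ _ _ _ _ _ _ _ X => ∀ (n : ℕ) (S : Subgroup Y) (u : Y), TE X n → 3 ≠ p →
  Z0 X S = S → u ∈ X.T → El 3 {u} → Iso X S u → u ∉ Zc X (X.Sz S) →
  u ^ 3 ∈ Zc X (X.Sz S) ∧ (n = 6 → S = ⊥) ∧ (n = 7 → ∀ Q ≤ S, Finite Q → IsCyclic Q)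

/-- [TWO] the Levi subgroup `A₂ A₂ T₂` of `E₆` -/
def BoxTwo : Prop := AllD fun {p} _ _ _ _ {Y} _ _ _ _ _ {F} {G} _ X => ∀ S Q : Subgroup Y, TE X 6 → 3 ≠ p → Z0 X S = S →
  (∀ a ∈ X.Sz S, X.g a ∈ X.Sz S) → ¬ mu X ≤ S → (∀ ζ ∈ mu X, F ζ = ζ) → Q ≤ S → Q ≤ GF F G → IsPGroup 3 Q → ¬ IsCyclic Q →
  (∃ c : ℤ, ∀ v, Pp X (X.Sz S) v → X.Mx *ᵥ v = c • v) ∧
  (Nat.card ↥(GF F S)).factorization 3 + 2 ≤ (Nat.card ↥(GF F X.T)).factorization 3 ∧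
  ∃ a b a' b', X.Sz S = A2 X a b ∪ A2 X a' b' ∧ Cmp X (X.Sz S) a b ∧ Cmp X (X.Sz S) a' b' ∧ X.g a ∈ A2 X a b ∧
    X.g a' ∈ A2 X a' b'

/-- [PL] no plane modulo the centre of the canonical Levi subgroup -/
def BoxPl : Prop := AllD fun {_} _ _ _ _ {Y} _ _ _ _ _ _ _ _ X => ∀ (n : ℕ) (D S : Subgroup Y) (y u v : Y), TE X n →
  St X D S y → u ∈ X.T → v ∈ X.T → u ∈ Zn D → v ∈ Zn D →
  ∃ i j : ℤ, ¬ (3 ∣ i ∧ 3 ∣ j) ∧ u ^ i * v ^ j ∈ Zc X (X.Sz S)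

/-- [R6] `E₆`, the centre is fixed -/
def BoxR6 : Prop := AllD fun {_} _ _ _ _ {Y} _ _ _ _ _ {F} _ _ X => ∀ (D S : Subgroup Y) (y u : Y), TE X 6 →
  St X D S y → (∀ ζ ∈ mu X, F ζ = ζ) → u ∈ X.T → u ∈ Zn D → u ∈ Zc X (X.Sz S)

/-- [R8] `E₈`, the Levi subgroup `E₆ T₂` -/
def BoxR8 : Prop := AllD fun {_} _ _ _ _ {Y} _ _ _ _ _ _ _ _ X => ∀ (D S : Subgroup Y) (y u : Y), TE X 8 →
  St X D S y → u ∈ X.T → u ∈ Zn D → u ∉ Zc X (X.Sz S) → IsCyclic ↥(D ⊓ S)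

/-- [LOC] the local theorem -/
def BoxLoc3 : Prop := AllD fun {_} _ _ _ _ {Y} _ _ _ _ _ {F} {G} _ X => ∀ (n : ℕ) (D S : Subgroup Y) (y : Y), TE X n →
  St X D S y → Zn D ≤ S ∨ Cy G D ∨
    (n = 6 ∧ ¬ mu X ≤ S ∧ (∀ ζ ∈ mu X, F ζ = ζ) ∧ Zn D ≤ S ⊔ mu X ∧ ¬ IsCyclic ↥(D ⊓ S))

/-- [MAIN] the simply connected groups -/
def BoxMain : Prop := AllD fun {p} _ _ _ _ _ _ _ _ _ _ {F} {G} _ X => ∀ (n : ℕ) (M : Ideal AlgInt), X.QS → TE X n → 3 ≠ p →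
  IsPModular 3 M → RCg 3 M ↥(GF F G)

/-- [SIMPLE] the quotient by the centre of order three -/
def BoxSimple : Prop := AllD fun {p} _ _ _ _ _ _ _ _ _ _ {F} {G} _ X => ∀ (M : Ideal AlgInt) (K : Type) [Group K]
  (π : ↥(GF F G) →* K), X.QS → TE X 6 → 3 ≠ p → IsPModular 3 M → (∀ ζ ∈ mu X, F ζ = ζ) → Function.Surjective π →
  π.ker = (mu X).subgroupOf (GF F G) → RCg 3 M K

end Cfsg.Agent.RC.B
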