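import Cfsg.Agent.RC.B.A2Ka

/-!
# RC (S4576), [A2K]: all components of `cen Z` are of type `A₂` (helper55)

If `D` acts on every component, then `y` centralises all of them.  Otherwise we enlarge a toral normal subset `A` of `D`
until `D` centralises all components of `cen A`; then `BR`, `SUP` and `LE` contradict each other.
-/

set_option autoImplicit false
set_option linter.unusedSectionVars false

namespace Cfsg.Agent.RC.B

open Cfsg Cfsg.Lie Cfsg.Agent.DL Cfsg.Agent.Nodes.Reps Cfsg.Agent.Nodes.BNOf Matrix Subgroup Cfsg.Agent.KM.Ht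
  Cfsg.Agent.KM.Tor
open Cfsg.Agent.KM.Tor.TW (pr pr_add pr_neg pr_self pr_act pr_smul pr_sub a_neg a_add)
open Cfsg.Agent.TO.X.Cn (Pi1)

namespace A2K

variable {p : ℕ} [Fact p.Prime] {k : Type} [Field k] [CharP k p] {Y : Type} [Group Y] {N : Type} [Fintype N]
  [DecidableEq N] {ρ : Y →* GL N k} {F : MulAut Y} {G : Subgroup Y} [IsAlgClosed k]

section one

variable {X : Datum p ρ F G} {A : Set Y} {Ψ : Set (X.I → ℤ)} {a b : X.I → ℤ} {x n : Y}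

theorem reg (hx : x ∈ X.T) (h : X.χ a x = X.χ b x) (h1 : x ∉ Zc X (A2 X a b)) (h2 : x ^ 3 ∈ Zc X (A2 X a b)) :
    ∀ c ∈ A2 X a b, X.χ c x ≠ 1 := by
  have h3 : X.χ b x ^ 3 = 1 := (TO.X.Cn.χ_pow X b hx 3).symm.trans (h2.2 b Dec.b_mem)
  have h4 : X.χ b x ≠ 1 := fun e => h1 ⟨hx, by
    rintro c (rfl | rfl | rfl | rfl | rfl | rfl) <;> simp only [X.χ_add, X.χ_neg, h, e, mul_one, inv_one]⟩
  have h5 : X.χ b x * X.χ b x ≠ 1 := fun e => h4 (by rwa [pow_succ, pow_two, e, one_mul] at h3)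
  rintro c (rfl | rfl | rfl | rfl | rfl | rfl) <;> simp only [X.χ_add, X.χ_neg, h, ne_eq, inv_eq_one] <;> assumption

/-- a regular element of a component -/
theorem cc_insert (p3 : 3 ≠ p) (hpi : Pi1 X 1) (hS : Sl X) (hC : Cmp X Ψ a b) (h0 : ∀ c ∈ Ψ, X.Rt c)
    (hL : Lvs X (A2 X a b)) (hA : A ⊆ X.T) (hc : CC X A) (h1 : X.Sz A ⊆ Ψ) (h2 : A2 X a b ⊆ X.Sz A) (xT : x ∈ X.T)
    (xH : x ∈ X.S (A2 X a b)) {j : ℕ} (hj : x ^ 3 ^ j = 1) (hr : ∀ c ∈ A2 X a b, X.χ c x ≠ 1) :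
    X.Sz (insert x A) = X.Sz A \ A2 X a b ∧ CC X (insert x A) := by
  have e1 : X.Sz (insert x A) = X.Sz A \ A2 X a b := by
    have k1 := (Dec.zc_iff (Ψ := Ψ \ A2 X a b) (fun c k => h0 c k.1) xT).2 (le_centralizer_iff.1 (hC.comm hS h0) xH)
    refine Set.ext fun c => ⟨fun k => ⟨Sz_anti (Set.subset_insert _ _) k, fun k' => hr c k' (k.2 x (Set.mem_insert _ _))⟩,
      fun k => ⟨k.1.1, ?_⟩⟩
    rintro z (rfl | hz)
    · exact k1.2 c ⟨h1 k.1, k.2⟩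
    · exact k.1.2 z hz
  refine ⟨e1, fun g hg k1 => ?_⟩
  obtain ⟨g₁, k2, g₂, k3, rfl⟩ := Dec.dec hS X.Sz_root h2 (fun c k k' => hC.orth' h0 c (h1 k) k')
    (hc g hg fun z hz => k1 z (Set.mem_insert_of_mem _ hz))
  have k4 : g₂ ∈ X.cen (insert x A) := X.S_le_cen _ (e1 ▸ k3)
  refine mul_mem ?_ k4
  have k5 : x * g₁ = g₁ * x := by
    have k6 := k1 x (Set.mem_insert _ _)
    rwa [mul_assoc, ← X.cen_le_centralizer (Set.insert_subset xT hA) k4 x (Set.mem_insert _ _), ← mul_assoc, ← mul_assoc,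
      mul_left_inj] at k6
  obtain ⟨s, sT, hs⟩ := Dec.exists_s (fun c k => h0 c (hC.sub k)) hL
  obtain ⟨s', k6, ⟨i, k7⟩, k8⟩ := exists_one Nat.prime_three p3 (Z := {s}) (hs ▸ hL : Lvs X (X.Sz {s})) xT hj
  have k9 : g₁ ∈ X.cen {s} := (hs ▸ k2 : g₁ ∈ X.T ⊔ X.S (X.Sz {s}))
  have k10 : g₁ * s' = s' * g₁ := One.Zc_comm (Set.singleton_subset_iff.2 sT)
    ⟨Z0_le_T X _ k6, fun c k => χ_Z0 (fun v hv => hv c k) k6⟩ k9
  refine cen_mono (fun c k => ?_) (TO.X.Cn.mem_cen hpi (mul_mem xT (Z0_le_T X _ k6)) k7 (Nat.coprime_one_right _)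
    (X.cen_le_G _ k9) (by rw [← mul_assoc, ← k5, mul_assoc, k10, mul_assoc]))
  rw [k8] at k
  exact absurd (k.2 x (Set.mem_insert _ _)) (hr c (hs ▸ Sz_anti (Set.subset_insert _ _) k))

/-- the `3`-part of a lift of the rotation is not central -/
theorem rot_part (hC : Cmp X Ψ a b) (h0 : ∀ c ∈ Ψ, X.Rt c) (hn : X.Rp (X.rf a * X.rf b) n) {m : ℕ} (hm : ¬ 3 ∣ m) :
    n ^ m ∉ centralizer (X.S (A2 X a b) : Set Y) := fun h => by
  have ha := h0 a (hC.sub Dec.a_mem)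
  have hb := h0 b (hC.sub Dec.b_mem)
  have ab : pr X a b = -1 := hC.ab
  have ba : pr X b a = -1 := hC.ba
  have e1 : X.act (X.rf a * X.rf b) a = b := by
    rw [CF.act_mul, TW.act_rf hb, TW.act_rf ha, ab, pr_sub, pr_smul, pr_self ha, ba]
    module
  have e2 : X.act (X.rf a * X.rf b) b = -(a + b) := by
    rw [CF.act_mul, X.act_rf_self hb, TW.act_rf ha, pr_neg, ba]
    module
  have e3 : ∀ i, X.act ((X.rf a * X.rf b) ^ (3 * i)) a = a := fun i => by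
    induction i with
    | zero => rw [mul_zero, pow_zero, CF.act_one]
    | succ i ih =>
      rw [mul_add, mul_one, pow_add, pow_succ _ 2, pow_two, CF.act_mul _ (_ ^ _), CF.act_mul _ (_ * _ * (_ * _)),
        CF.act_mul _ (_ * _) (_ * _), e1, e2, a_neg, a_add, e1, e2, show -(b + -(a + b)) = a by module, ih]
  have e4 : X.act ((X.rf a * X.rf b) ^ m) a = a := by
    refine X.X_injective (ha.act _) ha ((X.conj_rp (TO.X.Cn.rp_pow X hn m) ha).symm.trans (Subgroup.ext fun u => ?_))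
    have k1 : ∀ u ∈ X.X a, u * n ^ m = n ^ m * u := fun u hu => h u (RGD.le_Sup Dec.a_mem hu)
    refine mem_cj.trans ⟨fun k => ?_, fun k => by rwa [mul_assoc, k1 u k, inv_mul_cancel_left]⟩
    have k2 := k1 _ k
    rw [show n ^ m * ((n ^ m)⁻¹ * u * n ^ m) = u * n ^ m by group, mul_left_inj, mul_assoc, inv_mul_eq_iff_eq_mul] at k2
    rwa [mul_assoc, k2, inv_mul_cancel_left] at k
  have aa := pr_self ha
  obtain ⟨i, rfl | rfl⟩ : ∃ i, m = 1 + 3 * i ∨ m = 2 + 3 * i := ⟨m / 3, by omega⟩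
  · rw [pow_add, CF.act_mul, e3, pow_one, e1] at e4
    rw [e4, aa] at ab
    omega
  · rw [pow_add, CF.act_mul, e3, pow_two, CF.act_mul, e1, e2] at e4
    have e5 := congrArg (fun c => pr X c a) e4
    simp only [pr_neg, pr_add, aa, ba] at e5
    omega

end one

variable {D S : Subgroup Y} {y : Y} {Z : Set Y} {m : ℕ}

/-- the hypotheses of the box -/
structure Hy (X : Datum p ρ F G) (D S : Subgroup Y) (y : Y) (Z : Set Y) (a b : Fin m → X.I → ℤ) : Prop where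
  st : St X D S y
  zT : Z ⊆ X.T
  zD : Z ⊆ Zn D
  cc : CC X Z
  sub : X.Sz Z ⊆ X.Sz S
  cmp : ∀ i, Cmp X (X.Sz Z) (a i) (b i)
  cov : ∀ c ∈ X.Sz Z, ∃ i, c ∈ A2 X (a i) (b i)

/-- the components are stable, their centres are fixed -/
def Fx (X : Datum p ρ F G) (a b : Fin m → X.I → ℤ) : Prop := ∀ i, X.g (a i) ∈ A2 X (a i) (b i) ∧
  ∀ ω : kˣ, orderOf ω = 3 → F (zc X (a i) (b i) ω) = zc X (a i) (b i) ω

/-- a toral normal subset of `D` with connected centraliser -/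
structure Sta (X : Datum p ρ F G) (D : Subgroup Y) (Z A : Set Y) (a b : Fin m → X.I → ℤ) : Prop where
  aD : A ⊆ D
  aT : A ⊆ X.T
  zc : ∀ d ∈ D, d ∈ Zc X (X.Sz Z) → d ∈ A
  cm : ∀ d ∈ D, ∀ x ∈ A, d * x * d⁻¹ * x⁻¹ ∈ Zc X (X.Sz Z)
  cc : CC X A
  cp : ∀ i, A2 X (a i) (b i) ⊆ X.Sz A ∨ ∀ c ∈ A2 X (a i) (b i), c ∉ X.Sz A

variable {X : Datum p ρ F G} {a b : Fin m → X.I → ℤ} {A : Set Y} {d h x : Y}

theorem cc_conj (hG : h ∈ G) (hN : h⁻¹ * F h ∈ X.NN) (hA : A ⊆ X.T) (hc : h ∈ X.cen A) (k : CC X A) :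
    CC (X.conj hG hN) A := fun g k1 k2 => (cen_eq hG hN hA hc).symm ▸ k g k1 k2

namespace Hy

variable (H : Hy X D S y Z a b)
include H

theorem fin : Finite D :=
  have := X.amb.finite_GF G
  Finite.of_injective _ (inclusion_injective H.st.loc.le)

theorem dG : D ≤ G := fun _ hd => (mem_GF.1 (H.st.loc.le hd)).1

theorem fix (hd : d ∈ D) : F d = d := (mem_GF.1 (H.st.loc.le hd)).2

theorem el (hd : d ∈ D) : ∃ j : ℕ, d ^ 3 ^ j = 1 := (H.st.loc.pg ⟨d, hd⟩).imp fun _ e => congrArg Subtype.val e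

theorem ce (c : Y) (hc : Ce 3 G D c) : c ∈ X.cen Z := by
  rcases hc with hc | ⟨k1, k2, -⟩
  · exact H.cc c (H.dG hc) fun z hz => ((H.zD hz).2 c hc).symm
  · exact H.cc c k1 fun z hz => k2 z (H.zD hz).1

theorem dH (hd : d ∈ D) : d ∈ X.cen Z := H.ce d (Or.inl hd)

theorem yce : Ce 3 G D y := Or.inr ⟨(mem_GF.1 H.st.loc.mem).1, H.st.loc.comm, H.st.loc.reg⟩

theorem gst (hA : A ⊆ D) (hT : A ⊆ X.T) : ∀ c ∈ X.Sz A, X.g c ∈ X.Sz A := fun _ hc =>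
  X.g_mem_Sz hT (fun _ hz => (H.fix (hA hz)).symm ▸ hz) hc

theorem zD' : Z ⊆ D := fun _ hz => (H.zD hz).1

theorem lvs (i : Fin m) : Lvs X (A2 X (a i) (b i)) :=
  (H.st.la _ _ ((H.cmp i).sub Dec.a_mem).1 ((H.cmp i).sub Dec.b_mem).1 (H.cmp i).ab).1

theorem rt (i : Fin m) : ∀ c ∈ A2 X (a i) (b i), X.Rt c := fun _ hc => ((H.cmp i).sub hc).1

theorem conj (hFr : BoxFr) (hG : h ∈ G) (hN : h⁻¹ * F h ∈ X.NN) (hc : h ∈ X.cen Z) : Hy (X.conj hG hN) D S y Z a b := by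
  have sT : (S : Set Y) ⊆ X.T := H.st.can.z0 ▸ Z0_le_T X _
  have hS : h ∈ centralizer (S : Set Y) := X.cen_le_centralizer sT (cen_mono H.sub hc)
  have e1 := Sz_conj hG hN H.zT (X.cen_le_centralizer H.zT hc)
  have e2 := Sz_conj hG hN sT hS
  refine ⟨⟨H.st.p3, H.st.pi.conj hG hN, sl_conj hG hN H.st.sl, la_conj hG hN H.st.la,
    (hFr X 3 D S Nat.prime_three H.st.p3 H.st.pi H.st.loc.pg H.dG H.st.can).2.2.2.1 h hG hN (sub_T hG hN sT hS), H.st.loc,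
    H.st.na, H.st.br⟩, sub_T hG hN H.zT (X.cen_le_centralizer H.zT hc), H.zD, cc_conj hG hN H.zT hc H.cc, ?_, fun i => ?_, ?_⟩
  · rw [e1, e2]
    exact H.sub
  · rw [e1]
    exact cmp_conj hG hN (H.cmp i)
  · rw [e1]
    exact H.cov

theorem fx (hG : h ∈ G) (hN : h⁻¹ * F h ∈ X.NN) (hc : h ∈ X.cen Z) (hx : Fx X a b) : Fx (X.conj hG hN) a b := fun i =>
  ⟨g_mem hG hN H.st.sl H.zT (H.gst H.zD' H.zT) (H.cmp i) hc (hx i).1, fun ω hω => by
    rw [zc_eq hG hN H.zT (H.cmp i) hc hω]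
    exact (hx i).2 ω hω⟩

/-- a frame which contains `x` -/
theorem frame (hA : A ⊆ D) (hT : A ⊆ X.T) (hc : CC X A) (xD : x ∈ D) (hx : x ∈ X.cen A) :
    ∃ (h : Y) (hG : h ∈ G) (hN : h⁻¹ * F h ∈ X.NN), h ∈ X.cen A ∧ x ∈ (X.conj hG hN).T := by
  have := H.fin
  obtain ⟨j, hj⟩ := H.el xD
  obtain ⟨g, k1, k2⟩ := toral_cen hT ((Set.toFinite (D : Set Y)).subset hA) hx (not_dvd_ord Nat.prime_three H.st.p3 hj)
  have k3 : ∀ z ∈ A, g⁻¹ * z * g = z := fun z hz => by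
    rw [mul_assoc, X.cen_le_centralizer hT k1 z hz, inv_mul_cancel_left]
  obtain ⟨h, hG, hN, k4, k5⟩ := SB.Exc.Max.exists_conj_le_T X (Z := insert x A)
    (fun z hz => (H.fix (Set.insert_subset xD hA hz)).symm ▸ hz) (X.cen_le_G _ k1) (by
      rintro z (rfl | hz)
      · exact k2
      · rw [k3 z hz]
        exact hT hz)
  refine ⟨h, hG, hN, hc h hG fun z hz => ?_, k4 (Set.mem_insert _ _)⟩
  have k6 := (k5 z (Set.mem_insert_of_mem _ hz)).trans (k3 z hz)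
  rwa [mul_assoc, inv_mul_eq_iff_eq_mul] at k6

theorem tri (hT : BoxTri) (hFr : BoxFr) (i : Fin m) (xD : x ∈ D) (xT : x ∈ X.T)
    (h1 : x ∉ centralizer (X.S (A2 X (a i) (b i)) : Set Y)) (h2 : x ^ 3 ∈ centralizer (X.S (A2 X (a i) (b i)) : Set Y))
    (h3 : ∀ d ∈ D, d * x * d⁻¹ * x⁻¹ ∈ centralizer (X.S (A2 X (a i) (b i)) : Set Y)) :
    (∀ c ∈ A2 X (a i) (b i), X.χ c x ≠ 1) ∧ y ∈ centralizer (X.S (A2 X (a i) (b i)) : Set Y) ∧
      (X.g (a i) ∈ A2 X (a i) (b i) → Rot X (a i) (b i) (X.g (a i)) (X.g (b i))) := by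
  have k1 := mt (Dec.zc_iff (H.rt i) xT).1 h1
  have k2 := (Dec.zc_iff (H.rt i) (pow_mem xT 3)).2 h2
  obtain ⟨k3, k4, k5⟩ := hT X D S Z (a i) (b i) x H.st.p3 H.st.sl H.st.loc.pg H.st.loc.le
    (hFr X 3 D S Nat.prime_three H.st.p3 H.st.pi H.st.loc.pg H.dG H.st.can).2.2.1 H.zT H.sub (H.cmp i) (H.lvs i) H.ce xD xT
    k1 k2 h3
  exact ⟨reg xT k3 k1 k2, k4 y (mem_GF.1 H.st.loc.mem).1 H.st.loc.comm H.st.loc.reg, k5⟩

/-- `D` acts on a component -/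
theorem act (hT : BoxTri) (hLn : BoxLn) (hFr : BoxFr) (i : Fin m)
    (hn : ¬ D ≤ centralizer (X.S (A2 X (a i) (b i)) : Set Y)) : y ∈ centralizer (X.S (A2 X (a i) (b i)) : Set Y) ∧
    (X.g (a i) ∈ A2 X (a i) (b i) → ¬ D ⊓ X.S (A2 X (a i) (b i)) ≤ centralizer (X.S (A2 X (a i) (b i)) : Set Y)) := by
  have := H.fin
  have := X.amb.finite_GF G
  have := Fact.mk Nat.prime_three
  obtain ⟨x, xD, k1, k2, k3⟩ := exists_mod H.st.loc.pg le_rfl (fun d hd x hx => mul_mem (mul_mem hd hx) (inv_mem hd))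
    (fun d hd x hx => conj_K H.st.sl (H.cmp i) (H.dH hd) hx) hn
  obtain ⟨h, hG, hN, hc, xT⟩ := H.frame H.zD' H.zT H.cc xD (H.dH xD)
  have e := H_eq hG hN H.st.sl (H.cmp i) hc
  have H' := H.conj hFr hG hN hc
  obtain ⟨-, k4, k5⟩ := H'.tri hT hFr i xD xT (e ▸ k1) (e ▸ k2) (e ▸ k3)
  rw [e] at k4
  refine ⟨k4, fun hg hle => ?_⟩
  obtain ⟨n, k6, k7, k8⟩ := hLn (X.conj hG hN) (a i) (b i) (H'.rt i _ Dec.a_mem) (H'.rt i _ Dec.b_mem) (H'.cmp i).ab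
    (H'.cmp i).ba (H'.lvs i) (k5 (g_mem hG hN H.st.sl H.zT (H.gst H.zD' H.zT) (H.cmp i) hc hg))
  rw [e] at k6
  have k9 : n ∈ X.cen Z := H_le (H.cmp i).sub k6
  have k10 : n ∈ GF F G := mem_GF.2 ⟨X.cen_le_G _ k9, k7⟩
  obtain ⟨r, j, k11, k12⟩ := exists_part (n := n)
    ((Subgroup.subtype _).isOfFinOrder (isOfFinOrder_of_finite (⟨n, k10⟩ : GF F G)))
  have k13 := rot_part (H'.cmp i) (X.conj hG hN).Sz_root k8 k11
  rw [e] at k13
  obtain ⟨g, k14, k15⟩ := exists_cj (E := GF F G ⊓ centralizer {y} ⊓ X.cen Z) H.st.loc (inf_le_left.trans inf_le_left)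
    (fun d hd => ⟨⟨H.st.loc.le hd, mem_centralizer_singleton_iff.2 (H.st.loc.comm d hd)⟩, H.dH hd⟩)
    (fun _ hx => mem_centralizer_singleton_iff.1 hx.1.2)
    (pow_mem (mem_inf.2 ⟨mem_inf.2 ⟨k10, mem_centralizer_singleton_iff.2 (k4 n k6)⟩, k9⟩) r) k12
  have k17 := (mem_inf.1 k14).2
  have k16 := conj_K H.st.sl (H.cmp i) k17 (hle (mem_inf.2 ⟨k15, by
    simpa only [inv_inv] using conj_H H.st.sl (H.cmp i) (inv_mem k17) (pow_mem k6 r)⟩))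
  exact k13 (by simpa only [mul_assoc, mul_inv_cancel_left, mul_inv_cancel, mul_one] using k16)

/-- elements which centralise the components inside `Sz A` -/
theorem cen_S {Ψ : Set (X.I → ℤ)} (h1 : Ψ ⊆ X.Sz Z)
    (h2 : ∀ i, ∀ c ∈ A2 X (a i) (b i), c ∈ Ψ → x ∈ centralizer (X.S (A2 X (a i) (b i)) : Set Y)) :
    x ∈ centralizer (X.S Ψ : Set Y) := fun _ hu => mem_centralizer_singleton_iff.1 ((RGD.Sup_le fun c hc v hv => by
  obtain ⟨i, hi⟩ := H.cov c (h1 hc)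
  exact mem_centralizer_singleton_iff.2 (h2 i c hi hc v (RGD.le_Sup hi hv)) : X.S Ψ ≤ centralizer {x}) hu)

theorem zA (s : Sta X D Z A a b) : Z ⊆ A := fun z hz => s.zc z (H.zD' hz) ⟨H.zT hz, fun _ hc => hc.2 z hz⟩

theorem sta (s : Sta X D Z A a b) (hG : h ∈ G) (hN : h⁻¹ * F h ∈ X.NN) (hc : h ∈ X.cen A) :
    Sta (X.conj hG hN) D Z A a b := by
  have hZ := X.cen_anti (H.zA s) hc
  have e1 := Sz_conj hG hN H.zT (X.cen_le_centralizer H.zT hZ)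
  have e2 := Sz_conj hG hN s.aT (X.cen_le_centralizer s.aT hc)
  have e3 : Zc (X.conj hG hN) ((X.conj hG hN).Sz Z) = Zc X (X.Sz Z) := by
    rw [e1]
    exact Zc_eq hG hN H.zT hZ
  refine ⟨s.aD, sub_T hG hN s.aT (X.cen_le_centralizer s.aT hc), e3 ▸ s.zc, e3 ▸ s.cm, cc_conj hG hN s.aT hc s.cc, ?_⟩
  rw [e2]
  exact s.cp

/-- the first toral subset -/
theorem sta0 : Sta X D Z (D ⊓ Zc X (X.Sz Z) : Subgroup Y) a b := by
  have h1 : Z ⊆ (D ⊓ Zc X (X.Sz Z) : Subgroup Y) := fun z hz => ⟨H.zD' hz, H.zT hz, fun _ hc => hc.2 z hz⟩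
  have h2 : X.Sz Z ⊆ X.Sz (D ⊓ Zc X (X.Sz Z) : Subgroup Y) := fun c hc => ⟨hc.1, fun z hz => hz.2.2 c hc⟩
  refine ⟨fun _ h => h.1, fun _ h => h.2.1, fun _ k k' => ⟨k, k'⟩, fun d hd x hx => ?_,
    fun g hg k => cen_mono h2 (H.cc g hg fun z hz => k z (h1 hz)), fun i => Or.inl ((H.cmp i).sub.trans h2)⟩
  rw [One.Zc_comm H.zT hx.2 (H.dH hd), mul_inv_cancel_right, mul_inv_cancel]
  exact one_mem _

/-- the step in a frame which contains `x` -/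
theorem step (hT : BoxTri) (hFr : BoxFr) (s : Sta X D Z A a b) (i : Fin m) (hi : A2 X (a i) (b i) ⊆ X.Sz A) (xD : x ∈ D)
    (xT : x ∈ X.T) (xH : x ∈ X.S (A2 X (a i) (b i))) (h1 : x ∉ centralizer (X.S (A2 X (a i) (b i)) : Set Y))
    (h2 : x ^ 3 ∈ centralizer (X.S (A2 X (a i) (b i)) : Set Y))
    (h3 : ∀ d ∈ D, d * x * d⁻¹ * x⁻¹ ∈ centralizer (X.S (A2 X (a i) (b i)) : Set Y)) :
    Sta X D Z (insert x A) a b ∧ (X.Sz (insert x A)).ncard < (X.Sz A).ncard := by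
  obtain ⟨j, hj⟩ := H.el xD
  obtain ⟨e, k1⟩ := cc_insert H.st.p3 H.st.pi H.st.sl (H.cmp i) X.Sz_root (H.lvs i) s.aT s.cc (Sz_anti (H.zA s)) hi xT xH hj
    (H.tri hT hFr i xD xT h1 h2 h3).1
  refine ⟨⟨Set.insert_subset xD s.aD, Set.insert_subset xT s.aT, fun d k k' => Set.mem_insert_of_mem _ (s.zc d k k'), ?_, k1,
    fun l => ?_⟩, ?_⟩
  · rintro d hd z (rfl | hz)
    · exact mem_Zc H.st.sl H.zT (H.cmp i) (mul_mem (conj_H H.st.sl (H.cmp i) (H.dH hd) xH) (inv_mem xH)) (h3 d hd)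
    · exact s.cm d hd z hz
  · rw [e]
    rcases s.cp l with k | k
    · by_cases k2 : ∃ c ∈ A2 X (a l) (b l), c ∈ A2 X (a i) (b i)
      · obtain ⟨c, k3, k4⟩ := k2
        exact Or.inr fun c' k5 k6 => k6.2 (sub_of_mem (H.cmp i) (H.cmp l) X.Sz_root k4 k3 k5)
      · exact Or.inl fun c k3 => ⟨k k3, fun k4 => k2 ⟨c, k3, k4⟩⟩
    · exact Or.inr fun c k3 k4 => k c k3 k4.1
  · rw [e]
    exact Set.ncard_lt_ncard ⟨Set.sdiff_subset, fun k => (k (hi Dec.a_mem)).2 Dec.a_mem⟩ (X.finite_roots.subset X.Sz_root)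

/-- a fixed `3`-element of the torus which acts on the component -/
theorem le (hLE : BoxLE) (hx : Fx X a b) (j : Fin m) : ∃ t ∈ X.T, F t = t ∧ El 3 {t} ∧
    t ∉ centralizer (X.S (A2 X (a j) (b j)) : Set Y) := by
  have ha := H.rt j _ Dec.a_mem
  have hb := H.rt j _ Dec.b_mem
  obtain ⟨ω, hω⟩ := exists_prim p k (n := 3) fun e =>
    H.st.p3 ((Nat.prime_dvd_prime_iff_eq Fact.out Nat.prime_three).1 e).symm
  obtain ⟨-, k1, c, k2, k3⟩ := H.st.la _ _ ha hb (H.cmp j).ab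
  obtain ⟨t, k4, k5, k6, k7⟩ := hLE X (a j) (b j) ω H.st.p3 ha hb (H.cmp j).ab (H.cmp j).ba (hx j).1
    (mem_of_ne (H.cmp j) X.Sz_root (H.gst H.zD' H.zT _ ((H.cmp j).sub Dec.b_mem)) (hx j).1 fun e => by
      have k4 := (g_pair hb ha).1 e
      rw [(H.cmp j).ba] at k4
      omega) hω ((hx j).2 ω hω) (fun e => k3 (by
        have k4 := (TO.X.Cn.χ_exp X c (X.cor (a j) - X.cor (b j)) ω).1 ((congrArg (X.χ c) e).trans (X.χ_one c))
        rwa [hω] at k4)) k1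
  exact ⟨t, k4, k5, k6, mt (Dec.zc_iff (H.rt j) k4).2 k7⟩

/-- the last step -/
theorem last (hLE : BoxLE) (hSup : BoxSup) (hFr : BoxFr) (hx : Fx X a b) (s : Sta X D Z A a b)
    (hall : ∀ i, A2 X (a i) (b i) ⊆ X.Sz A → D ≤ centralizer (X.S (A2 X (a i) (b i)) : Set Y)) (j : Fin m)
    (hj : D ≤ centralizer (X.S (A2 X (a j) (b j)) : Set Y)) : False := by
  have := Fact.mk Nat.prime_three
  have h1 : ∀ d ∈ D, d ∈ X.cen A → d ∈ Zc X (X.Sz A) := fun d hd k => Dec.cz s.aT k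
    (H.cen_S (Sz_anti (H.zA s)) fun i c k1 k2 => hall i ((s.cp i).resolve_right fun k3 => k3 c k1 k2) hd)
  obtain ⟨θ, h2⟩ := H.st.br (closure A) (GF F (X.cen A)) ((closure_le _).2 s.aD) (fun d hd x hx => by
    induction hx using closure_induction with
    | mem x hx =>
      rw [← inv_mul_cancel_right (d * x * d⁻¹) x]
      exact mul_mem (subset_closure (s.zc _ (mul_mem (mul_mem (mul_mem hd (s.aD hx)) (inv_mem hd)) (inv_mem (s.aD hx)))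
        (s.cm d hd x hx))) (subset_closure hx)
    | one => simpa only [mul_one, mul_inv_cancel] using one_mem _
    | mul x y _ _ k k' => simpa only [mul_assoc, inv_mul_cancel_left] using mul_mem k k'
    | inv x _ k => simpa only [_root_.mul_inv_rev, inv_inv, mul_assoc] using inv_mem k) (by
    rw [centralizer_closure]
    exact Subgroup.ext fun g => ⟨fun k => ⟨mem_GF.2 ⟨X.cen_le_G _ (mem_GF.1 k).1, (mem_GF.1 k).2⟩,
      X.cen_le_centralizer s.aT (mem_GF.1 k).1⟩, fun k => mem_GF.2 ⟨s.cc g (mem_GF.1 k.1).1 k.2, (mem_GF.1 k.1).2⟩⟩)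
  obtain ⟨h, hc, hN', h3⟩ := hSup (X.sub s.aT (H.gst s.aD s.aT) rfl) 3 θ Nat.prime_three H.st.p3
  have hG := X.cen_le_G _ hc
  have hN : h⁻¹ * F h ∈ X.NN := (X.sub_NN s.aT (H.gst s.aD s.aT) rfl ▸ hN' : _ ∈ X.NN ⊓ X.cen A).1
  rw [Datum.conj_T, Datum.sub_T, ← X.conj_T hG hN] at h3
  have hZ := X.cen_anti (H.zA s) hc
  obtain ⟨t, k1, k2, k3, k4⟩ := (H.conj hFr hG hN hZ).le hLE (H.fx hG hN hZ hx) j
  rw [H_eq hG hN H.st.sl (H.cmp j) hZ] at k4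
  obtain ⟨i, hi⟩ := k3 t rfl
  have := X.amb.finite_GF (X.conj hG hN).T
  refine k4 (hj (mem_of_val (A := D ⊓ GF F (X.cen A)) (B := GF F (X.conj hG hN).T) (fun d hd => mem_GF.2 ⟨?_, H.fix hd.1⟩)
    (fun u hu v hv => (X.conj hG hN).T_comm (mem_GF.1 hu).1 (mem_GF.1 hv).1) (H.st.loc.pg.to_le inf_le_left) (by omega)
    (mem_GF.2 ⟨k1, k2⟩) hi).1)
  exact ((Zc_eq hG hN s.aT hc).symm ▸ h1 d hd.1 (mem_GF.1 hd.2).1 : d ∈ Zc (X.conj hG hN) (X.Sz A)).1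

/-- the transitive case -/
theorem trans {i j : Fin m} (hi : D ≤ centralizer (X.S (A2 X (a i) (b i)) : Set Y)) {e : ℕ}
    (he : X.g^[e] (a i) ∈ A2 X (a j) (b j)) : D ≤ centralizer (X.S (A2 X (a j) (b j)) : Set Y) := by
  have hg := H.gst H.zD' H.zT
  have key : ∀ e : ℕ, ∀ c ∈ X.Sz Z, X.wt c ⬝ᵥ X.cor (X.g^[e] (a i)) ≠ 0 → X.X c ≤ centralizer (D : Set Y) := fun e => by
    induction e with
    | zero => exact fun c hc k u hu d hd =>
      (hi hd u (RGD.le_Sup (mem_of_ne (H.cmp i) X.Sz_root hc Dec.a_mem k) hu)).symm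
    | succ e ih =>
      intro c hc k
      obtain ⟨c, hc', rfl⟩ := (X.g_bijOn X.Sz_root hg).surjOn hc
      rw [Function.iterate_succ_apply'] at k
      rw [← X.map_X hc'.1]
      rintro _ ⟨u, hu, rfl⟩ d hd
      have k1 := congrArg F (ih c hc' (mt (g_pair hc'.1 (X.iterate_g_root e (H.rt i _ Dec.a_mem))).2 k) hu d hd)
      rwa [map_mul, map_mul, H.fix hd] at k1
  exact le_centralizer_iff.1 (RGD.Sup_le fun c hc => key e c ((H.cmp j).sub hc) (ne_zero (H.cmp j) X.Sz_root hc he))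

end Hy

theorem ind (hT : BoxTri) (hLn : BoxLn) (hLE : BoxLE) (hSup : BoxSup) (hFr : BoxFr) (n : ℕ) :
    ∀ (X : Datum p ρ F G) (a b : Fin m → X.I → ℤ) (A : Set Y), Hy X D S y Z a b → Fx X a b → Sta X D Z A a b →
      (X.Sz A).ncard = n → ∀ j, ¬ D ≤ centralizer (X.S (A2 X (a j) (b j)) : Set Y) := by
  induction n using Nat.strong_induction_on with
  | _ n ih =>
  intro X a b A H hx s hn j hj
  refine H.last hLE hSup hFr hx s (fun i hi => ?_) j hj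
  by_contra k
  have := H.fin
  have := Fact.mk Nat.prime_three
  obtain ⟨x, ⟨xD, xH⟩, k1, k2, k3⟩ := exists_mod H.st.loc.pg inf_le_left (fun d hd x hx => mem_inf.2
    ⟨mul_mem (mul_mem hd (mem_inf.1 hx).1) (inv_mem hd), conj_H H.st.sl (H.cmp i) (H.dH hd) (mem_inf.1 hx).2⟩)
    (fun d hd x hx => conj_K H.st.sl (H.cmp i) (H.dH hd) hx) ((H.act hT hLn hFr i k).2 (hx i).1)
  obtain ⟨h, hG, hN, hc, xT⟩ := H.frame s.aD s.aT s.cc xD (H_le hi xH)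
  have hZ := X.cen_anti (H.zA s) hc
  have e := H_eq hG hN H.st.sl (H.cmp i) hZ
  have e2 := Sz_conj hG hN s.aT (X.cen_le_centralizer s.aT hc)
  have H' := H.conj hFr hG hN hZ
  obtain ⟨s', k4⟩ := H'.step hT hFr (H.sta s hG hN hc) i (e2 ▸ hi) xD xT (e ▸ xH) (e ▸ k1) (e ▸ k2) (e ▸ k3)
  refine ih _ (k4.trans_eq ((congrArg Set.ncard e2).trans hn)) (X.conj hG hN) a b _ H' (H.fx hG hN hZ hx) s' rfl j ?_
  rwa [H_eq hG hN H.st.sl (H.cmp j) hZ]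

end A2K

open A2K in
/-- **[A2K]** -/
theorem boxA2K_of (hT : BoxTri) (hLn : BoxLn) (hLE : BoxLE) (hSup : BoxSup) (hFr : BoxFr) : BoxA2K := by
  intro p _ k _ _ Y _ N _ _ ρ F G _ X D S y Z m a b st _ zT zD cc sub cmp cov hcase
  have H : Hy X D S y Z a b := ⟨st, zT, zD, cc, sub, cmp, cov⟩
  refine Dec.cz zT (H.ce y H.yce) (H.cen_S subset_rfl fun j _ _ _ => (H.act hT hLn hFr j fun hj => ?_).1)
  rcases hcase with hx | htr
  · exact ind hT hLn hLE hSup hFr _ X a b _ H hx H.sta0 rfl j hj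
  · have key : ∀ d ∈ D, d ∈ X.T := fun d hd => (Dec.cz zT (H.dH hd) (H.cen_S subset_rfl fun i _ _ _ => by
      obtain ⟨e, he⟩ := htr j i
      exact H.trans hj he hd)).1
    exact st.na fun u hu v hv => X.T_comm (key u hu) (key v hv)

end Cfsg.Agent.RC.B
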