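import Cfsg.Agent.RC.B.Defs

/-!
# RC, `l = 3` : boxes [CC], [FR]; change of the frame (helper34)

`Z0_conj`, `Zc_conj`, `cen_conj`, `mu_conj`, `Can.conj`, `St.conj`.
-/

set_option autoImplicit false
set_option linter.unusedSectionVars false
set_option maxHeartbeats 200000

namespace Cfsg.Agent.RC.B

open Cfsg Cfsg.Lie Cfsg.Agent.DL Cfsg.Agent.Nodes.Reps Cfsg.Agent.Nodes.BNOf Matrix Subgroup Cfsg.Agent.KM.Ht Cfsg.Agent.KM.Tor
open Cfsg.Agent.TO.X.Cn (Pi1 χ_exp)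

variable {p : ℕ} [Fact p.Prime] {k : Type} [Field k] [CharP k p] {Y : Type} [Group Y] {N : Type} [Fintype N]
  [DecidableEq N] {ρ : Y →* GL N k} {F : MulAut Y} {G : Subgroup Y} [IsAlgClosed k] {X : Datum p ρ F G}

section frame

variable {y : Y} (hy : y ∈ G) (hN : y⁻¹ * F y ∈ X.NN) {Z : Set Y} (hZ : Z ⊆ X.T) (hZ' : Z ⊆ (X.conj hy hN).T)
include hZ hZ'

/-- two frames which contain `Z` -/
theorem frame_form : ∃ c ∈ X.S (X.Sz Z), ∃ w m, X.Rp w m ∧ y = c * m ∧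
    ∀ a, a ∈ (X.conj hy hN).Sz Z ↔ X.act w a ∈ X.Sz Z := by
  obtain ⟨c, hc, m, ⟨w, hm⟩, e, e'⟩ := X.exists_conj_form (s := fun z : Z => y⁻¹ * z * y) (t := fun z : Z => (z : Y))
    (fun z => mem_cj.1 (hZ' z.2)) (fun z => hZ z.2) hy fun z => by group
  rw [Subtype.range_coe] at hc
  refine ⟨c, hc, w, m, hm, e', fun a => and_congr ⟨fun h => h.act w, fun h => ?_⟩ (forall₂_congr fun z hz => ?_)⟩
  · have : X.Rt (X.act w⁻¹ (X.act w a)) := h.act w⁻¹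
    rwa [← CF.act_mul, inv_mul_cancel, CF.act_one] at this
  · have h1 := X.conj_χ hy hN a (mem_cj.1 (hZ' hz))
    have h2 := X.χ_rp hm a (mem_cj.1 (hZ' hz))
    rw [e ⟨z, hz⟩, mul_inv_cancel_right] at h2
    rw [show y * (y⁻¹ * z * y) * y⁻¹ = z by group] at h1
    rw [h1, h2]

theorem Zc_conj : Zc (X.conj hy hN) ((X.conj hy hN).Sz Z) = Zc X (X.Sz Z) := by
  obtain ⟨c, hc, w, m, hm, e, h⟩ := frame_form hy hN hZ hZ'
  have key : ∀ t ∈ Zc X (X.Sz Z), c * t * c⁻¹ = t := fun t ht => mul_inv_eq_of_eq_mul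
    (X.cen_le_centralizer (Z := {t}) (Set.singleton_subset_iff.2 ht.1) (X.S_le_cen _
      (RGD.Sup_mono (S := X.Sz Z) (S' := X.Sz {t}) (fun a ha => ⟨ha.1, fun _ e => e ▸ ht.2 a ha⟩) hc)) t rfl).symm
  have h1 : ∀ t ∈ X.T, y * t * y⁻¹ ∈ Zc (X.conj hy hN) ((X.conj hy hN).Sz Z) ↔ m * t * m⁻¹ ∈ Zc X (X.Sz Z) := fun t ht => by
    refine and_congr (iff_of_true (conj_mem_cj.2 ht) (X.conj_mem_T ⟨_, hm⟩ ht)) ⟨fun h1 a ha => ?_, fun h1 a ha => ?_⟩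
    · have e1 : X.act w (X.act w⁻¹ a) = a := by rw [← CF.act_mul, mul_inv_cancel, CF.act_one]
      rw [← e1, X.χ_rp hm _ ht, ← X.conj_χ hy hN _ ht]
      exact h1 _ ((h _).2 (e1.symm ▸ ha))
    · rw [X.conj_χ hy hN a ht, ← X.χ_rp hm a ht]
      exact h1 _ ((h a).1 ha)
  have h2 : ∀ t, y * t * y⁻¹ = c * (m * t * m⁻¹) * c⁻¹ := fun t => by rw [e]; group
  refine le_antisymm (fun t ht => ?_) fun t ht => ?_
  · have h3 := mem_cj.1 ht.1
    have h4 : t = y * (y⁻¹ * t * y) * y⁻¹ := by group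
    have h5 := (h1 _ h3).1 (h4 ▸ ht)
    rwa [h4, h2, key _ h5]
  · have h3 := X.conj_mem_T ⟨_, hm.inv⟩ ht.1
    have h4 : m * (m⁻¹ * t * m⁻¹⁻¹) * m⁻¹ = t := by group
    have h5 := (h1 _ h3).2 (h4.symm ▸ ht)
    rwa [h2, h4, key _ ht] at h5

theorem Z0_conj : Z0 (X.conj hy hN) Z = Z0 X Z := by
  obtain ⟨c, hc, w, m, hm, e, h⟩ := frame_form hy hN hZ hZ'
  have key : ∀ v a, Pp X (X.Sz Z) (X.Wm w *ᵥ v) → (X.conj hy hN).τ (coch v a) = X.τ (coch (X.Wm w *ᵥ v) a) := fun v a hv => by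
    rw [X.conj_tau, e, show c * m * X.τ (coch v a) * (c * m)⁻¹ = c * (m * X.τ (coch v a) * m⁻¹) * c⁻¹ by group,
      X.conj_τ hm, mon_coch, cen_comm_Z0 X Z (X.S_le_cen _ hc) (mem_Z0 hv a), mul_inv_cancel_right]
  have h1 : ∀ v, Pp (X.conj hy hN) ((X.conj hy hN).Sz Z) v ↔ Pp X (X.Sz Z) (X.Wm w *ᵥ v) := fun v =>
    ⟨fun hv b hb => by
      rw [dotProduct_mulVec, ← X.wt_act']
      exact hv _ ((h _).2 (by rwa [← CF.act_mul, mul_inv_cancel, CF.act_one])), fun hv b hb => by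
      have := hv _ ((h b).1 hb)
      rwa [dotProduct_mulVec, X.wt_act] at this⟩
  refine congrArg Subgroup.closure (Set.ext fun z => ⟨fun ⟨v, a, hv, e⟩ => ⟨_, a, (h1 v).1 hv, e.trans (key v a ((h1 v).1 hv))⟩,
    fun ⟨v, a, hv, e⟩ => ?_⟩)
  have h2 : X.Wm w *ᵥ X.Wm w⁻¹ *ᵥ v = v := by rw [mulVec_mulVec, ← X.Wm_mul, mul_inv_cancel, X.Wm_one, one_mulVec]
  exact ⟨_, a, (h1 _).2 (h2.symm ▸ hv), by rw [key _ a (h2.symm ▸ hv), h2, e]⟩

theorem cen_conj : (X.conj hy hN).cen Z = X.cen Z := by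
  obtain ⟨c, hc, w, m, hm, e, h⟩ := frame_form hy hN hZ hZ'
  have h0 := X.S_le_cen _ hc
  refine le_antisymm (sup_le (fun t ht => ?_) fun t ht => ?_) (sup_le (fun t ht => ?_) fun t ht => ?_)
  · rw [show t = c * (m * (y⁻¹ * t * y) * m⁻¹) * c⁻¹ by rw [e]; group]
    exact mul_mem (mul_mem h0 (X.T_le_cen _ (X.conj_mem_T ⟨_, hm⟩ (mem_cj.1 ht)))) (inv_mem h0)
  · rw [show t = c * (m * (y⁻¹ * t * y) * m⁻¹) * c⁻¹ by rw [e]; group]
    rw [X.conj_S] at ht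
    exact mul_mem (mul_mem h0 (X.S_le_cen _ (X.conj_mem_S hm (fun _ h => h.1) (fun a ha => (h a).1 ha) (mem_cj.1 ht)))) (inv_mem h0)
  all_goals
    have key : ∀ s ∈ X.S (X.Sz Z), s ∈ (X.conj hy hN).cen Z := fun s hs => (X.conj hy hN).S_le_cen _ (by
      rw [X.conj_S, mem_cj, show y⁻¹ * s * y = m⁻¹ * (c⁻¹ * s * c) * m⁻¹⁻¹ by rw [e]; group]
      exact X.conj_mem_S hm.inv (fun _ h => h.1) (fun a ha => (h _).2 (by rwa [← CF.act_mul, mul_inv_cancel, CF.act_one]))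
        (mul_mem (mul_mem (inv_mem hc) hs) hc))
  · rw [show t = c⁻¹ * (y * (m⁻¹ * t * m⁻¹⁻¹) * y⁻¹) * c by rw [e]; group]
    exact mul_mem (mul_mem (inv_mem (key c hc)) ((X.conj hy hN).T_le_cen _ (conj_mem_cj.2 (X.conj_mem_T ⟨_, hm.inv⟩ ht)))) (key c hc)
  · exact key t ht

end frame

theorem Sz_empty : X.Sz ∅ = {a | X.Rt a} := Set.ext fun _ => ⟨fun h => h.1, fun h => ⟨h, fun _ h => h.elim⟩⟩

theorem mu_conj {y : Y} (hy : y ∈ G) (hN : y⁻¹ * F y ∈ X.NN) : mu (X.conj hy hN) = mu X := Subgroup.ext fun t =>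
  and_congr_left' (by
    have := Zc_conj hy hN (Set.empty_subset _) (Set.empty_subset _)
    rw [Sz_empty, Sz_empty] at this
    rw [this])

theorem dot_zero {b : X.I → ℤ} {v : X.R → ℤ} (h : ∀ a, X.χ b (X.τ (coch v a)) = 1) : X.wt b ⬝ᵥ v = 0 := by
  obtain ⟨ζ, hζ⟩ := exists_prim p k (n := p * (X.wt b ⬝ᵥ v).natAbs + 1) fun h1 =>
    (Fact.out : p.Prime).one_lt.ne' (Nat.dvd_one.1 ((Nat.dvd_add_right (dvd_mul_right _ _)).1 h1))
  have h1 := (χ_exp X b v ζ).1 (h ζ)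
  rw [hζ, Int.natCast_dvd] at h1
  exact Int.natAbs_eq_zero.1 (Nat.eq_zero_of_dvd_of_lt h1 (Nat.lt_succ_of_le (Nat.le_mul_of_pos_left _ (Fact.out : p.Prime).pos)))

section cc

variable {l : ℕ} {S : Subgroup Y} (hl : l.Prime) (hp : l ≠ p) (h : Pi1 X 1) (hS : Z0 X S = S)
include hS

theorem S_le_T : S ≤ X.T := hS ▸ Z0_le_T X S

include hl hp

theorem exists_s {u : Y} (hu : u ∈ X.T) {j : ℕ} (h1 : u ^ l ^ j = 1) :
    ∃ s ∈ Z0 X S, (∃ i : ℕ, (u * s) ^ l ^ i = 1) ∧ X.Sz {u * s} = X.Sz (insert u (S : Set Y)) :=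
  exists_one hl hp (qc_of_le hS.ge) hu h1

theorem toral_ins {u : Y} (hu : u ∈ X.T) {j : ℕ} (h1 : u ^ l ^ j = 1) {v : Y} (hv : v ∈ X.cen (insert u (S : Set Y)))
    (h2 : ¬ p ∣ orderOf v) : ∃ g ∈ X.cen (insert u (S : Set Y)), g⁻¹ * v * g ∈ X.T := by
  obtain ⟨s, a1, -, a3⟩ := exists_s hl hp hS hu h1
  rw [← cen_congr a3] at hv ⊢
  exact toral_cen (Set.singleton_subset_iff.2 (mul_mem hu (Z0_le_T X _ a1))) (Set.finite_singleton _) hv h2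

include h

theorem cc_S : CC X S := fun y hy hc => by
  obtain ⟨s, a1, ⟨i, a2⟩, a3⟩ := exists_s hl hp hS (one_mem _) (j := 0) (one_pow _)
  rw [one_mul] at a2 a3
  rw [Set.insert_eq_of_mem (show (1 : Y) ∈ (S : Set Y) from one_mem S)] at a3
  rw [← cen_congr a3]
  exact TO.X.Cn.mem_cen h (Z0_le_T X _ a1) a2 (Nat.coprime_one_right _) hy (hc s (hS.le a1)).symm

theorem cc_ins {u : Y} (hu : u ∈ X.T) {j : ℕ} (h1 : u ^ l ^ j = 1) : CC X (insert u (S : Set Y)) :=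
  let ⟨_, a1, ⟨_, a2⟩, a3⟩ := exists_s hl hp hS hu h1
  (cc_S hl hp h hS).insert h (Nat.coprime_one_right l) hu a1 a2 a3

end cc

/-- **[CC]** -/
theorem boxCC : BoxCC := by
  intro p _ k _ _ Y _ N _ _ ρ F G _ X l S hl hp h hS
  refine ⟨cc_S hl hp h hS, fun u hu he => (he u rfl).elim fun _ => cc_ins hl hp h hS hu,
    fun y hy hN h1 => (Z0_conj hy hN (S_le_T hS) h1).trans hS, fun hF u hu v hv he huv hc => ?_⟩
  obtain ⟨i, hi⟩ := he u (.inl rfl)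
  obtain ⟨j, hj⟩ := he v (.inr rfl)
  have e1 : insert (1 : Y) (S : Set Y) = S := Set.insert_eq_of_mem (one_mem S)
  obtain ⟨g, hg, h1⟩ := toral_ins hl hp hS (one_mem _) (j := 0) (one_pow _)
    (e1.symm ▸ cc_S hl hp h hS u hu.1 fun z hz => (hc z hz).1.symm) (not_dvd_ord hl hp hi)
  rw [e1] at hg
  have h2 := X.cen_le_centralizer (S_le_T hS) hg
  have e2 : ∀ {x : Y} {n : ℕ}, x ^ n = 1 → (g⁻¹ * x * g) ^ n = 1 := fun e => by
    rw [← inv_inv g, inv_inv g⁻¹, conj_pow, e, mul_one, mul_inv_cancel]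
  have hG := X.cen_le_G _ hg
  obtain ⟨c, h3, h4⟩ := toral_ins hl hp hS h1 (e2 hi) (v := g⁻¹ * v * g) (cc_ins hl hp h hS h1 (e2 hi) _
    (mul_mem (mul_mem (inv_mem hG) hv.1) hG) (by
      rintro z (rfl | hz)
      · calc _ = g⁻¹ * (u * v) * g := by group
          _ = _ := by rw [huv]; group
      · exact mul_mem (mul_mem (inv_mem h2) (show v ∈ centralizer (S : Set Y) from fun z hz => (hc z hz).2.symm)) h2 z hz))
    (not_dvd_ord hl hp (e2 hj))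
  have h5 := X.cen_le_centralizer (Set.insert_subset h1 (S_le_T hS)) h3
  obtain ⟨y, hy, hN, h6, -⟩ := SB.Exc.Max.exists_conj_le_T X (Z := insert v (insert u (S : Set Y))) (x := g * c) (by
    rintro z (rfl | rfl | hz)
    exacts [.inl hv.2, .inr (.inl hu.2), .inr (.inr (hF z hz))]) (mul_mem hG (X.cen_le_G _ h3)) (by
    rintro z (rfl | rfl | hz)
    · rwa [show (g * c)⁻¹ * z * (g * c) = c⁻¹ * (g⁻¹ * z * g) * c by group]
    · rwa [show (g * c)⁻¹ * z * (g * c) = c⁻¹ * (g⁻¹ * z * g * c) by group, h5 _ (.inl rfl), inv_mul_cancel_left]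
    · rw [show (g * c)⁻¹ * z * (g * c) = c⁻¹ * (g⁻¹ * (z * g) * c) by group, h2 z hz, inv_mul_cancel_left, h5 z (.inr hz),
        inv_mul_cancel_left]
      exact S_le_T hS hz)
  exact ⟨y, hy, hN, fun z hz => h6 (.inr (.inr hz)), h6 (.inr (.inl rfl)), h6 (.inl rfl)⟩

variable {l : ℕ} {D S : Subgroup Y}

theorem Can.stF (h : Can X l D S) : ∀ z ∈ S, F z ∈ S := h.z0 ▸ (KM.Si.Ad.boxP' X S h.stab).1

theorem Can.conj (h : Can X l D S) {y : Y} (hy : y ∈ G) (hN : y⁻¹ * F y ∈ X.NN) (h1 : S ≤ (X.conj hy hN).T) :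
    Can (X.conj hy hN) l D S := by
  have e := Z0_conj hy hN (S_le_T h.z0) h1
  refine ⟨⟨fun _ => (X.conj hy hN).g_mem_Sz h1 h.stF, e ▸ h.cen, e ▸ h.nrm, e ▸ h.reg⟩, e.trans h.z0, fun g hg v hv a => ?_⟩
  have e1 : ∀ a, g * (X.conj hy hN).τ (coch v a) * g⁻¹ = g * y * X.τ (coch v a) * (g * y)⁻¹ := fun a => by
    rw [X.conj_tau]; group
  simp only [e1] at hv ⊢
  exact h.max _ (mul_mem hg hy) v hv a

theorem St.conj {y : Y} (h : St X D S y) {g : Y} (hg : g ∈ G) (hN : g⁻¹ * F g ∈ X.NN) (h1 : S ≤ (X.conj hg hN).T) :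
    St (X.conj hg hN) D S y :=
  ⟨h.p3, h.pi, by have := h.sl; unfold Sl at this ⊢; rwa [conj_cor], by have := h.la; unfold LA at this ⊢; rwa [conj_cor],
    h.can.conj hg hN h1, h.loc, h.na, h.br⟩

theorem Can.comm (h : Can X l D S) {c : Y} (hc : Ce l G D c) : c ∈ centralizer (S : Set Y) := fun z hz =>
  (hc.elim (fun hc => h.cen c hc z (h.z0.ge hz)) fun hc => h.reg c hc.1 hc.2.1 hc.2.2 z (h.z0.ge hz)).symm

theorem Can.pp (h : Can X l D S) {v : X.R → ℤ} (hv : ∀ c, Ce l G D c → ∀ a, c * X.τ (coch v a) = X.τ (coch v a) * c) :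
    Pp X (X.Sz S) v := fun _ hb => dot_zero fun a => hb.2 _ (by
  simpa using h.max 1 (one_mem _) v (fun c hc a => by simpa using hv c hc a) a)

/-- **[FR]** -/
theorem boxFr : BoxFr := by
  intro p _ k _ _ Y _ N _ _ ρ F G _ X l D S hl hp h hD hG H
  have h1 : ∀ c, Ce l G D c → c ∈ G := fun c hc => hc.elim (fun h => hG h) fun h => h.1
  refine ⟨H.stF, fun c hc => cc_S hl hp h H.z0 c (h1 c hc) (H.comm hc), fun _ => H.pp, fun _ => H.conj, fun u hu h2 => ?_⟩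
  obtain ⟨j, hj⟩ := hD ⟨u, h2.1⟩
  have h3 : ∀ c, Ce l G D c → c ∈ X.cen (insert u (S : Set Y)) := fun c hc =>
    cc_ins hl hp h H.z0 hu (congrArg Subtype.val hj) c (h1 c hc) (by
      rintro z (rfl | hz)
      exacts [hc.elim (fun hc => (h2.2 c hc).symm) fun hc => hc.2.1 z h2.1, H.comm hc z hz])
  exact ⟨fun v hv => H.pp fun c hc a => cen_comm_Z0 X _ (h3 c hc) (mem_Z0 hv a), h3⟩

end Cfsg.Agent.RC.B
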