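import Cfsg.Agent.RC.B.Dec

/-!
# RC (S4576): `boxTri : BoxTri` (helper10)
-/

set_option autoImplicit false
set_option linter.unusedSectionVars false

namespace Cfsg.Agent.RC.B

open Cfsg Cfsg.Lie Cfsg.Agent.DL Cfsg.Agent.Nodes.Reps Cfsg.Agent.Nodes.BNOf Matrix Subgroup Cfsg.Agent.KM.Ht
  Cfsg.Agent.KM.Tor
open Cfsg.Agent.KM.Tor.TW (pr pr_add pr_neg pr_self a_neg a_add)
open Cfsg.Agent.TO.X.Cn (χ_pow χ_exp)
open Cfsg.Agent.DL.CF (act_mul act_one)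
open Dec

variable {p : ℕ} [Fact p.Prime] {k : Type} [Field k] [CharP k p] {Y : Type} [Group Y] {N : Type} [Fintype N]
  [DecidableEq N] {ρ : Y →* GL N k} {F : MulAut Y} {G : Subgroup Y} [IsAlgClosed k] {X : Datum p ρ F G}
  {Z : Set Y} {C Ψ : Set (X.I → ℤ)} {a b : X.I → ℤ} {c d m x : Y} {v w : X.W}

namespace Tri

theorem eq_oneL (h0 : ∀ a ∈ C, X.Rt a) (hL : Lvs X C) (hm : X.Rp w m) (hc : m ∈ X.T ⊔ X.S C)
    (h : ∀ a ∈ C, X.act w a = a) : w = 1 := by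
  obtain ⟨s, hs, rfl⟩ := exists_s h0 hL
  obtain ⟨d, e, H⟩ := X.exists_split'
  exact eq_one_of_pos (X := spl H) (Set.singleton_subset_iff.2 hs) (fun _ h => h) hm hc fun a ha h1 => (h a ha).symm ▸ h1

/-- the Weyl group of type `A₂` -/
theorem wc (ha : X.Rt a) (hb : X.Rt b) (h1 : X.wt a ⬝ᵥ X.cor b = -1) (h2 : X.wt b ⬝ᵥ X.cor a = -1)
    (hw : w ∈ closure (X.rf '' A2 X a b)) :
    (X.act w a = a ∧ X.act w b = b) ∨ (X.act w a = b ∧ X.act w b = -(a + b)) ∨ (X.act w a = -(a + b) ∧ X.act w b = a) ∨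
    (X.act w a = -a ∧ X.act w b = a + b) ∨ (X.act w a = a + b ∧ X.act w b = -b) ∨ (X.act w a = -b ∧ X.act w b = -a) := by
  have hab := a2_rt ha hb h2 _ ab_mem
  have key : ∀ r ∈ X.rf '' A2 X a b, r⁻¹ = r ∧ ((X.act r a = -a ∧ X.act r b = a + b) ∨ (X.act r a = a + b ∧ X.act r b = -b) ∨
      (X.act r a = -b ∧ X.act r b = -a)) := by
    have k1 := And.intro (X.act_rf_self ha) (rf_a_b ha h2)
    have k2 := And.intro ((rf_a_b hb h1).trans (add_comm _ _)) (X.act_rf_self hb)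
    have k3 : X.act (X.rf (a + b)) a = -b ∧ X.act (X.rf (a + b)) b = -a := by
      simp only [TW.act_rf hab, pr, cor_add ha hb h1 h2, dotProduct_add, h1, h2, show X.wt a ⬝ᵥ X.cor a = 2 from pr_self ha,
        show X.wt b ⬝ᵥ X.cor b = 2 from pr_self hb]
      constructor <;> module
    rintro _ ⟨r, hr, rfl⟩
    refine ⟨inv_eq_of_mul_eq_one_right (X.rf_mul_self (a2_rt ha hb h2 r hr)), ?_⟩
    rcases hr with rfl | rfl | rfl | rfl | rfl | rfl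
    exacts [.inl k1, .inr (.inl k2), .inr (.inr k3), X.rf_neg ha ▸ .inl k1, X.rf_neg hb ▸ .inr (.inl k2),
      X.rf_neg hab ▸ .inr (.inr k3)]
  induction hw using closure_induction_left with
  | one => exact .inl ⟨act_one .., act_one ..⟩
  | inv_mul_cancel r hr w _ ih | mul_left r hr w _ ih =>
    try rw [(key r hr).1]
    rcases (key r hr).2 with ⟨k1, k2⟩ | ⟨k1, k2⟩ | ⟨k1, k2⟩ <;>
    rcases ih with ⟨e1, e2⟩ | ⟨e1, e2⟩ | ⟨e1, e2⟩ | ⟨e1, e2⟩ | ⟨e1, e2⟩ | ⟨e1, e2⟩ <;>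
    simp [act_mul, e1, e2, a_neg, a_add, k1, k2]

variable (X) in
/-- the normal form of an element which fixes `x` modulo the centraliser of the component -/
def Fm (C Ψ : Set (X.I → ℤ)) (x c : Y) (w : X.W) : Prop :=
  (∃ c' ∈ X.S (C ∩ X.Sz {x}), ∃ m ∈ X.T ⊔ X.S C, ∃ c₂ ∈ X.S (Ψ \ C), X.Rp w m ∧ c = c' * m * c₂) ∧
    w ∈ closure (X.rf '' C) ∧ ∀ r ∈ C, X.χ (X.act w r) x = X.χ r x

theorem form (hS : Sl X) (h : Cmp X (X.Sz Z) a b) (hL : Lvs X (A2 X a b)) (hx : x ∈ X.T) (hc : c ∈ X.cen Z)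
    (h1 : c * x * c⁻¹ * x⁻¹ ∈ centralizer (X.S (A2 X a b) : Set Y)) : ∃ w, Fm X (A2 X a b) (X.Sz Z) x c w := by
  have h0 : ∀ r ∈ A2 X a b, X.Rt r := fun r hr => (h.sub hr).1
  obtain ⟨c₁, h2, c₂, h3, rfl⟩ := h.dec hS hc
  have h4 : c₁ * x * c₁⁻¹ * x⁻¹ ∈ Zc X (A2 X a b) := by
    refine czL h0 hL (mul_mem (mul_mem (mul_mem h2 (mem_sup_left hx)) (inv_mem h2)) (mem_sup_left (inv_mem hx))) ?_
    rw [show c₁ * x * c₁⁻¹ * x⁻¹ = (c₁ * (c₂ * (x * c₂⁻¹ * x⁻¹)) * c₁⁻¹)⁻¹ * (c₁ * c₂ * x * (c₁ * c₂)⁻¹ * x⁻¹) by group]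
    exact mul_mem (inv_mem (conj_cenS h0 h2 (h.comm hS X.Sz_root (mul_mem h3
      (X.conj_mem_S_of_T (fun _ hr => hr.1.1) hx (inv_mem h3)))))) h1
  obtain ⟨s, hs, h5⟩ := exists_s h0 hL
  have hs' := Set.singleton_subset_iff.2 hs
  have h6 : c₁ ∈ X.cen {s} := by rwa [Datum.cen, h5]
  obtain ⟨c', h7, m, ⟨w, h8⟩, h9, e⟩ := X.exists_conj_form (s := ![x, s]) (t := ![c₁ * x * c₁⁻¹ * x⁻¹ * x, s])
    (Fin.forall_fin_two.2 ⟨hx, hs⟩) (Fin.forall_fin_two.2 ⟨mul_mem h4.1 hx, hs⟩) (X.cen_le_G _ h6)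
    (Fin.forall_fin_two.2 ⟨by simp, mem_centralizer_singleton_iff.1 (X.cen_le_centralizer hs' h6)⟩)
  have h10 : c' ∈ X.S (A2 X a b ∩ X.Sz {x}) := RGD.Sup_mono (fun r hr => by
    have k1 : r ∈ A2 X a b := h5 ▸ ⟨hr.1, fun _ e => e ▸ hr.2 _ ⟨1, rfl⟩⟩
    have k2 : X.χ r (c₁ * x * c₁⁻¹ * x⁻¹ * x) = 1 := hr.2 _ ⟨0, rfl⟩
    rw [X.χ_mul r h4.1 hx, h4.2 r k1, one_mul] at k2
    exact ⟨k1, hr.1, fun _ e => e ▸ k2⟩) h7
  have h11 : m ∈ X.T ⊔ X.S (A2 X a b) := by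
    rw [show m = c'⁻¹ * c₁ by rw [e]; group]
    exact mul_mem (inv_mem (mem_sup_right (RGD.Sup_mono Set.inter_subset_left h10))) h2
  refine ⟨w, ⟨c', h10, m, h11, c₂, h3, h8, by rw [e]⟩, mem_cloL h0 hL h8 h11, fun r hr => ?_⟩
  have k1 : X.act w r ∈ A2 X a b := h5 ▸ X.act_mem_Sz hs' h8 (mem_centralizer_singleton_iff.2 (h9 1)) (h5.symm ▸ hr)
  have k2 := X.χ_rp h8 r hx
  rwa [show m * x * m⁻¹ = c₁ * x * c₁⁻¹ * x⁻¹ * x from mul_inv_eq_iff_eq_mul.2 (h9 0), X.χ_mul _ h4.1 hx, h4.2 _ k1,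
    one_mul] at k2

theorem comm_τ {v : X.R → ℤ} (h0 : ∀ a ∈ Ψ, X.Rt a) (h : Pp X Ψ v) (hc : c ∈ X.S Ψ) (s : kˣ) :
    c * X.τ (coch v s) = X.τ (coch v s) * c :=
  (zc_iff h0 (X.τ_mem _)).1 ⟨X.τ_mem _, fun a ha => (χ_exp X a v s).2 (h a ha ▸ dvd_zero _)⟩ c hc

theorem Fm.comm {v : X.R → ℤ} (h : Fm X C Ψ x c w) (h0 : ∀ a ∈ Ψ, X.Rt a) (h1 : Pp X (C ∩ X.Sz {x}) v)
    (h2 : X.Wm w *ᵥ v = v) (h3 : Pp X (Ψ \ C) v) (s : kˣ) : c * X.τ (coch v s) = X.τ (coch v s) * c := by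
  obtain ⟨⟨c', k1, m, -, c₂, k2, k3, rfl⟩, -⟩ := h
  refine ((Commute.mul_left (comm_τ (fun _ hr => hr.2.1) h1 k1 s) ?_).mul_left (comm_τ (fun r hr => h0 r hr.1) h3 k2 s)).eq
  exact mul_inv_eq_iff_eq_mul.1 (by rw [X.conj_τ k3, mon_coch, h2])

/-- the values `(1, ω, ω ^ 2)` -/
theorem typ1 {P : Y → Prop} (hC : C = A2 X a b) (h0 : ∀ a ∈ Ψ, X.Rt a) (hs : C ⊆ Ψ) (h1 : X.wt a ⬝ᵥ X.cor b = -1)
    (h2 : X.wt b ⬝ᵥ X.cor a = -1) (ho : ∀ r ∈ Ψ, r ∉ C → ∀ e ∈ C, X.wt r ⬝ᵥ X.cor e = 0)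
    (hP : ∀ c, P c → ∃ w, Fm X C Ψ x c w) (h3 : X.χ a x = 1) (h4 : X.χ b x ≠ 1)
    (hm : ∀ v, (∀ c, P c → ∀ s, c * X.τ (coch v s) = X.τ (coch v s) * c) → Pp X C v) : False := by
  subst hC
  have ha := h0 _ (hs a_mem)
  have hb := h0 _ (hs b_mem)
  have h5 : X.wt a ⬝ᵥ (X.cor a + (2 : ℤ) • X.cor b) = 0 := by
    rw [dotProduct_add, dotProduct_smul, h1, show X.wt a ⬝ᵥ X.cor a = 2 from pr_self ha]
    rfl
  have h6 := hm (X.cor a + (2 : ℤ) • X.cor b) (fun c hc => ?_) b b_mem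
  · rw [dotProduct_add, dotProduct_smul, h2, show X.wt b ⬝ᵥ X.cor b = 2 from pr_self hb] at h6
    exact absurd h6 (by decide)
  obtain ⟨w, hw⟩ := hP c hc
  refine hw.comm h0 (fun r hr => ?_) ?_ fun r hr => by
    rw [dotProduct_add, dotProduct_smul, ho r hr.1 hr.2 a a_mem, ho r hr.1 hr.2 b b_mem, smul_zero, add_zero]
  · have h7 : X.χ r x = 1 := hr.2.2 x rfl
    rcases hr.1 with rfl | rfl | rfl | rfl | rfl | rfl
    exacts [h5, absurd h7 h4, by simp [X.χ_add, h3, h4] at h7, by rw [map_neg, neg_dotProduct, h5, neg_zero],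
      by simp [X.χ_neg, h4] at h7, by rw [X.χ_neg] at h7; simp [X.χ_add, h3, h4] at h7]
  · have h7 := hw.2.2 a a_mem
    have h8 := hw.2.2 b b_mem
    rw [mulVec_add, mulVec_smul, ← X.cor_act w ha, ← X.cor_act w hb]
    rcases wc ha hb h1 h2 hw.2.1 with ⟨e1, e2⟩ | ⟨e1, e2⟩ | ⟨e1, e2⟩ | ⟨e1, e2⟩ | ⟨e1, e2⟩ | ⟨e1, e2⟩ <;> rw [e1] at h7 ⊢ <;>
      rw [e2] at h8 ⊢
    · exact absurd (h7.trans h3) h4
    · exact absurd (h8.symm.trans h3) h4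
    · rw [X.cor_neg ha, cor_add ha hb h1 h2]
      module
    · simp [X.χ_add, h3, h4] at h7
    · simp [X.χ_neg, h3, h4] at h7

variable (X) in
/-- `c` acts on the component as a representative of `w` -/
def Ac (C : Set (X.I → ℤ)) (c : Y) (w : X.W) : Prop :=
  ∃ m ∈ X.T ⊔ X.S C, X.Rp w m ∧ m⁻¹ * c ∈ centralizer (X.S C : Set Y)

theorem Ac.mul (h0 : ∀ a ∈ C, X.Rt a) (h : Ac X C c v) (h' : Ac X C d w) : Ac X C (c * d) (v * w) := by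
  obtain ⟨m, h1, h2, h3⟩ := h
  obtain ⟨m', k1, k2, k3⟩ := h'
  refine ⟨m * m', mul_mem h1 k1, h2.mul k2, ?_⟩
  rw [show (m * m')⁻¹ * (c * d) = m'⁻¹ * (m⁻¹ * c) * m'⁻¹⁻¹ * (m'⁻¹ * d) by group]
  exact mul_mem (conj_cenS h0 (inv_mem k1) h3) k3

theorem Ac.pow (h0 : ∀ a ∈ C, X.Rt a) (h : Ac X C c w) (n : ℕ) : Ac X C (c ^ n) (w ^ n) := by
  induction n with
  | zero => exact ⟨1, one_mem _, by rw [pow_zero]; exact rp_one, by simp⟩
  | succ n ih => rw [pow_succ, pow_succ]; exact ih.mul h0 h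

theorem Ac.eq_one (h0 : ∀ a ∈ C, X.Rt a) (hL : Lvs X C) (h : Ac X C 1 w) : w = 1 := by
  obtain ⟨m, h1, h2, h3⟩ := h
  rw [mul_one] at h3
  exact X.rp_unique h2 (rp_of_mem (inv_mem_iff.1 (czL h0 hL (inv_mem h1) h3).1))

theorem Ac.act (h0 : ∀ a ∈ C, X.Rt a) (h : Ac X C c w) {r : X.I → ℤ} (hr : r ∈ C) :
    ∃ l : k, l ≠ 0 ∧ ∀ u, c * X.x r u * c⁻¹ = X.x (X.act w r) (l * u) := by
  obtain ⟨m, -, h2, h3⟩ := h
  obtain ⟨l, h4, h5⟩ := X.nact h2 (h0 r hr)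
  refine ⟨l, h4, fun u => ?_⟩
  rw [← h5, show c * X.x r u * c⁻¹ = m * (m⁻¹ * c * X.x r u) * c⁻¹ by group, ← h3 _ (RGD.le_Sup hr (X.x_mem (h0 r hr) u))]
  group

theorem a2_cases {P : (X.I → ℤ) → Prop} (h1 : P a) (h2 : P b) (h3 : P (a + b)) (h4 : ∀ r, P r → P (-r)) :
    ∀ r ∈ A2 X a b, P r := by
  rintro r (rfl | rfl | rfl | rfl | rfl | rfl)
  exacts [h1, h2, h3, h4 _ h1, h4 _ h2, h4 _ h3]

end Tri

open Tri in
/-- **TRI** -/
theorem boxTri : BoxTri := by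
  intro p _ k _ _ Y _ N _ _ ρ F G _ X D S Z a b x _ hS _ hD hm hZ hZS h hL hc hxD hx h1 h2 h3
  have h0 : ∀ r ∈ A2 X a b, X.Rt r := fun r hr => (h.sub hr).1
  have ha := h0 a a_mem
  have hb := h0 b b_mem
  have hP : ∀ c, Ce 3 G D c → ∃ w, Fm X (A2 X a b) (X.Sz Z) x c w := fun c e => form hS h hL hx (hc c e) (by
    rcases e with e | ⟨-, e, -⟩
    · exact h3 c e
    · rw [← e x hxD, mul_inv_cancel_right, mul_inv_cancel]
      exact one_mem _)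
  have hm' : ∀ v, (∀ c, Ce 3 G D c → ∀ s, c * X.τ (coch v s) = X.τ (coch v s) * c) → Pp X (A2 X a b) v :=
    fun v e r hr => hm v e r (hZS (h.sub hr))
  have ho := h.orth' X.Sz_root
  have h4 : X.χ a x ^ 3 = 1 := (χ_pow X a hx 3).symm.trans (h2.2 a a_mem)
  have h5 : X.χ b x ^ 3 = 1 := (χ_pow X b hx 3).symm.trans (h2.2 b b_mem)
  have zc : ∀ t ∈ X.T, X.χ a t = 1 → X.χ b t = 1 → t ∈ Zc X (A2 X a b) := fun t ht e1 e2 =>
    ⟨ht, a2_cases e1 e2 (by rw [X.χ_add, e1, e2, mul_one]) fun _ e => by rw [X.χ_neg, e, inv_one]⟩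
  have h6 : X.χ a x ≠ 1 := fun e => typ1 rfl X.Sz_root h.sub h.ab h.ba ho hP e (fun e' => h1 (zc x hx e e')) hm'
  have h7 : X.χ b x ≠ 1 := fun e => typ1 (a := b) (b := a) (Set.ext fun r => by
      simp only [A2, add_comm b a, Set.mem_insert_iff, Set.mem_singleton_iff]; tauto) X.Sz_root h.sub h.ba h.ab ho hP e h6 hm'
  have h8 : X.χ a x * X.χ b x ≠ 1 := fun e => typ1 (a := a + b) (b := -a) (Set.ext fun r => by
      simp only [A2, add_neg_cancel_comm, neg_neg, Set.mem_insert_iff, Set.mem_singleton_iff]; tauto) X.Sz_root h.sub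
    (by rw [X.cor_neg ha, dotProduct_neg, show X.wt (a + b) ⬝ᵥ X.cor a = _ from pr_add a b a, pr_self ha,
      show pr X b a = -1 from h.ba]; rfl)
    (by rw [show X.wt (-a) ⬝ᵥ X.cor (a + b) = _ from pr_neg a (a + b), pr, cor_add ha hb h.ab h.ba, dotProduct_add, h.ab,
      show X.wt a ⬝ᵥ X.cor a = 2 from pr_self ha]; rfl) ho hP (by rw [X.χ_add, e]) (by rwa [X.χ_neg, Ne, inv_eq_one]) hm'
  have h9 : X.χ a x = X.χ b x := by
    have k1 : X.χ a x ^ 2 + X.χ a x + 1 = 0 := mul_left_cancel₀ (sub_ne_zero.2 h6) (by linear_combination h4)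
    have k2 : X.χ b x ^ 2 + X.χ b x + 1 = 0 := mul_left_cancel₀ (sub_ne_zero.2 h7) (by linear_combination h5)
    by_contra e
    have k3 : X.χ a x + X.χ b x + 1 = 0 := mul_left_cancel₀ (sub_ne_zero.2 e) (by linear_combination k1 - k2)
    exact h8 (by linear_combination X.χ a x * k3 - k1)
  have h10 : (X.χ b x)⁻¹ ≠ X.χ b x := fun e => h8 (by rw [h9]; nth_rw 1 [← e]; exact inv_mul_cancel₀ (X.χ_ne_zero _ _))
  have h11 : A2 X a b ∩ X.Sz {x} = ∅ := Set.eq_empty_of_forall_notMem fun r hr => by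
    have k1 : X.χ r x = 1 := hr.2.2 x rfl
    exact a2_cases (P := fun r => X.χ r x ≠ 1) h6 h7 (by rwa [X.χ_add]) (fun r e => by rwa [X.χ_neg, Ne, inv_eq_one]) r hr.1 k1
  have hR : ∀ c w, Fm X (A2 X a b) (X.Sz Z) x c w → Ac X (A2 X a b) c w ∧ w ^ 3 = 1 ∧
      (w = 1 ∨ (X.act w a = b ∧ X.act w b = -(a + b)) ∨ (X.act (w * w) a = b ∧ X.act (w * w) b = -(a + b))) := by
    rintro _ w ⟨⟨c', k1, m, k2, c₂, k3, k4, rfl⟩, k5, k6⟩
    rw [h11] at k1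
    obtain rfl : c' = 1 := mem_bot.1 (RGD.Sup_le (fun _ e => e.elim) k1)
    have k7 := k6 a a_mem
    have k8 := k6 b b_mem
    have k9 : ∀ n : ℕ, X.act (w ^ n) a = a → X.act (w ^ n) b = b → w ^ n = 1 := fun n e1 e2 =>
      eq_oneL h0 hL (TO.X.Cn.rp_pow X k4 n) (pow_mem k2 n)
        (a2_cases e1 e2 (by rw [a_add, e1, e2]) fun _ e => by rw [a_neg, e])
    refine ⟨⟨m, k2, k4, by simpa using h.comm hS X.Sz_root k3⟩, ?_⟩
    rcases wc ha hb h.ab h.ba k5 with ⟨e1, e2⟩ | ⟨e1, e2⟩ | ⟨e1, e2⟩ | ⟨e1, e2⟩ | ⟨e1, e2⟩ | ⟨e1, e2⟩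
    · obtain rfl : w = 1 := by simpa using k9 1 (by rwa [pow_one]) (by rwa [pow_one])
      exact ⟨one_pow _, .inl rfl⟩
    · exact ⟨k9 3 (by simp [pow_succ, act_mul, a_neg, a_add, e1, e2]) (by simp [pow_succ, act_mul, a_neg, a_add, e1, e2]),
        .inr (.inl ⟨e1, e2⟩)⟩
    · exact ⟨k9 3 (by simp [pow_succ, act_mul, a_neg, a_add, e1, e2]) (by simp [pow_succ, act_mul, a_neg, a_add, e1, e2]),
        .inr (.inr ⟨by simp [act_mul, a_neg, a_add, e1, e2], by rw [act_mul, e2, e1]⟩)⟩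
    · rw [e1, X.χ_neg, h9] at k7
      exact absurd k7 h10
    · rw [e2, X.χ_neg] at k8
      exact absurd k8 h10
    · rw [e1, X.χ_neg, h9] at k7
      exact absurd k7 h10
  have h12 : ∀ c w, Fm X (A2 X a b) (X.Sz Z) x c w → ¬ 3 ∣ orderOf c → w = 1 := fun c w e e' => by
    have k1 := (hR c w e).1.pow h0 (orderOf c)
    rw [pow_orderOf_eq_one] at k1
    have k2 := pow_gcd_eq_one.2 ⟨(hR c w e).2.1, k1.eq_one h0 hL⟩
    rwa [(Nat.prime_three.coprime_iff_not_dvd.2 e').gcd_eq_one, pow_one] at k2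
  obtain ⟨d, hd, w, h13, h14, h15⟩ : ∃ d ∈ D, ∃ w, Ac X (A2 X a b) d w ∧ X.act w a = b ∧ X.act w b = -(a + b) := by
    by_contra e
    have k1 := hm' (X.cor a) (fun c k1 => ?_) a a_mem
    · exact absurd ((pr_self ha).symm.trans k1) two_ne_zero
    obtain ⟨w, hw⟩ := hP c k1
    obtain rfl : w = 1 := by
      rcases k1 with k1 | k1
      · rcases (hR c w hw).2.2 with k2 | k2 | k2
        exacts [k2, absurd ⟨c, k1, w, (hR c w hw).1, k2⟩ e,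
          absurd ⟨c * c, mul_mem k1 k1, w * w, (hR c w hw).1.mul h0 (hR c w hw).1, k2⟩ e]
      · exact h12 c w hw k1.2.2
    exact hw.comm X.Sz_root (fun r hr => (h11.subset hr).elim) (by rw [X.Wm_one, one_mulVec])
      fun r hr => ho r hr.1 hr.2 a a_mem
  refine ⟨h9, fun c k1 k2 k3 => ?_, fun k1 => ?_⟩
  · obtain ⟨v, hv⟩ := hP c (.inr ⟨k1, k2, k3⟩)
    obtain rfl := h12 c v hv k3
    obtain ⟨t, -, k4, k5⟩ := (hR c 1 hv).1
    have ht := k4.mem_of_one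
    have k6 : ∀ r ∈ A2 X a b, ∀ u, c * X.x r u * c⁻¹ = X.x r (X.χ r t * u) := fun r hr u => by
      rw [← X.tor' (h0 r hr) ht, show c * X.x r u * c⁻¹ = t * (t⁻¹ * c * X.x r u) * c⁻¹ by group,
        ← k5 _ (RGD.le_Sup hr (X.x_mem (h0 r hr) u))]
      group
    have k7 : ∀ r ∈ A2 X a b, X.act w r ∈ A2 X a b → X.χ (X.act w r) t = X.χ r t := fun r hr hr' => by
      obtain ⟨l, k7, k8⟩ := h13.act h0 hr
      have k9 := k6 _ hr' (l * 1)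
      rw [← k8, show c * (d * X.x r 1 * d⁻¹) * c⁻¹ = c * d * X.x r 1 * (c * d)⁻¹ by group, ← k2 d hd,
        show d * c * X.x r 1 * (d * c)⁻¹ = d * (c * X.x r 1 * c⁻¹) * d⁻¹ by group, k6 r hr, k8] at k9
      exact mul_left_cancel₀ k7 (by linear_combination -X.x_inj _ (h0 _ hr') k9)
    have k8 := k7 a a_mem (h14.symm ▸ b_mem)
    have k9 := k7 b b_mem (h15.symm ▸ neg_mem ab_mem)
    rw [h14] at k8
    rw [h15, X.χ_neg, X.χ_add, k8, inv_eq_iff_eq_inv, ← mul_eq_one_iff_eq_inv₀ (X.χ_ne_zero _ _)] at k9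
    have k10 : ∀ n : ℕ, c ^ n * X.x a 1 * (c ^ n)⁻¹ = X.x a (X.χ a t ^ n) := fun n => by
      induction n with
      | zero => simp
      | succ n ih => rw [pow_succ', pow_succ', ← k6 a a_mem, ← ih]; group
    have k11 := k10 (orderOf c)
    rw [pow_orderOf_eq_one, one_mul, inv_one, mul_one] at k11
    have k12 := pow_gcd_eq_one.2 ⟨show X.χ a t ^ 3 = 1 by linear_combination k9, (X.x_inj a ha k11).symm⟩
    rw [(Nat.prime_three.coprime_iff_not_dvd.2 k3).gcd_eq_one, pow_one] at k12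
    simpa using mul_mem ((zc_iff h0 ht).1 (zc t ht k12 (k8.trans k12))) k5
  · have k2 : X.g b = X.act w (X.g a) := by
      obtain ⟨l, k2, k3⟩ := h13.act h0 k1
      obtain ⟨l', -, k4⟩ := h13.act h0 a_mem
      obtain ⟨u, hu, k5⟩ := (X.map_X ha).ge (X.x_mem (h0 _ k1) 1)
      obtain ⟨u, rfl⟩ := (X.mem_X a ha _).1 hu
      have k6 := X.F_mem_X hb (X.x_mem hb (l' * u))
      rw [← h14, ← k4, map_mul, map_mul, map_inv, show F d = d from (hD hd).2, show F (X.x a u) = _ from k5, k3, h14] at k6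
      by_contra e
      exact mul_ne_zero k2 one_ne_zero ((X.x_eq_one_iff ((h0 _ k1).act w)).1
        (X.eq_one_of_mem_X_X (X.g_root b hb) ((h0 _ k1).act w) e k6 (X.x_mem ((h0 _ k1).act w) _)))
    rw [k2]
    rcases k1 with e | e | e | e | e | e <;> rw [e]
    · exact ⟨1, .inl rfl, .inl ⟨by simp, by simp [h14]⟩⟩
    · exact ⟨1, .inl rfl, .inr (.inl ⟨by simp, by rw [h15, neg_one_smul]⟩)⟩
    · exact ⟨-1, .inr rfl, .inr (.inr ⟨by simp, by simp [a_add, h14, h15]⟩)⟩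
    · exact ⟨-1, .inr rfl, .inl ⟨by simp, by simp [a_neg, h14]⟩⟩
    · exact ⟨-1, .inr rfl, .inr (.inl ⟨by simp, by simp [a_neg, h15]⟩)⟩
    · exact ⟨1, .inl rfl, .inr (.inr ⟨by rw [neg_one_smul], by simp [a_neg, a_add, h14, h15]⟩)⟩

end Cfsg.Agent.RC.B
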