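import Cfsg.Agent.RC.B.Dec
import Cfsg.Agent.S0015

/-!
# RC (S4576), [A2K], part a: groups, roots and the change of the frame (helper55)
-/

set_option autoImplicit false
set_option linter.unusedSectionVars false

namespace Cfsg.Agent.RC.B.A2K

open Cfsg Cfsg.Lie Cfsg.Agent.DL Cfsg.Agent.Nodes.Reps Cfsg.Agent.Nodes.BNOf Matrix Subgroup Cfsg.Agent.KM.Ht
  Cfsg.Agent.KM.Tor
open Cfsg.Agent.KM.Tor.TW (pr pr_add pr_neg pr_self pr_act pr_smul pr_sub a_neg a_add)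
open scoped Pointwise

section Grp

variable {Y : Type} [Group Y]

/-- a central element of order `l` modulo `K` -/
theorem exists_mod {l : ℕ} [Fact l.Prime] {D M K : Subgroup Y} [Finite D] (hD : IsPGroup l D) (hM : M ≤ D)
    (h1 : ∀ d ∈ D, ∀ x ∈ M, d * x * d⁻¹ ∈ M) (h2 : ∀ d ∈ D, ∀ x ∈ K, d * x * d⁻¹ ∈ K) (hn : ¬ M ≤ K) :
    ∃ x ∈ M, x ∉ K ∧ x ^ l ∈ K ∧ ∀ d ∈ D, d * x * d⁻¹ * x⁻¹ ∈ K := by
  classical
  have : (K.subgroupOf D).Normal := ⟨fun x hx d => h2 d d.2 x hx⟩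
  have hM' : (M.subgroupOf D).Normal := ⟨fun x hx d => h1 d d.2 x hx⟩
  have h3 : IsPGroup l (D ⧸ K.subgroupOf D) := hD.to_quotient _
  have := h3.isNilpotent
  have := hM'.map (QuotientGroup.mk' (K.subgroupOf D)) (QuotientGroup.mk'_surjective _)
  obtain ⟨_, ⟨x, hx, rfl⟩, k1, k2⟩ := S0015.exists_mem_center_of_normal
    ((M.subgroupOf D).map (QuotientGroup.mk' (K.subgroupOf D))) fun e => hn fun x hx => by
      have h4 : QuotientGroup.mk' (K.subgroupOf D) ⟨x, hM hx⟩ ∈ (⊥ : Subgroup _) := e ▸ ⟨⟨x, hM hx⟩, hx, rfl⟩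
      exact (QuotientGroup.eq_one_iff (N := K.subgroupOf D) _).1 h4
  have hex : ∃ j, (x : Y) ^ l ^ j ∈ K := by
    obtain ⟨j, hj⟩ := hD x
    exact ⟨j, by rw [← coe_pow, hj]; exact one_mem K⟩
  have h0 : Nat.find hex ≠ 0 := fun e => k1 ((QuotientGroup.eq_one_iff (N := K.subgroupOf D) _).2 (by
    have h4 := Nat.find_spec hex
    rwa [e, pow_zero, pow_one] at h4))
  obtain ⟨j, hj⟩ := Nat.exists_eq_succ_of_ne_zero h0
  refine ⟨(x : Y) ^ l ^ j, pow_mem hx _, Nat.find_min hex (by omega), ?_, fun d hd => ?_⟩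
  · rw [← pow_mul, ← pow_succ, ← Nat.succ_eq_add_one, ← hj]
    exact Nat.find_spec hex
  · have h4 := mem_center_iff.1 (pow_mem k2 (l ^ j)) (QuotientGroup.mk' _ ⟨d, hd⟩)
    rw [← map_pow, ← map_mul, ← map_mul, ← mul_inv_eq_one, ← map_inv, ← map_mul] at h4
    have h5 := (QuotientGroup.eq_one_iff (N := K.subgroupOf D) _).1 h4
    rw [mem_subgroupOf] at h5
    simpa only [coe_mul, coe_inv, coe_pow, _root_.mul_inv_rev, mul_assoc, mul_inv_cancel_left, InvMemClass.coe_inv,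
      SubmonoidClass.coe_pow] using h5

/-- `l`-elements are conjugate into `D` -/
theorem exists_cj {l : ℕ} [Fact l.Prime] {H D E : Subgroup Y} {y t : Y} [Finite H] (h : Loc l H D y) (h1 : E ≤ H)
    (h2 : D ≤ E) (h3 : ∀ x ∈ E, x * y = y * x) (ht : t ∈ E) {j : ℕ} (hj : t ^ l ^ j = 1) : ∃ e ∈ E, e⁻¹ * t * e ∈ D := by
  have : Finite E := Finite.of_injective _ (inclusion_injective h1)
  let P : Sylow l E := ⟨D.subgroupOf E, h.pg.comap_subtype, fun {Q'} k1 k2 => le_antisymm (fun x hx =>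
    h.syl (Q'.map E.subtype) ((map_subtype_le _).trans h1) (k1.map _) (fun d hd => ⟨⟨d, h2 hd⟩, k2 hd, rfl⟩)
      (by
        rintro _ ⟨z, -, rfl⟩
        exact h3 z z.2) ⟨x, hx, rfl⟩) k2⟩
  have hz : IsPGroup l (zpowers (⟨t, ht⟩ : E)) := fun ⟨_, i, e⟩ => ⟨j, Subtype.ext (by
    subst e
    rw [SubgroupClass.coe_pow, ← zpow_natCast, ← _root_.zpow_mul, mul_comm, _root_.zpow_mul, zpow_natCast,
      show (⟨t, ht⟩ : E) ^ l ^ j = 1 from Subtype.ext hj, _root_.one_zpow]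
    rfl)⟩
  obtain ⟨P', k1⟩ := hz.exists_le_sylow
  obtain ⟨g, rfl⟩ := MulAction.exists_smul_eq E P P'
  have k2 : (⟨t, ht⟩ : E) ∈ MulAut.conj g • (P : Subgroup E) := k1 (mem_zpowers _)
  rw [mem_pointwise_smul_iff_inv_smul_mem, MulAut.smul_def, MulAut.conj_inv_apply] at k2
  exact ⟨g, g.2, k2⟩

/-- a large `l`-subgroup of an abelian group contains all `l`-elements -/
theorem mem_of_val {l : ℕ} [Fact l.Prime] {A B : Subgroup Y} [Finite B] (h : A ≤ B) (hB : Ab B) (hA : IsPGroup l A)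
    (hv : (Nat.card B).factorization l ≤ (Nat.card A).factorization l) {t : Y} (ht : t ∈ B) {j : ℕ}
    (hj : t ^ l ^ j = 1) : t ∈ A := by
  have : Finite A := Finite.of_injective _ (inclusion_injective h)
  obtain ⟨n, hn⟩ := IsPGroup.iff_card.1 hA
  have h1 : Nat.card (A.subgroupOf B) = l ^ n := (Nat.card_congr (subgroupOfEquivOfLe h).toEquiv).trans hn
  have h2 : n = (Nat.card B).factorization l := by
    refine le_antisymm (((Fact.out : l.Prime).pow_dvd_iff_le_factorization Nat.card_pos.ne').1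
      (h1 ▸ card_subgroup_dvd_card _)) ?_
    rwa [hn, (Fact.out : l.Prime).factorization_pow, Finsupp.single_eq_same] at hv
  let P : Sylow l B := Sylow.ofCard (A.subgroupOf B) (h2 ▸ h1)
  have hz : IsPGroup l (zpowers (⟨t, ht⟩ : B)) := fun ⟨_, i, e⟩ => ⟨j, Subtype.ext (by
    subst e
    rw [SubgroupClass.coe_pow, ← zpow_natCast, ← _root_.zpow_mul, mul_comm, _root_.zpow_mul, zpow_natCast,
      show (⟨t, ht⟩ : B) ^ l ^ j = 1 from Subtype.ext hj, _root_.one_zpow]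
    rfl)⟩
  have : (zpowers (⟨t, ht⟩ : B)).Normal := ⟨fun x hx g => by
    rwa [show g * x = x * g from Subtype.ext (hB _ g.2 _ x.2), mul_inv_cancel_right]⟩
  exact hz.le_sylow_of_normal P (mem_zpowers _)

/-- the `3`-part -/
theorem exists_part {n : Y} (h : IsOfFinOrder n) : ∃ m j : ℕ, ¬ 3 ∣ m ∧ (n ^ m) ^ 3 ^ j = 1 := by
  obtain ⟨j, m, h1, h2⟩ := Nat.exists_eq_pow_mul_and_not_dvd h.orderOf_pos.ne' 3 (by norm_num)
  exact ⟨m, j, h1, by rw [← pow_mul, mul_comm, ← h2, pow_orderOf_eq_one]⟩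

end Grp

variable {p : ℕ} [Fact p.Prime] {k : Type} [Field k] [CharP k p] {Y : Type} [Group Y] {N : Type} [Fintype N]
  [DecidableEq N] {ρ : Y →* GL N k} {F : MulAut Y} {G : Subgroup Y} [IsAlgClosed k] {X : Datum p ρ F G}
  {Z A : Set Y} {Φ Ψ : Set (X.I → ℤ)} {a b c e a' b' : X.I → ℤ} {g h m t u x : Y} {w : X.W}

/-! ### roots -/

theorem coef (h : Cmp X Ψ a b) (h0 : ∀ a ∈ Ψ, X.Rt a) (hc : c ∈ A2 X a b) : ∃ x y : ℤ, x * x - x * y + y * y = 1 ∧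
    X.wt c = x • X.wt a + y • X.wt b ∧ X.cor c = x • X.cor a + y • X.cor b := by
  have ha := h0 a (h.sub Dec.a_mem)
  have hb := h0 b (h.sub Dec.b_mem)
  have h3 := h0 _ (h.sub Dec.ab_mem)
  have h4 := Dec.cor_add ha hb h.ab h.ba
  rcases hc with rfl | rfl | rfl | rfl | rfl | rfl
  · exact ⟨1, 0, by norm_num, by simp, by simp⟩
  · exact ⟨0, 1, by norm_num, by simp, by simp⟩
  · exact ⟨1, 1, by norm_num, by simp, by simp [h4]⟩
  · exact ⟨-1, 0, by norm_num, by simp, by simp [X.cor_neg ha]⟩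
  · exact ⟨0, -1, by norm_num, by simp, by simp [X.cor_neg hb]⟩
  · exact ⟨-1, -1, by norm_num, by simp [add_comm], by rw [X.cor_neg h3, h4]; simp [add_comm]⟩

/-- no two roots of a component are orthogonal -/
theorem ne_zero (h : Cmp X Ψ a b) (h0 : ∀ a ∈ Ψ, X.Rt a) (hc : c ∈ A2 X a b) (he : e ∈ A2 X a b) :
    X.wt c ⬝ᵥ X.cor e ≠ 0 := by
  obtain ⟨x, y, k1, k2, -⟩ := coef h h0 hc
  obtain ⟨x', y', k3, -, k4⟩ := coef h h0 he
  have ha : X.wt a ⬝ᵥ X.cor a = 2 := pr_self (h0 a (h.sub Dec.a_mem))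
  have hb : X.wt b ⬝ᵥ X.cor b = 2 := pr_self (h0 b (h.sub Dec.b_mem))
  simp only [k2, k4, add_dotProduct, dotProduct_add, smul_dotProduct, dotProduct_smul, smul_eq_mul, ha, hb, h.ab, h.ba]
  intro e
  have h5 : 4 = 3 * ((x * y' - y * x') * (x * y' - y * x')) := by
    linear_combination (-4 * (x' * x' - x' * y' + y' * y')) * k1 - 4 * k3 +
      (x' * (x * 2 + y * -1) + y' * (x * -1 + y * 2)) * e
  omega

theorem mem_of_ne (h : Cmp X Ψ a b) (h0 : ∀ a ∈ Ψ, X.Rt a) (hc : c ∈ Ψ) (he : e ∈ A2 X a b)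
    (hn : X.wt c ⬝ᵥ X.cor e ≠ 0) : c ∈ A2 X a b := by
  by_contra h1
  exact hn (h.orth' h0 c hc h1 e he)

/-- components which meet are equal -/
theorem sub_of_mem (h : Cmp X Ψ a b) (h' : Cmp X Ψ a' b') (h0 : ∀ a ∈ Ψ, X.Rt a) (hc : c ∈ A2 X a b)
    (hc' : c ∈ A2 X a' b') : A2 X a' b' ⊆ A2 X a b := fun _ he => mem_of_ne h h0 (h'.sub he) hc (ne_zero h' h0 he hc')

theorem g_pair (hc : X.Rt c) (he : X.Rt e) : X.wt (X.g c) ⬝ᵥ X.cor (X.g e) = 0 ↔ X.wt c ⬝ᵥ X.cor e = 0 := by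
  have h1 : (p : ℤ) ^ X.ex e * (X.wt (X.g c) ⬝ᵥ X.cor (X.g e)) = (p : ℤ) ^ X.ex c * (X.wt c ⬝ᵥ X.cor e) := by
    rw [← smul_eq_mul, ← dotProduct_smul, ← X.Mx_cor he, dotProduct_mulVec, X.wt_g hc, smul_dotProduct, smul_eq_mul]
  refine ⟨fun e => ?_, fun e => ?_⟩
  · rw [e, mul_zero] at h1
    exact (mul_eq_zero.1 h1.symm).resolve_left (X.q_pos _).ne'
  · rw [e, mul_zero] at h1
    exact (mul_eq_zero.1 h1).resolve_left (X.q_pos _).ne'

/-- the Weyl group of `cen Z` preserves the components -/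
theorem act_mem (hS : Sl X) (hZ : Z ⊆ X.T) (h : Cmp X (X.Sz Z) a b) (hm : X.Rp w m) (hc : m ∈ X.cen Z) :
    ∀ c ∈ A2 X a b, X.act w c ∈ A2 X a b := by
  have h1 := Dec.mem_clo hZ hm hc
  have key : ∀ e ∈ X.Sz Z, ∀ c ∈ A2 X a b, X.act (X.rf e) c ∈ A2 X a b := fun e he c hc => by
    by_cases k1 : e ∈ A2 X a b
    · obtain ⟨n, k2, k3⟩ := X.exists_rp_rf he.1
      have k4 : n ∈ X.cen Z := (sup_le_sup_left (sup_le (RGD.le_Sup he) (RGD.le_Sup (X.Sz_neg he))) _ :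
        _ ≤ X.T ⊔ X.S (X.Sz Z)) k2
      have k5 := X.act_mem_Sz hZ k3 (X.cen_le_centralizer hZ k4) (h.sub hc)
      refine mem_of_ne h X.Sz_root k5 k1 ?_
      have k6 : pr X (X.act (X.rf e) c) e = -pr X c e := by
        rw [TW.act_rf he.1, pr_sub, pr_smul, pr_self he.1]
        ring
      exact fun k7 => ne_zero h X.Sz_root hc k1 (neg_eq_zero.1 (k6.symm.trans k7))
    · have k2 : pr X c e = 0 := (hS c e (h.sub hc).1 he.1).trans (h.orth' X.Sz_root e he k1 c hc)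
      rwa [TW.act_rf he.1, k2, zero_smul, sub_zero]
  clear hm hc
  induction h1 using closure_induction_left with
  | one => exact fun c hc => by rwa [CF.act_one]
  | mul_left x hx y _ ih =>
    obtain ⟨e, he, rfl⟩ := hx
    exact fun c hc => by
      rw [CF.act_mul]
      exact key e he _ (ih c hc)
  | inv_mul_cancel x hx y _ ih =>
    obtain ⟨e, he, rfl⟩ := hx
    exact fun c hc => by
      rw [inv_eq_of_mul_eq_one_right (X.rf_mul_self he.1), CF.act_mul]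
      exact key e he _ (ih c hc)

/-- the subgroup of a component is normal -/
theorem conj_H (hS : Sl X) (h : Cmp X (X.Sz Z) a b) (hg : g ∈ X.cen Z) (hu : u ∈ X.S (A2 X a b)) :
    g * u * g⁻¹ ∈ X.S (A2 X a b) := by
  obtain ⟨g₁, k1, g₂, k2, rfl⟩ := h.dec hS hg
  rw [show g₁ * g₂ * u * (g₁ * g₂)⁻¹ = g₁ * (g₂ * u * g₂⁻¹) * g₁⁻¹ by group, ← h.comm hS X.Sz_root k2 u hu,
    mul_inv_cancel_right]
  obtain ⟨s, hs, t, ht, rfl⟩ := (X.mem_TS fun c hc => (h.sub hc).1).1 k1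
  rw [show s * t * u * (s * t)⁻¹ = s * (t * u * t⁻¹) * s⁻¹ by group]
  exact mul_mem (mul_mem hs (X.conj_mem_S_of_T (fun c hc => (h.sub hc).1) ht hu)) (inv_mem hs)

theorem conj_K (hS : Sl X) (h : Cmp X (X.Sz Z) a b) (hg : g ∈ X.cen Z)
    (hu : u ∈ centralizer (X.S (A2 X a b) : Set Y)) : g * u * g⁻¹ ∈ centralizer (X.S (A2 X a b) : Set Y) :=
  Dec.conj_cen (fun v hv => by simpa only [inv_inv, SetLike.mem_coe] using conj_H hS h (inv_mem hg) hv) hu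

theorem H_le (h : A2 X a b ⊆ X.Sz A) : X.S (A2 X a b) ≤ X.cen A := (RGD.Sup_mono h).trans (X.S_le_cen A)

/-- the centre of the subgroup of a component is central -/
theorem mem_Zc (hS : Sl X) (hZ : Z ⊆ X.T) (h : Cmp X (X.Sz Z) a b) (hu : u ∈ X.S (A2 X a b))
    (hc : u ∈ centralizer (X.S (A2 X a b) : Set Y)) : u ∈ Zc X (X.Sz Z) := by
  refine Dec.cz hZ (H_le h.sub hu) (le_centralizer_iff.1 (RGD.Sup_le fun c k1 v hv => ?_ :
    X.S (X.Sz Z) ≤ centralizer (zpowers u : Set Y)) (mem_zpowers u))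
  rintro _ ⟨i, rfl⟩
  refine (Commute.zpow_left ?_ i).eq
  by_cases k2 : c ∈ A2 X a b
  · exact (hc v (RGD.le_Sup k2 hv)).symm
  · exact h.comm hS X.Sz_root (RGD.le_Sup (S := X.Sz Z \ A2 X a b) ⟨k1, k2⟩ hv) u hu

theorem zc_mem (h : Cmp X Ψ a b) (h0 : ∀ a ∈ Ψ, X.Rt a) {ω : kˣ} (hω : orderOf ω = 3) : zc X a b ω ∈ Zc X Ψ := by
  refine ⟨X.τ_mem _, fun c hc => (TO.X.Cn.χ_exp X c _ ω).2 ?_⟩
  rw [hω, dotProduct_sub]
  by_cases k1 : c ∈ A2 X a b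
  · obtain ⟨x, y, -, k2, -⟩ := coef h h0 k1
    have ha : X.wt a ⬝ᵥ X.cor a = 2 := pr_self (h0 a (h.sub Dec.a_mem))
    have hb : X.wt b ⬝ᵥ X.cor b = 2 := pr_self (h0 b (h.sub Dec.b_mem))
    simp only [k2, add_dotProduct, smul_dotProduct, smul_eq_mul, ha, hb, h.ab, h.ba]
    exact ⟨x - y, by push_cast; ring⟩
  · rw [(h.orth c hc k1).1, (h.orth c hc k1).2, sub_zero]
    exact dvd_zero _

theorem cen_mono (h : X.Sz A ⊆ X.Sz Z) : X.cen A ≤ X.cen Z := sup_le_sup_left (RGD.Sup_mono h) _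

/-! ### the change of the frame -/

section conj

variable (hG : h ∈ G) (hN : h⁻¹ * F h ∈ X.NN)

theorem sub_T (hA : A ⊆ X.T) (hc : h ∈ centralizer A) : A ⊆ (X.conj hG hN).T := fun z hz => by
  rw [X.conj_T, SetLike.mem_coe, mem_cj, mul_assoc, hc z hz, inv_mul_cancel_left]
  exact hA hz

theorem cen_eq (hA : A ⊆ X.T) (hc : h ∈ X.cen A) : (X.conj hG hN).cen A = X.cen A := by
  have h1 : (X.conj hG hN).cen A = (X.conj hG hN).T ⊔ (X.conj hG hN).S ((X.conj hG hN).Sz A) := rfl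
  rw [h1, Sz_conj hG hN hA (X.cen_le_centralizer hA hc), X.conj_T, X.conj_S, ← cj_sup]
  exact cj_eq_of_mem hc

theorem H_eq (hS : Sl X) (hC : Cmp X (X.Sz Z) a b) (hc : h ∈ X.cen Z) :
    (X.conj hG hN).S (A2 (X.conj hG hN) a b) = X.S (A2 X a b) := by
  refine (X.conj_S hG hN (A2 X a b)).trans (Subgroup.ext fun u => mem_cj.trans ⟨fun k1 => ?_, fun k1 => ?_⟩)
  · simpa only [mul_assoc, mul_inv_cancel_left, mul_inv_cancel, mul_one] using conj_H hS hC hc k1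
  · simpa only [inv_inv] using conj_H hS hC (inv_mem hc) k1

theorem Zc_eq (hZ : Z ⊆ X.T) (hc : h ∈ X.cen Z) : Zc (X.conj hG hN) (X.Sz Z) = Zc X (X.Sz Z) := by
  have key : ∀ t ∈ Zc X (X.Sz Z), h * t * h⁻¹ = t := fun t ht => by rw [One.Zc_comm hZ ht hc, mul_inv_cancel_right]
  refine Subgroup.ext fun t => ⟨fun k1 => ?_, fun k1 => ⟨?_, fun c k2 => ?_⟩⟩
  · have k2 : h⁻¹ * t * h ∈ X.T := mem_cj.1 (X.conj_T hG hN ▸ k1.1)
    have k3 : h * (h⁻¹ * t * h) * h⁻¹ = t := by group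
    have k4 : h⁻¹ * t * h ∈ Zc X (X.Sz Z) := ⟨k2, fun c k4 => by
      rw [← X.conj_χ hG hN c k2, k3]
      exact k1.2 c k4⟩
    rwa [← k3, key _ k4]
  · rw [X.conj_T, ← key t k1]
    exact conj_mem_cj.2 k1.1
  · rw [← key t k1]
    exact (X.conj_χ hG hN c k1.1).trans (k1.2 c k2)

theorem zc_eq (hZ : Z ⊆ X.T) (hC : Cmp X (X.Sz Z) a b) (hc : h ∈ X.cen Z) {ω : kˣ} (hω : orderOf ω = 3) :
    zc (X.conj hG hN) a b ω = zc X a b ω := by
  unfold zc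
  rw [conj_cor]
  refine (X.conj_tau hG hN _).trans ?_
  exact mul_inv_eq_of_eq_mul (One.Zc_comm hZ (zc_mem hC X.Sz_root hω) hc)

theorem g_mem (hS : Sl X) (hZ : Z ⊆ X.T) (hF : ∀ c ∈ X.Sz Z, X.g c ∈ X.Sz Z) (hC : Cmp X (X.Sz Z) a b)
    (hc : h ∈ X.cen Z) (h1 : X.g c ∈ A2 X a b) : (X.conj hG hN).g c ∈ A2 (X.conj hG hN) a b := by
  have h2 : F h ∈ X.cen Z := by
    obtain ⟨s, hs, t, ht, rfl⟩ := (X.mem_TS X.Sz_root).1 hc
    rw [map_mul]
    exact mul_mem (X.S_le_cen Z (X.F_mem_S X.Sz_root hF hs)) (X.T_le_cen Z (X.F_mem_T ht))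
  rw [X.conj_g]
  exact act_mem hS hZ hC (X.rp_pr hN) (mul_mem (inv_mem hc) h2) _ h1

theorem sl_conj (hS : Sl X) : Sl (X.conj hG hN) := by
  unfold Sl
  rw [conj_cor]
  exact hS

theorem la_conj (hL : LA X) : LA (X.conj hG hN) := by
  unfold LA
  rw [conj_cor]
  exact hL

theorem cmp_conj (hC : Cmp X Ψ a b) : Cmp (X.conj hG hN) Ψ a b :=
  ⟨hC.sub, conj_cor hG hN ▸ hC.ab, conj_cor hG hN ▸ hC.ba, conj_cor hG hN ▸ hC.orth⟩

end conj

end Cfsg.Agent.RC.B.A2K
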