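import Cfsg.Agent.RC.B.R8
import Cfsg.Agent.RC.B.Nf

/-!
# RC (S4576): [K3] (helper14)
-/

set_option autoImplicit false
set_option linter.unusedSectionVars false

namespace Cfsg.Agent.RC.B

open Cfsg Cfsg.Lie Cfsg.Agent.DL Cfsg.Agent.Nodes.Reps Matrix Subgroup Cfsg.Agent.KM.Ht Cfsg.Agent.KM.Tor
  Cfsg.Agent.KZ.DatX Cfsg.Agent.Nodes.RGDChev Cfsg.Agent.ChevalleyStructure.NPerm Cfsg.Agent.ChevalleyStructure.CoxeterGeom
  Cfsg.Agent.ChevalleyStructure.CoxeterGeomTypes Cfsg.Agent.Tits.Roots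
open Cfsg.Agent.TO.X.Cn (χ_exp)
open Cfsg.Agent.H931.KC (hr)

namespace R

theorem hr7 : hr chevE7 7 = ![2, 2, 3, 4, 3, 2, 1] ∧ ∀ i, ((3 : ℕ) : ℤ) ∣ hr chevE7 7 i → i ∈ ({2, 4} : Finset (Fin 7)) := by
  decide +kernel

variable {p : ℕ} [Fact p.Prime] {k : Type} [Field k] [CharP k p] {Y : Type} [Group Y] {N : Type} [Fintype N]
  [DecidableEq N] {ρ : Y →* GL N k} {F : MulAut Y} {G : Subgroup Y} [IsAlgClosed k] {X : Datum p ρ F G}
  {S : Subgroup Y}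

/-- corank at most one : the coordinate `wt c ⬝ v` determines `v` -/
theorem cyc_inj (hS : Z0 X S = S) (c : X.I → ℤ) (h : ∀ v, Pp X (X.Sz S) v → X.wt c ⬝ᵥ v = 0 → v = 0) {Q : Subgroup Y}
    [Finite Q] (hQ : Q ≤ S) : IsCyclic Q := by
  let P : AddSubgroup (X.R → ℤ) := ⟨⟨⟨{v | Pp X (X.Sz S) v}, fun h1 h2 b hb => by
    rw [dotProduct_add, h1 b hb, h2 b hb, add_zero]⟩, fun _ _ => dotProduct_zero _⟩, fun h1 b hb => by
    rw [dotProduct_neg, h1 b hb, neg_zero]⟩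
  let f : P →+ ℤ := AddMonoidHom.mk' (fun v => X.wt c ⬝ᵥ v.1) fun _ _ => dotProduct_add _ _ _
  have hf : Function.Injective f := (injective_iff_map_eq_zero f).2 fun v hv => Subtype.ext (h v.1 v.2 hv)
  obtain ⟨A, hA⟩ := (isAddCyclic_of_injective f hf).exists_zsmul_surjective
  have h1 : S ≤ (X.τ.comp (coch A.1)).range := hS.ge.trans ((closure_le _).2 (by
    rintro _ ⟨v, a, hv, rfl⟩
    obtain ⟨x, hx⟩ := hA ⟨v, hv⟩
    exact ⟨a ^ x, by rw [← show x • A.1 = v from congrArg Subtype.val hx, coch_zsmul]; rfl⟩))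
  by_cases h0 : A.1 = 0
  · have : Subsingleton Q := ⟨fun a b => Subtype.ext (by
      obtain ⟨x, hx⟩ := h1 (hQ a.2)
      obtain ⟨y, hy⟩ := h1 (hQ b.2)
      rw [← hx, ← hy, h0]
      exact congrArg X.τ (funext fun _ => (zpow_zero x).trans (zpow_zero y).symm))⟩
    exact isCyclic_of_subsingleton
  have h2 : (X.wt c ⬝ᵥ A.1).natAbs * Nat.card Q ≠ 0 :=
    mul_ne_zero (Int.natAbs_ne_zero.2 fun e => h0 (h _ A.2 e)) Nat.card_pos.ne'
  have : NeZero ((X.wt c ⬝ᵥ A.1).natAbs * Nat.card Q) := ⟨h2⟩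
  have h3 : Q.comap (X.τ.comp (coch A.1)) ≤ rootsOfUnity ((X.wt c ⬝ᵥ A.1).natAbs * Nat.card Q) k := fun x hx => by
    have h4 := (χ_exp X c A.1 (x ^ Nat.card Q)).1 (by
      rw [map_pow, map_pow, show X.τ (coch A.1 x) ^ Nat.card Q = 1 from congrArg Subtype.val (pow_card_eq_one' (x := (⟨_, hx⟩ : Q))),
        X.χ_one])
    rw [mem_rootsOfUnity, mul_comm, pow_mul]
    exact orderOf_dvd_iff_pow_eq_one.1 (Int.natCast_dvd.1 h4)
  have := isCyclic_of_le h3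
  refine isCyclic_of_surjective ((X.τ.comp (coch A.1)).subgroupComap Q) fun q => ?_
  obtain ⟨x, hx⟩ := h1 (hQ q.2)
  exact ⟨⟨x, show _ ∈ Q from hx ▸ q.2⟩, Subtype.ext hx⟩

end R

open R in
/-- **[K3]** -/
theorem boxK3x : BoxK3 := by
  intro p _ k _ _ Y _ N _ _ ρ F G _ X n S u hE h3 hS hu he hI hn
  obtain ⟨i, hi⟩ := he u rfl
  refine ⟨(nf hE h3 hS hu he hI hn).1, ?_, ?_⟩ <;> rintro rfl
  · refine le_bot_iff.1 (hS.ge.trans ((closure_le _).2 ?_))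
    rintro _ ⟨v, a, hv, rfl⟩
    rw [hE.ss v ((nf6 hE h3 hS hu hi hI hn).1 ▸ hv)]
    exact (congrArg X.τ (funext fun _ => zpow_zero a)).trans (map_one _)
  · intro Q hQ _
    obtain ⟨_, X₀, ⟨K⟩⟩ := hE.kit7
    obtain ⟨K, s, -, h2, h4, -⟩ := nfK K hE.ok7 h3 hS hu hi hI hn
    refine cyc_inj hS (K.e.symm (sr 2)) (fun v hv h0 => K.φ_inj hE.ok7 ?_) hQ
    obtain ⟨a1, a2⟩ := (pp_RS X₀).1 ((kit_pp K h4 v).1 (hv.anti Sz_ins_sub))
    have a3 : ∀ i, i ≠ 4 → K.φ v i = 0 := fun i hi => (em (i = 2)).elim (fun e => e ▸ h0) fun e =>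
      a1 i fun e' => by simpa [hi, e] using hr7.2 i (h2 i e')
    rw [hr7.1] at a2
    simp [dotProduct, Fin.sum_univ_seven, a3] at a2
    exact (funext fun i => (em (i = 4)).elim (fun e => e ▸ a2) (a3 i)).trans (map_zero _).symm

end Cfsg.Agent.RC.B
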