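import Cfsg.Agent.RC.B.SimAll
import Cfsg.Agent.RC.B.K3x
import Cfsg.Agent.RC.B.R8
import Cfsg.Agent.RC.B.Tor

/-!
# RC (S4576): the simply connected groups of type `E` at the prime three, assembly (helper1)
-/

set_option autoImplicit false

namespace Cfsg.Agent.RC.B

theorem boxLoc3_pl (pl : BoxPl) : BoxLoc3 :=
  boxLoc3_of boxCC boxFr boxK1x boxK3x pl (boxR6_of boxA2K (boxRot_of boxSyl)) (boxR8_of boxA2K (boxRot_of boxSyl) boxK1x)

theorem boxMain_pl (pl : BoxPl) : BoxMain :=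
  boxMain_of boxCan boxBR boxK0 boxK1x (boxLoc3_pl pl) boxCyc boxTwo boxTor boxFr

end Cfsg.Agent.RC.B
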