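import Cfsg.Agent.RC.B.Defs

/-!
# RC (S4576): the canonical torus exists (helper36)
-/

set_option autoImplicit false
set_option linter.unusedSectionVars false
set_option maxHeartbeats 200000

namespace Cfsg.Agent.RC.B

open Cfsg Cfsg.Lie Cfsg.Agent.DL Cfsg.Agent.Nodes.Reps Matrix Subgroup Cfsg.Agent.KM.Ht Cfsg.Agent.KM.Tor
open Cfsg.Agent.TO.X.Cn (Pi1 χ_exp mem_cen)

variable {p : ℕ} [Fact p.Prime] {k : Type} [Field k] [CharP k p] {Y : Type} [Group Y] {N : Type} [Fintype N]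
  [DecidableEq N] {ρ : Y →* GL N k} {F : MulAut Y} {G : Subgroup Y} [IsAlgClosed k] (X : Datum p ρ F G)

namespace Cn

/-- the roots orthogonal to `v` -/
def Ov (v : X.R → ℤ) : Set (X.I → ℤ) := {a | X.Rt a ∧ X.wt a ⬝ᵥ v = 0}

/-- the one-parameter subgroup `g (coch v) g⁻¹` commutes with `C` -/
def Gd (C : Set Y) (g : Y) (v : X.R → ℤ) : Prop :=
  ∀ c ∈ C, ∀ a : kˣ, c * (g * X.τ (coch v a) * g⁻¹) = g * X.τ (coch v a) * g⁻¹ * c

theorem exists_bd (v : X.R → ℤ) : ∃ B : ℕ, ∀ a, X.Rt a → (X.wt a ⬝ᵥ v).natAbs ≤ B := by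
  classical
  exact ⟨∑ a ∈ X.finite_roots.toFinset, (X.wt a ⬝ᵥ v).natAbs, fun a ha => Finset.single_le_sum
    (f := fun a => (X.wt a ⬝ᵥ v).natAbs) (fun _ _ => Nat.zero_le _) (X.finite_roots.mem_toFinset.2 ha)⟩

/-- a generic element of a one-parameter subgroup -/
theorem exists_gn {l : ℕ} (hl : l.Prime) (v : X.R → ℤ) : ∃ (ζ : kˣ) (n : ℕ), ¬ p ∣ n ∧ ¬ l ∣ n ∧ ζ ^ n = 1 ∧
    ∀ w : X.W, X.Sz {X.τ (coch (X.Wm w *ᵥ v) ζ)} = Ov X (X.Wm w *ᵥ v) := by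
  obtain ⟨B, hB⟩ := exists_bd X v
  have hp : p.Prime := Fact.out
  have h1 : ¬ p ∣ p * l * B + 1 := fun h =>
    hp.one_lt.ne' (Nat.dvd_one.1 ((Nat.dvd_add_right ((dvd_mul_right p l).mul_right B)).1 h))
  have h2 : ¬ l ∣ p * l * B + 1 := fun h =>
    hl.one_lt.ne' (Nat.dvd_one.1 ((Nat.dvd_add_right ((dvd_mul_left l p).mul_right B)).1 h))
  obtain ⟨ζ, hζ⟩ := exists_prim p k h1
  refine ⟨ζ, _, h1, h2, hζ ▸ pow_orderOf_eq_one ζ, fun w => Set.ext fun a => and_congr_right fun ha => ?_⟩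
  simp only [Set.mem_singleton_iff, forall_eq]
  rw [χ_exp, hζ, dotProduct_mulVec, ← X.wt_act', Int.natCast_dvd]
  refine ⟨fun h => Int.natAbs_eq_zero.1 (Nat.eq_zero_of_dvd_of_lt h (Nat.lt_succ_of_le ((hB _ (ha.act _)).trans ?_))),
    fun h => by rw [h]; exact dvd_zero _⟩
  exact Nat.le_mul_of_pos_left _ (Nat.mul_pos hp.pos hl.pos)

theorem exists_sum (v u : X.R → ℤ) : ∃ n : ℤ, Ov X (n • v + u) = Ov X v ∩ Ov X u := by
  obtain ⟨B, hB⟩ := exists_bd X u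
  refine ⟨(B + 1 : ℕ), Set.ext fun a => ⟨fun h => ?_, fun h => ⟨h.1.1, ?_⟩⟩⟩
  · have h1 := h.2
    rw [dotProduct_add, dotProduct_smul, smul_eq_mul] at h1
    have h2 : ((B + 1 : ℕ) : ℤ) ∣ X.wt a ⬝ᵥ u := ⟨-(X.wt a ⬝ᵥ v), by linear_combination h1⟩
    have h3 := Int.natAbs_eq_zero.1 (Nat.eq_zero_of_dvd_of_lt (Int.natCast_dvd.1 h2) (Nat.lt_succ_of_le (hB a h.1)))
    rw [h3, add_zero] at h1
    exact ⟨⟨h.1, (mul_eq_zero.1 h1).resolve_left (Int.natCast_ne_zero.2 (Nat.succ_ne_zero B))⟩, h.1, h3⟩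
  · rw [dotProduct_add, dotProduct_smul, h.1.2, h.2.2, smul_zero, add_zero]

theorem pow_τ {v : X.R → ℤ} {ζ : kˣ} {n : ℕ} (h : ζ ^ n = 1) : X.τ (coch v ζ) ^ n = 1 := by
  rw [← map_pow, ← map_pow, h, map_one, map_one]

variable {X}

/-- **the minimal one-parameter subgroup is generic** -/
theorem key (hP : Pi1 X 1) {l : ℕ} (hl : l.Prime) {C : Set Y} {v : X.R → ℤ} {s : Y} (hT : s ∈ X.T) {n : ℕ}
    (hn : s ^ n = 1) (hs : X.Sz {s} = Ov X v) (hC : s ∈ C) (h1 : Gd X C 1 v)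
    (hm : ∀ g ∈ G, ∀ u, Gd X C g u → (Ov X v).ncard ≤ (Ov X u).ncard) {g : Y} (hg : g ∈ G) {u : X.R → ℤ}
    (h : Gd X C g u) (a : kˣ) : g * X.τ (coch u a) * g⁻¹ ∈ Z0 X {s} := by
  obtain ⟨ζ, m, hm1, -, hm2, hm3⟩ := exists_gn X hl u
  have hG : g * X.τ (coch u ζ) * g⁻¹ ∈ G := mul_mem (mul_mem hg (X.T_le_G (X.τ_mem _))) (inv_mem hg)
  have h2 : g * X.τ (coch u ζ) * g⁻¹ ∈ X.cen {s} := mem_cen hP hT hn (Nat.coprime_one_right n) hG (h s hC ζ).symm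
  obtain ⟨x, hx, ht⟩ := toral_cen (Set.singleton_subset_iff.2 hT) (Set.finite_singleton s) h2 fun e => hm1 (e.trans
    (orderOf_dvd_of_pow_eq_one (by rw [conj_pow, pow_τ X hm2, mul_one, mul_inv_cancel])))
  have hxG := X.cen_le_G _ hx
  obtain ⟨c, hc, y, ⟨w, hy⟩, e, e'⟩ := X.exists_conj_form (s := fun _ : Unit => X.τ (coch u ζ))
    (t := fun _ : Unit => x⁻¹ * (g * X.τ (coch u ζ) * g⁻¹) * x) (fun _ => X.τ_mem _) (fun _ => ht)
    (mul_mem (inv_mem hxG) hg) fun _ => by group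
  have h3 : ∀ b : kˣ, y * X.τ (coch u b) * y⁻¹ = X.τ (coch (X.Wm w *ᵥ u) b) := fun b => by rw [X.conj_τ hy, mon_coch]
  have h4 : x⁻¹ * (g * X.τ (coch u ζ) * g⁻¹) * x = X.τ (coch (X.Wm w *ᵥ u) ζ) := by
    rw [← h3, e (), mul_inv_cancel_right]
  rw [Set.range_const, h4] at hc
  have h5 : ∀ b : kˣ, g * X.τ (coch u b) * g⁻¹ = x * X.τ (coch (X.Wm w *ᵥ u) b) * x⁻¹ := fun b => by
    have h6 := cen_comm_Z0 X _ (X.S_le_cen _ hc) (mem_Z0 (v := X.Wm w *ᵥ u) (fun d hd => (hm3 w ▸ hd).2) b)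
    calc _ = x * ((x⁻¹ * g) * X.τ (coch u b) * (x⁻¹ * g)⁻¹) * x⁻¹ := by group
      _ = x * (c * (y * X.τ (coch u b) * y⁻¹) * c⁻¹) * x⁻¹ := by rw [e']; group
      _ = _ := by rw [h3, h6, mul_inv_cancel_right]
  have h7 : ∀ b : kˣ, x * X.τ (coch v b) * x⁻¹ = X.τ (coch v b) := fun b => by
    rw [cen_comm_Z0 X _ hx (mem_Z0 (v := v) (fun d hd => (hs ▸ hd).2) b), mul_inv_cancel_right]
  obtain ⟨j, hj⟩ := exists_sum X v (X.Wm w *ᵥ u)
  have h8 : Gd X C x (j • v + X.Wm w *ᵥ u) := fun d hd b => by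
    have h9 := h1 d hd (b ^ j)
    have h10 := h d hd b
    rw [one_mul, inv_one, mul_one] at h9
    have h11 : x * X.τ (coch (j • v + X.Wm w *ᵥ u) b) * x⁻¹ = X.τ (coch v (b ^ j)) * (g * X.τ (coch u b) * g⁻¹) := by
      rw [coch_add, coch_zsmul, map_mul, h5]
      calc _ = x * X.τ (coch v (b ^ j)) * x⁻¹ * (x * X.τ (coch (X.Wm w *ᵥ u) b) * x⁻¹) := by group
        _ = _ := by rw [h7]
    rw [h11, ← mul_assoc, h9, mul_assoc, h10, ← mul_assoc]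
  have h12 : Ov X v ∩ Ov X (X.Wm w *ᵥ u) = Ov X v := Set.eq_of_subset_of_ncard_le Set.inter_subset_left
    (hj ▸ hm x hxG _ h8) (X.finite_roots.subset fun _ h => h.1)
  have h13 : X.τ (coch (X.Wm w *ᵥ u) a) ∈ Z0 X {s} := mem_Z0 (fun d hd => (h12 ▸ hs ▸ hd : d ∈ Ov X v ∩ _).2.2) a
  rw [h5, cen_comm_Z0 X _ hx h13, mul_inv_cancel_right]
  exact h13

theorem gd_conj {C : Set Y} {g h : Y} {u : X.R → ℤ} : Gd X {c | g * c * g⁻¹ ∈ C} h u ↔ Gd X C (g * h) u := by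
  refine ⟨fun H c hc a => ?_, fun H c hc a => ?_⟩
  · have := H (g⁻¹ * c * g) (by show g * _ * g⁻¹ ∈ C; rwa [show g * (g⁻¹ * c * g) * g⁻¹ = c by group]) a
    calc _ = g * (g⁻¹ * c * g * (h * X.τ (coch u a) * h⁻¹)) * g⁻¹ := by group
      _ = _ := by rw [this]; group
  · have := H _ hc a
    calc _ = g⁻¹ * (g * c * g⁻¹ * (g * h * X.τ (coch u a) * (g * h)⁻¹)) * g := by group
      _ = _ := by rw [this]; group

/-- the torus generated by the one-parameter subgroups which commute with `C` -/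
theorem exists_tor (hP : Pi1 X 1) {l : ℕ} (hl : l.Prime) {C : Set Y} (hG : C ⊆ G)
    (hC : ∀ s ∈ G, ¬ l ∣ orderOf s → (∀ c ∈ C, c * s = s * c) → s ∈ C) : ∃ g ∈ G, ∃ s : Y,
    (∀ c ∈ C, ∀ z ∈ cj g (Z0 X {s}), c * z = z * c) ∧
    ∀ h ∈ G, ∀ u, Gd X C h u → ∀ a, h * X.τ (coch u a) * h⁻¹ ∈ cj g (Z0 X {s}) := by
  obtain ⟨⟨g, v⟩, ⟨hg, h1⟩, hm⟩ := (InvImage.wf (fun x : Y × (X.R → ℤ) => (Ov X x.2).ncard) Nat.lt_wfRel.wf).has_min
    {x | x.1 ∈ G ∧ Gd X C x.1 x.2} ⟨(1, 0), one_mem _, fun c _ a => by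
      rw [show coch (0 : X.R → ℤ) a = 1 from funext fun _ => zpow_zero a, map_one]; group⟩
  obtain ⟨ζ, n, -, h2, h3, h4⟩ := exists_gn X hl v
  have h5 := h4 1
  rw [X.Wm_one, one_mulVec] at h5
  have hT := X.τ_mem (coch v ζ)
  have h6 : g * X.τ (coch v ζ) * g⁻¹ ∈ C := hC _ (mul_mem (mul_mem hg (X.T_le_G hT)) (inv_mem hg))
    (fun e => h2 (e.trans (orderOf_dvd_of_pow_eq_one (by rw [conj_pow, pow_τ X h3, mul_one, mul_inv_cancel]))))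
    fun c hc => h1 c hc ζ
  refine ⟨g, hg, X.τ (coch v ζ), fun c hc z hz => ?_, fun h hh u hu a => ?_⟩
  · have h7 : g⁻¹ * c * g ∈ X.cen {X.τ (coch v ζ)} := mem_cen hP hT (pow_τ X h3) (Nat.coprime_one_right n)
      (mul_mem (mul_mem (inv_mem hg) (hG hc)) hg) (by
        calc _ = g⁻¹ * (c * (g * X.τ (coch v ζ) * g⁻¹)) * g := by group
          _ = _ := by rw [h1 c hc ζ]; group)
    have h8 := cen_comm_Z0 X _ h7 (mem_cj.1 hz)
    calc _ = g * (g⁻¹ * c * g * (g⁻¹ * z * g)) * g⁻¹ := by group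
      _ = _ := by rw [h8]; group
  · have h7 := key hP hl (C := {c | g * c * g⁻¹ ∈ C}) hT (pow_τ X h3) h5 h6 (gd_conj.2 (by rwa [mul_one]))
      (fun x hx y hy => not_lt.1 (hm (g * x, y) ⟨mul_mem hg hx, gd_conj.1 hy⟩)) (mul_mem (inv_mem hg) hh)
      (gd_conj.2 (by rwa [mul_inv_cancel_left])) a
    rw [mem_cj, show g⁻¹ * (h * X.τ (coch u a) * h⁻¹) * g = g⁻¹ * h * X.τ (coch u a) * (g⁻¹ * h)⁻¹ by group]
    exact h7

/-- an automorphism which preserves the generators preserves the torus -/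
theorem map_mem {g s : Y} (φ : Y →* Y) (h : ∀ u a, g * X.τ (coch u a) * g⁻¹ ∈ cj g (Z0 X {s}) → (∀ b, g * X.τ (coch u b) * g⁻¹ ∈
    cj g (Z0 X {s})) → φ (g * X.τ (coch u a) * g⁻¹) ∈ cj g (Z0 X {s})) {z : Y} (hz : z ∈ cj g (Z0 X {s})) :
    φ z ∈ cj g (Z0 X {s}) := by
  obtain ⟨t, ht, rfl⟩ := hz
  have h1 : Z0 X {s} ≤ (cj g (Z0 X {s})).comap (φ.comp (MulAut.conj g).toMonoidHom) :=
    (closure_le _).2 fun _ ⟨u, a, h2, e⟩ => by
      subst e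
      exact h u a ⟨_, mem_Z0 h2 a, rfl⟩ fun b => ⟨_, mem_Z0 h2 b, rfl⟩
  exact h1 ht

end Cn

open Cn in
/-- **[CAN]** -/
theorem boxCan : BoxCan := by
  intro p _ k _ _ Y _ N _ _ ρ F G _ X l D hl _ hP _ hD
  have hG : {c | Ce l G D c} ⊆ G := fun c hc => hc.elim (fun h => (hD h).1) fun h => h.1
  obtain ⟨g, hg, s, h1, h2⟩ := exists_tor hP hl hG fun s hs h3 h4 => Or.inr ⟨hs, fun d hd => h4 d (Or.inl hd), h3⟩
  have hF0 : ∀ c ∈ {c | Ce l G D c}, F c ∈ {c | Ce l G D c} := fun c hc => hc.elim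
    (fun h => Or.inl (by rw [show F c = c from (hD h).2]; exact h)) fun h => Or.inr ⟨X.F_mem_G h.1, fun d hd => by
      rw [← show F d = d from (hD hd).2, ← map_mul, h.2.1 d hd, map_mul], by rw [MulEquiv.orderOf_eq]; exact h.2.2⟩
  have hF : ∀ z ∈ cj g (Z0 X {s}), F z ∈ cj g (Z0 X {s}) := fun z hz => by
    refine map_mem F.toMonoidHom (fun u a _ h3 => ?_) hz
    have h4 : ∀ b, F (g * X.τ (coch u b) * g⁻¹) = F g * X.τ (coch (X.Mx *ᵥ u) b) * (F g)⁻¹ := fun b => by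
      rw [map_mul, map_mul, map_inv, X.F_τ, mon_coch]
    show F _ ∈ _
    rw [h4]
    refine h2 _ (X.F_mem_G hg) _ (fun c hc b => ?_) a
    have h5 : F⁻¹ c ∈ {c | Ce l G D c} := (X.amb.mem_iff hF0 _).1 (by rwa [MulAut.apply_inv_self])
    rw [← h4, ← MulAut.apply_inv_self Y F c, ← map_mul, h1 _ h5 _ (h3 b), map_mul]
  have hn : ∀ n ∈ G, n ∈ normalizer (D : Set Y) → ∀ z ∈ cj g (Z0 X {s}), n * z * n⁻¹ ∈ cj g (Z0 X {s}) :=
    fun n hn hN z hz => by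
      refine map_mem (MulAut.conj n).toMonoidHom (fun u a _ h3 => ?_) hz
      have h4 : ∀ b, n * (g * X.τ (coch u b) * g⁻¹) * n⁻¹ = n * g * X.τ (coch u b) * (n * g)⁻¹ := fun b => by group
      show n * _ * n⁻¹ ∈ _
      rw [h4]
      refine h2 _ (mul_mem hn hg) _ (fun c hc b => ?_) a
      have h5 : n⁻¹ * c * n ∈ {c | Ce l G D c} := hc.elim
        (fun h => Or.inl ((mem_normalizer_iff.1 hN _).2 (by rwa [show n * (n⁻¹ * c * n) * n⁻¹ = c by group])))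
        fun h => Or.inr ⟨mul_mem (mul_mem (inv_mem hn) h.1) hn, fun d hd => by
          have := h.2.1 _ ((mem_normalizer_iff.1 hN d).1 hd)
          calc _ = n⁻¹ * (n * d * n⁻¹ * c) * n := by group
            _ = _ := by rw [this]; group, by
          rw [show n⁻¹ * c * n = MulAut.conj n⁻¹ c by rw [MulAut.conj_apply, inv_inv], MulEquiv.orderOf_eq]
          exact h.2.2⟩
      have h6 := h1 _ h5 _ (h3 b)
      calc _ = n * (n⁻¹ * c * n * (g * X.τ (coch u b) * g⁻¹)) * n⁻¹ := by group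
        _ = _ := by rw [h6]; group
  obtain ⟨y, hy, hN, h3, h4⟩ := SB.Exc.Max.exists_conj_le_T X (Z := cj g (Z0 X {s})) hF hg
    fun z hz => Z0_le_T X _ (mem_cj.1 hz)
  have h5 : ∀ t ∈ Z0 X {s}, y * t * y⁻¹ = g * t * g⁻¹ := fun t ht => by
    have := h4 (g * t * g⁻¹) ⟨t, ht, rfl⟩
    calc _ = y * (g⁻¹ * (g * t * g⁻¹) * g) * y⁻¹ := by group
      _ = _ := by rw [← this]; group
  have h6 : (X.conj hy hN).Sz (cj g (Z0 X {s})) = X.Sz (Z0 X {s}) := Set.ext fun a => and_congr_right fun _ =>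
    ⟨fun h t ht => by
      rw [← X.conj_χ hy hN a (Z0_le_T X _ ht), h5 t ht]
      exact h _ ⟨t, ht, rfl⟩, fun h _ ⟨t, ht, e⟩ => by
      rw [← e]
      show (X.conj hy hN).χ a (g * t * g⁻¹) = 1
      rw [← h5 t ht, X.conj_χ hy hN a (Z0_le_T X _ ht)]
      exact h t ht⟩
  have h7 : Z0 (X.conj hy hN) (cj g (Z0 X {s})) = cj g (Z0 X {s}) := by
    refine le_antisymm ((closure_le _).2 fun _ ⟨u, a, hu, e⟩ => ?_) ?_
    · have h8 : X.τ (coch u a) ∈ Z0 X {s} :=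
        mem_Z0 (X := X) (A := {s}) (fun b hb => hu b (h6.ge (Sz_le_Z0 X {s} hb))) a
      rw [e, X.conj_tau, h5 _ h8]
      exact ⟨_, h8, rfl⟩
    · rintro _ ⟨t, ht, rfl⟩
      have h8 : Z0 X {s} ≤ (Z0 (X.conj hy hN) (cj g (Z0 X {s}))).comap (MulAut.conj y).toMonoidHom :=
        (closure_le _).2 fun _ ⟨u, a, hu, e⟩ => by
          subst e
          exact mem_Z0 (X := X.conj hy hN) (A := cj g (Z0 X {s})) (fun b hb => dot_eq_zero (X := X) (h6.le hb) hu) a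
      show g * t * g⁻¹ ∈ _
      rw [← h5 t ht]
      exact h8 ht
  refine ⟨y, hy, hN, cj g (Z0 X {s}), ⟨fun a ha => (X.conj hy hN).g_mem_Sz h3 hF ha, fun d hd z hz => ?_,
    fun n h8 h9 z hz => ?_, fun c h8 h9 h10 z hz => ?_⟩, h7, fun n h8 u h9 a => ?_⟩
  · exact h1 d (Or.inl hd) z (h7.le hz)
  · exact h7.ge (hn n h8 h9 z (h7.le hz))
  · exact h1 c (Or.inr ⟨h8, h9, h10⟩) z (h7.le hz)
  · have h10 : ∀ b, n * (X.conj hy hN).τ (coch u b) * n⁻¹ = n * y * X.τ (coch u b) * (n * y)⁻¹ := fun b => by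
      rw [X.conj_tau]; group
    rw [h10]
    exact h2 _ (mul_mem h8 hy) u (fun c hc b => by rw [← h10 b]; exact h9 c hc b) a

end Cfsg.Agent.RC.B
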