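import Cfsg.Agent.RC.B.CycA
import Cfsg.Agent.H658.InertialBound

/-!
# RC (S4576), box CYC : the average of the contributions of a major subsection (helper35)
-/

set_option autoImplicit false
set_option linter.unusedSectionVars false

open Cfsg
open scoped ComplexConjugate

namespace Cfsg.Agent.RC.B.Cyc

open Cfsg.Agent.Blocks.Local Finset

theorem avg_mat {M : Ideal AlgInt} (hM : IsPModular 3 M) {ι : Type*} [Fintype ι] (R : ι → ι → ℂ) (z : ι → ι → ℤ)
    (n n₀ : ι → ℕ) (e : ι → ℂ) {N k h c : ℕ} {c₀ : ℂ} (hh : 0 < h) (hR1 : ∀ ξ η, conj (R ξ η) = R η ξ)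
    (hR2 : ∀ ξ η, ∑ ζ, R ξ ζ * R ζ η = R ξ η) (hz : ∀ ξ η, 3 ^ (k + h) * R ξ η = z ξ η) (he : ∀ ξ, e ξ ^ 3 ^ (N + 1) = 1)
    (hc : ¬ 3 ∣ c) (h1 : ∀ η, IsIntegral ℤ (c * (3 ^ k * ∑ ξ, n ξ * e ξ * R ξ η))) (hc₀ : MemLocalRing M c₀)
    (h2 : ∀ η, MemLocalIdeal M (3 ^ k * ∑ ξ, n ξ * e ξ * R ξ η - c₀ * (3 ^ (k + h) * ∑ ξ, n₀ ξ * e ξ * R ξ η)))
    (h3 : ∃ η, ¬ MemLocalIdeal M (3 ^ k * ∑ ξ, n ξ * e ξ * R ξ η)) :
    (3 : ℝ) * 3 ^ N ≤ 3 ^ k * ∑ m ∈ range (3 ^ N), ∑ η, Complex.normSq (∑ ξ, n ξ * e ξ ^ (1 + 3 * m) * R ξ η) := by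
  classical
  have := isPrime_of_isPModular hM
  have hK : 0 < 3 ^ N := by positivity
  obtain ⟨ζ, hζ⟩ : ∃ ζ : ℂ, IsPrimitiveRoot ζ (3 ^ (N + 1)) := ⟨_, Complex.isPrimitiveRoot_exp (3 ^ (N + 1)) (by positivity)⟩
  have : NeZero (3 ^ (N + 1)) := ⟨by positivity⟩
  choose i hi hie using fun ξ => hζ.eq_pow_of_pow_eq_one (he ξ)
  have hω3 : IsPrimitiveRoot (ζ ^ 3 ^ N) 3 := hζ.pow (by positivity) (pow_succ 3 N)
  have hθ : IsPrimitiveRoot (ζ ^ 3) (3 ^ N) := hζ.pow (by positivity) (pow_succ' 3 N)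
  set ω := ζ ^ 3 ^ N with hωd
  have hω : ω ^ 2 + ω + 1 = 0 := by
    have h4 := hω3.geom_sum_eq_zero (by norm_num)
    simp only [sum_range_succ, range_zero, sum_empty] at h4
    linear_combination h4
  have hζ1 : ζ * conj ζ = 1 := by
    rw [Complex.mul_conj, Complex.normSq_eq_norm_sq, Complex.norm_eq_one_of_pow_eq_one hζ.pow_eq_one (by positivity)]
    simp
  have hζi : IsIntegral ℤ ζ := hζ.isIntegral (by positivity)
  have he' : ∀ ξ, e ξ = ζ ^ (i ξ % 3 ^ N) * ω ^ (i ξ / 3 ^ N) := fun ξ => by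
    rw [hωd, ← pow_mul, ← pow_add, Nat.mod_add_div, hie]
  have hei : ∀ ξ, IsIntegral ℤ (e ξ) := fun ξ => hie ξ ▸ hζi.pow _
  set V : ℕ → ι → ℂ := fun r η => ∑ ξ with i ξ % 3 ^ N = r, n ξ * e ξ * R ξ η with hV
  have hF : ∀ m η, ∑ ξ, n ξ * e ξ ^ (1 + 3 * m) * R ξ η = ∑ r ∈ range (3 ^ N), ((ζ ^ 3) ^ r) ^ m * V r η := by
    intro m η
    rw [← sum_fiberwise_of_maps_to (g := fun ξ => i ξ % 3 ^ N) (t := range (3 ^ N))
      fun ξ _ => mem_range.2 (Nat.mod_lt _ hK)]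
    refine sum_congr rfl fun r _ => ?_
    rw [hV, mul_sum]
    refine sum_congr rfl fun ξ hξ => ?_
    have h4 : e ξ ^ 3 = (ζ ^ 3) ^ r := by
      rw [he', (mem_filter.1 hξ).2, mul_pow, ← pow_mul ω, mul_comm _ 3, pow_mul ω, hω3.pow_eq_one, one_pow, mul_one,
        ← pow_mul, ← pow_mul, mul_comm]
    rw [pow_add, pow_mul, h4]
    ring
  have hB : ∀ η, ∑ ξ, n ξ * e ξ * R ξ η = ∑ r ∈ range (3 ^ N), V r η := fun η => by simpa using hF 0 η
  have hC : ∀ r ∈ range (3 ^ N), ∀ η, ∃ x ∈ Zw hω, 3 ^ k * V r η = ζ ^ r * x := by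
    intro r hr η
    have h4 : ∀ r, ∃ a b : ℤ, 3 ^ (k + h) * V r η = ζ ^ r * (a + b * ω) := fun r => by
      obtain ⟨a, b, hab⟩ : ∑ ξ with i ξ % 3 ^ N = r, n ξ * ω ^ (i ξ / 3 ^ N) * z ξ η ∈ Zw hω :=
        sum_mem fun ξ _ => mul_mem (mul_mem (natCast_mem _ _) (pow_mem (self_mem hω) _)) (intCast_mem _ _)
      refine ⟨a, b, ?_⟩
      rw [← hab, hV, mul_sum, mul_sum]
      refine sum_congr rfl fun ξ hξ => ?_
      rw [← hz, he', (mem_filter.1 hξ).2]
      ring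
    choose a b hab using h4
    have h5 := dvd_coef (e := h) hζ (fun r => c * a r) (fun r => c * b r) (h1 η) (by
      rw [hB, mul_sum, mul_sum, mul_sum]
      refine sum_congr rfl fun r _ => ?_
      push_cast
      linear_combination (-c : ℂ) * hab r) (mem_range.1 hr)
    have h6 : IsCoprime ((3 : ℤ) ^ h) c :=
      (Nat.isCoprime_iff_coprime.2 ((Nat.Prime.coprime_iff_not_dvd Nat.prime_three).2 hc)).pow_left
    obtain ⟨a', ha'⟩ := h6.dvd_of_dvd_mul_left h5.1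
    obtain ⟨b', hb'⟩ := h6.dvd_of_dvd_mul_left h5.2
    refine ⟨_, ⟨a', b', rfl⟩, mul_left_cancel₀ (pow_ne_zero h (three_ne_zero (α := ℂ))) ?_⟩
    have h7 := hab r
    rw [ha', hb'] at h7
    push_cast at h7
    linear_combination h7
  have hCi : ∀ r ∈ range (3 ^ N), ∀ η, IsIntegral ℤ (3 ^ k * V r η) := fun r hr η => by
    obtain ⟨x, hx, h4⟩ := hC r hr η
    exact h4 ▸ (hζi.pow _).mul (isIntegral hω hx)
  have hcj : ∀ r η, conj (V r η) = ∑ ξ with i ξ % 3 ^ N = r, n ξ * conj (e ξ) * R η ξ := fun r η => by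
    simp only [hV, map_sum, map_mul, map_natCast, hR1]
  have hD : ∀ r r', (3 : ℂ) ^ k * ∑ η, V r η * conj (V r' η) =
      ∑ ξ with i ξ % 3 ^ N = r', n ξ * conj (e ξ) * (3 ^ k * V r ξ) := by
    intro r r'
    have h4 : ∀ ξ, ∑ η, V r η * R η ξ = V r ξ := fun ξ => by
      simp only [hV, sum_mul]
      rw [sum_comm]
      refine sum_congr rfl fun ξ' _ => ?_
      rw [← hR2 ξ' ξ, mul_sum]
      exact sum_congr rfl fun η _ => by ring
    simp only [hcj, mul_sum]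
    rw [sum_comm]
    refine sum_congr rfl fun ξ _ => ?_
    rw [← h4 ξ, mul_sum, mul_sum]
    exact sum_congr rfl fun η _ => by ring
  have hD' : ∀ r ∈ range (3 ^ N), ∀ r', ∃ x ∈ Zw hω,
      (3 : ℂ) ^ k * ∑ η, V r η * conj (V r' η) = ζ ^ r * conj ζ ^ r' * x := by
    intro r hr r'
    choose x hx hx' using hC r hr
    refine ⟨∑ ξ with i ξ % 3 ^ N = r', n ξ * conj (ω ^ (i ξ / 3 ^ N)) * x ξ, sum_mem fun ξ _ =>
      mul_mem (mul_mem (natCast_mem _ _) (conj_mem hω (pow_mem (self_mem hω) _))) (hx ξ), ?_⟩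
    rw [hD, mul_sum]
    refine sum_congr rfl fun ξ hξ => ?_
    rw [hx', he', (mem_filter.1 hξ).2, map_mul, map_pow]
    ring
  have hmain := three_le hM (range (3 ^ N)) V (s := 3 ^ k) (by positivity)
    (fun r hr η => by
      push_cast
      exact memLocalRing_of_isIntegral (hCi r hr η))
    (fun r hr => by
      obtain ⟨x, hx, h4⟩ := hD' r hr r
      rw [← mul_pow, hζ1, one_pow, one_mul] at h4
      simp only [Complex.mul_conj] at h4
      have h5 : x = ((3 ^ k * ∑ η, Complex.normSq (V r η) : ℝ) : ℂ) := by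
        rw [← h4]
        push_cast
        rfl
      obtain ⟨a, ha⟩ := int_of_real hω hx (by rw [h5, Complex.conj_ofReal])
      exact ⟨a, by exact_mod_cast h5.symm.trans ha⟩)
    (fun r hr r' _ => by
      obtain ⟨x, hx, h4⟩ := hD' r hr r'
      push_cast
      rw [h4]
      intro h5
      have h6 : Complex.normSq ζ = 1 := by
        rw [Complex.mul_conj] at hζ1
        exact_mod_cast hζ1
      rw [map_mul, map_mul, map_pow, map_pow, Complex.normSq_conj, h6, one_pow, one_pow, one_mul, one_mul]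
      exact one_le hω hx (right_ne_zero_of_mul h5))
    (fun r' hr' => by
      push_cast
      have h4 : ∑ r ∈ range (3 ^ N), (3 : ℂ) ^ k * ∑ η, V r η * conj (V r' η) =
          ∑ ξ with i ξ % 3 ^ N = r', n ξ * conj (e ξ) * (3 ^ k * ∑ ξ', n ξ' * e ξ' * R ξ' ξ) := by
        simp only [hD, hB]
        rw [sum_comm]
        exact sum_congr rfl fun ξ _ => by rw [mul_sum, mul_sum]
      have h5 : ∑ ξ with i ξ % 3 ^ N = r', n ξ * conj (e ξ) * (c₀ * (3 ^ (k + h) * ∑ ξ', n₀ ξ' * e ξ' * R ξ' ξ)) =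
          ((3 ^ h : ℕ) : ℂ) * (c₀ * ∑ ξ', n₀ ξ' * e ξ' * conj (3 ^ k * V r' ξ')) := by
        simp only [map_mul, map_pow, map_ofNat, hcj, mul_sum]
        rw [sum_comm]
        refine sum_congr rfl fun ξ' _ => sum_congr rfl fun ξ _ => ?_
        push_cast
        ring
      rw [h4, memLocalIdeal_iff_of_sub (memLocalIdeal_sum_sub_sum (g := fun ξ => n ξ * conj (e ξ) *
        (c₀ * (3 ^ (k + h) * ∑ ξ', n₀ ξ' * e ξ' * R ξ' ξ))) fun ξ _ => by
          rw [← mul_sub]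
          exact memLocalIdeal_mul_left (memLocalRing_mul (memLocalRing_natCast _)
            (memLocalRing_of_isIntegral (H658.isIntegral_conj (hei ξ)))) (h2 ξ)), h5]
      exact memLocalIdeal_mul_right ((memLocalIdeal_natCast_iff hM _).2 (dvd_pow_self 3 hh.ne'))
        (memLocalRing_mul hc₀ (memLocalRing_sum fun ξ _ => memLocalRing_mul (memLocalRing_mul (memLocalRing_natCast _)
          (memLocalRing_of_isIntegral (hei ξ))) (memLocalRing_of_isIntegral (H658.isIntegral_conj (hCi r' hr' ξ))))))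
    (by
      obtain ⟨η, hη⟩ := h3
      refine ⟨η, ?_⟩
      push_cast
      rwa [← hB])
  simp only [hF]
  rw [sum_comm]
  simp only [parseval hθ]
  rw [← mul_sum, sum_comm] at hmain
  rw [← mul_sum]
  push_cast
  rw [mul_left_comm, mul_comm]
  exact mul_le_mul_of_nonneg_left hmain (by positivity)

open Cfsg.Agent.Characters Cfsg.Agent.Blocks.Blau
open Cfsg.Agent.H613.RegGram Cfsg.Agent.H613.Contrib Cfsg.Agent.H613.ContribVal Cfsg.Agent.H658

variable {G : Type*} [Group G] [Fintype G] {M : Ideal AlgInt} {u : G} {H : Subgroup G} [Fintype H]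

theorem lift_wt {p : ℕ} [Fact p.Prime] (hu : ∃ k : ℕ, orderOf u = p ^ k) (hH : H = Subgroup.centralizer ({u} : Set G))
    (η : IrrCharacter H) : ∃ F : G → ℂ, IsClassFunction G F ∧ (∀ g, IsIntegral ℤ (F g)) ∧ ∀ θ : IrrCharacter G,
      (∑ g, F g * (θ : G → ℂ) g) / (θ : G → ℂ) 1 = (Nat.card G : ℂ) / (θ : G → ℂ) 1 * wt p u (θ : G → ℂ) (η : H → ℂ) := by
  obtain ⟨F, hF, hFi, h⟩ := lift_exists hu hH (regPart p fun y => conj ((η : H → ℂ) y))
    (regPart_isClassFunction (isClassFunction_conj (Core.isIrr_isClassFunction η.2))) (fun y hy => regPart_of_dvd hy)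
    fun y => by
      by_cases hy : p ∣ orderOf y
      · rw [regPart_of_dvd hy]
        exact isIntegral_zero
      · rw [regPart_of_not_dvd hy]
        exact H658.isIntegral_conj (Blocks.Central.isIntegral_irr η.2 y)
  refine ⟨F, hF, hFi, fun θ => ?_⟩
  rw [h _ (Core.isIrr_isClassFunction θ.2), wt_def, rg_def, pair_def, div_mul_eq_mul_div]
  simp only [mul_comm]

/-- the average over the powers -/
theorem avg (hM : IsPModular 3 M) {N k : ℕ} (hu : u ^ 3 ^ (N + 1) = 1) (hH : H = Subgroup.centralizer ({u} : Set G))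
    {b : Set (IrrCharacter H)} {B : Set (IrrCharacter G)} (hind : IsInducedBlock M H b B)
    (hd : blockDefect 3 b = blockDefect 3 B) {χ : IrrCharacter G} (hχ : χ ∈ B)
    (hpos : 0 < blockHeight 3 B (χ : G → ℂ)) (hk : k + blockHeight 3 B (χ : G → ℂ) = blockDefect 3 B) :
    (3 : ℝ) * 3 ^ N ≤ 3 ^ k * ∑ m ∈ range (3 ^ N), cn 3 (u ^ (1 + 3 * m)) b (χ : G → ℂ) := by
  classical
  have : Fact (Nat.Prime 3) := ⟨Nat.prime_three⟩
  have := isPrime_of_isPModular hM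
  have := Core.finite_irr (G := H)
  have := Fintype.ofFinite (IrrCharacter H)
  have : Fintype b := Fintype.ofFinite b
  obtain ⟨n, e, hE⟩ := exists_exp hH hu
  have hu' : ∃ j : ℕ, orderOf u = 3 ^ j :=
    let ⟨j, _, hj⟩ := (Nat.dvd_prime_pow Nat.prime_three).1 (orderOf_dvd_of_pow_eq_one hu); ⟨j, hj⟩
  choose z hz using fun ξ η : b => exists_int_rg hM ξ.2 (η : IrrCharacter H)
  obtain ⟨χ₀, hχ₀, h0⟩ := exists_blockHeight_eq_zero 3 (isPBlock_nonempty hM hind.2.1)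
  have hw : ∀ (θ : IrrCharacter G) (η : b), wt 3 u (θ : G → ℂ) (η : H → ℂ) =
      ∑ ξ : b, n θ ξ * e ξ * rg 3 (ξ : H → ℂ) (η : H → ℂ) := fun θ η => by
    simpa only [pow_one] using wt_eq_sum hM hE hind.1 θ 1 η.2
  obtain ⟨c, hc⟩ := (S0914.degree_spec χ).2.2
  have hm0 : charDegree (χ : G → ℂ) ≠ 0 := (Blocks.Basic.charDegree_pos χ.2).ne'
  have hc0 : c ≠ 0 := fun h => Nat.card_pos.ne' (by rw [hc, h, mul_zero])
  have hcc : (Nat.card G : ℂ) / (χ : G → ℂ) 1 = c := by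
    rw [Blocks.Basic.irr_one_eq_charDegree χ.2, hc, Nat.cast_mul, mul_div_cancel_left₀ _ (Nat.cast_ne_zero.2 hm0)]
  have hck : c.factorization 3 = k := by
    have h1 := H648.HeightForm.defect_add (p := 3) B hχ
    have h2 : (Nat.card G).factorization 3 = (charDegree (χ : G → ℂ)).factorization 3 + c.factorization 3 := by
      rw [hc, Nat.factorization_mul hm0 hc0]
      rfl
    omega
  have hc1 : (c : ℂ) = 3 ^ k * (c / 3 ^ k : ℕ) := by
    rw [← hck]
    exact_mod_cast (Nat.ordProj_mul_ordCompl_eq_self c 3).symm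
  have hc2 : ¬ 3 ∣ c / 3 ^ k := hck ▸ Nat.not_dvd_ordCompl Nat.prime_three hc0
  have hc3 : ((c / 3 ^ k : ℕ) : ℂ) ≠ 0 := Nat.cast_ne_zero.2 fun h => hc2 (h ▸ dvd_zero 3)
  obtain ⟨v, -, hv, hv0, hve⟩ := H648.HeightForm.scaled_eq (p := 3) hM hχ₀ 1
  rw [h0, ← hk] at hve
  push_cast at hve
  have h := avg_mat hM (fun ξ η : b => rg 3 (ξ : H → ℂ) (η : H → ℂ)) z (fun ξ => n χ ξ) (fun ξ => n χ₀ ξ) (fun ξ => e ξ)
    (N := N) (k := k) (c := c / 3 ^ k) (c₀ := ((c / 3 ^ k : ℕ) : ℂ)⁻¹ * v⁻¹) hpos (fun ξ η => conj_rg _ _ _)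
    (fun ξ η => sum_rg_mul_rg hM hind.1 ξ.2) (fun ξ η => by rw [hk, ← hd]; exact_mod_cast hz ξ η) (fun ξ => hE.root ξ) hc2
    (fun η => by
      obtain ⟨F, hF, hFi, h1⟩ := lift_wt hu' hH (η : IrrCharacter H)
      have h2 := Blocks.SepCentral.isIntegral_lin_div' χ.2 hF hFi
      rw [Blocks.ConvCentral.lin_def, h1, hcc, hw, hc1] at h2
      convert h2 using 1
      ring)
    (memLocalRing_mul (memLocalRing_inv_natCast hM hc2) hv)
    (fun η => by
      obtain ⟨F, hF, hFi, h1⟩ := lift_wt hu' hH (η : IrrCharacter H)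
      have h2 := Blocks.ClassSum.memLocalIdeal_of_sameBlock (Core.isIrr_isClassFunction χ.2)
        (Core.isIrr_isClassFunction χ₀.2) (H658.sameBlock_of_mem hM hind.2.1 hχ hχ₀) hF
        fun g => memLocalRing_of_isIntegral (hFi g)
      simp only [← mul_div_assoc, ← sum_div] at h2
      rw [h1, h1, hcc, hw, hw, hc1] at h2
      convert memLocalIdeal_mul_left (memLocalRing_inv_natCast hM hc2) h2 using 1
      rw [mul_one] at hve
      rw [hve]
      field_simp)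
    (by
      obtain ⟨w, -, hw1, hw2⟩ := exists_unit_of_height_zero hM hu' hH hind hd hχ hχ₀ h0
      have h1 := contr_eq_sum_wt hM hE hind.1 (Core.isIrr_isClassFunction χ.2) χ₀ (k := 1) (by rw [pow_one]; exact hH)
      rw [pow_one] at h1
      rw [← hk, h1, pow_add, mul_comm ((3 : ℕ) ^ k : ℂ), mul_assoc] at hw2
      rw [← mul_left_cancel₀ (pow_ne_zero _ (by norm_num)) hw2, mul_sum] at hw1
      obtain ⟨η, -, hη⟩ := exists_not_memLocalIdeal_of_sum hw1
      refine ⟨η, fun h2 => hη ?_⟩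
      rw [mul_left_comm, hw]
      exact memLocalIdeal_mul_left (memLocalRing_mul (memLocalRing_natCast _) (memLocalRing_of_isIntegral
        (H658.isIntegral_conj ((isIntegral_of_pow_eq_one (by positivity) (hE.root _)).pow 1)))) h2)
  refine h.trans_eq (congrArg _ (sum_congr rfl fun m _ => ?_))
  have h1 := contr_self_eq 3 (u ^ (1 + 3 * m)) b (χ : G → ℂ)
  rw [contr_self_eq_cn, Complex.ofReal_inj] at h1
  rw [h1]
  exact sum_congr rfl fun η _ => by rw [wt_eq_sum hM hE hind.1 χ _ η.2, Complex.normSq_eq_norm_sq]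

end Cfsg.Agent.RC.B.Cyc
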