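import Mathlib

/-!
# RC (S4576), box CYC : the orbits (helper35)
-/

set_option autoImplicit false

namespace Cfsg.Agent.RC.B.Cyc

theorem pm_one {a : ℤ} {c n : ℕ} (hn : ¬ 3 ∣ n) (h : (3 : ℤ) ^ c ∣ a ^ n - 1) : (3 : ℤ) ^ c ∣ a - 1 ∨ (3 : ℤ) ^ c ∣ a + 1 := by
  rcases Nat.eq_zero_or_pos c with rfl | hc
  · exact Or.inl (one_dvd _)
  have h3 : Prime (3 : ℤ) := Int.prime_three
  have h1 : ¬ (3 : ℤ) ∣ a := fun h1 => by
    have h2 := dvd_sub (dvd_pow h1 (n := n) fun h0 => hn (h0 ▸ dvd_zero 3)) ((dvd_pow_self 3 hc.ne').trans h)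
    rw [sub_sub_cancel] at h2
    norm_num at h2
  have h2 : ((3 : ℕ) : ℤ) ∣ a ^ 2 - 1 := by
    have h4 : a % 3 = 1 ∨ a % 3 = 2 := by omega
    rw [show a ^ 2 - 1 = (a - 1) * (a + 1) by ring]
    rcases h4 with h4 | h4
    · exact Dvd.dvd.mul_right (by omega) _
    · exact Dvd.dvd.mul_left (by omega) _
  have h4 := (pow_dvd_pow _ (Nat.le_succ c)).trans (dvd_sub_pow_of_dvd_sub h2 c)
  have key : ∀ x : ℤ, (3 : ℤ) ^ c ∣ x - 1 ↔ (x : ZMod (3 ^ c)) = 1 := fun x => by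
    have h5 := ZMod.intCast_eq_intCast_iff_dvd_sub 1 x (3 ^ c)
    push_cast at h5
    rw [← h5, eq_comm]
  rw [one_pow, Nat.cast_ofNat, key] at h4
  rw [key] at h
  have h5 : (3 : ℤ) ^ c ∣ (a - 1) * (a + 1) := by
    rw [show (a - 1) * (a + 1) = a ^ 2 - 1 by ring, key]
    push_cast at h h4 ⊢
    have h6 := (pow_gcd_eq_one (a := (a : ZMod (3 ^ c)) ^ 2) (m := 3 ^ c) (n := n)).2
      ⟨h4, by rw [← pow_mul, mul_comm, pow_mul, h, one_pow]⟩
    rwa [(((Nat.Prime.coprime_iff_not_dvd Nat.prime_three).2 hn).pow_left c).gcd_eq_one, pow_one] at h6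
  by_cases h6 : (3 : ℤ) ∣ a + 1
  · exact Or.inr (h3.pow_dvd_of_dvd_mul_left c (by omega) h5)
  · exact Or.inl (h3.pow_dvd_of_dvd_mul_right c h6 h5)

variable {G : Type*} [Group G] [Finite G]

/-- a group acting on `A` by automorphisms of order prime to three -/
structure Act (T A Q : Subgroup G) (n : ℕ) : Prop where
  nd : ¬ 3 ∣ n
  le : Q ≤ A
  pg : IsPGroup 3 A
  cyc : IsCyclic Q
  card : Nat.card A ≤ 3 * Nat.card Q
  stab : ∀ t ∈ T, ∀ x ∈ Q, t * x * t⁻¹ ∈ Q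
  pw : ∀ t ∈ T, ∀ a ∈ A, t ^ n * a * (t ^ n)⁻¹ = a

namespace Act

variable {T A Q : Subgroup G} {n : ℕ} (h : Act T A Q n)
include h

theorem sgn {t : G} (ht : t ∈ T) : (∀ x ∈ Q, t * x * t⁻¹ = x) ∨ ∀ x ∈ Q, t * x * t⁻¹ = x⁻¹ := by
  have : Fact (Nat.Prime 3) := ⟨Nat.prime_three⟩
  obtain ⟨q, hq⟩ := h.cyc.exists_generator
  have h1 : ∀ x ∈ Q, ∃ a : ℤ, (q : G) ^ a = x := fun x hx =>
    let ⟨a, ha⟩ := hq ⟨x, hx⟩; ⟨a, congrArg Subtype.val ha⟩
  obtain ⟨a, ha⟩ := h1 _ (h.stab t ht q q.2)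
  have h2 : ∀ j : ℕ, t ^ j * q * (t ^ j)⁻¹ = (q : G) ^ a ^ j := by
    intro j
    induction j with
    | zero => simp
    | succ j ih =>
      rw [pow_succ', mul_inv_rev, mul_assoc t, mul_assoc t, ← mul_assoc (_ * _), ih, ← mul_assoc, ← conj_zpow, ← ha,
        ← zpow_mul, pow_succ']
  obtain ⟨c, hc⟩ := IsPGroup.iff_orderOf.1 h.pg ⟨q, h.le q.2⟩
  rw [← Subgroup.orderOf_coe] at hc
  have key : ∀ x : ℤ, (3 : ℤ) ^ c ∣ x ↔ (q : G) ^ x = 1 := fun x => by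
    rw [← orderOf_dvd_iff_zpow_eq_one, hc]
    push_cast
    rfl
  refine (pm_one h.nd ((key _).2 (by rw [zpow_sub, ← h2, h.pw t ht q (h.le q.2), zpow_one, mul_inv_cancel]))).imp
    (fun h3 x hx => ?_) fun h3 x hx => ?_
  · obtain ⟨b, rfl⟩ := h1 x hx
    rw [key, zpow_sub, zpow_one, mul_inv_eq_one] at h3
    rw [← conj_zpow, ← ha, h3]
  · obtain ⟨b, rfl⟩ := h1 x hx
    rw [key, zpow_add, zpow_one, mul_eq_one_iff_eq_inv] at h3
    rw [← conj_zpow, ← ha, h3, inv_zpow]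

theorem fix {t z : G} (ht : t ∈ T) (h1 : ∀ x ∈ Q, t * x * t⁻¹ = x) (hz : z ∈ A) (h2 : z⁻¹ * (t * z * t⁻¹) ∈ Q) :
    t * z * t⁻¹ = z := by
  set x := z⁻¹ * (t * z * t⁻¹) with hx
  have h3 : ∀ j : ℕ, t ^ j * z * (t ^ j)⁻¹ = z * x ^ j := by
    intro j
    induction j with
    | zero => simp
    | succ j ih =>
      calc _ = t * (t ^ j * z * (t ^ j)⁻¹) * t⁻¹ := by rw [pow_succ']; group
        _ = z * (z⁻¹ * (t * z * t⁻¹)) * (t * x ^ j * t⁻¹) := by rw [ih]; group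
        _ = _ := by rw [h1 _ (pow_mem h2 j), ← hx, pow_succ', mul_assoc]
  obtain ⟨c, hc⟩ := h.pg ⟨x, h.le h2⟩
  have h4 := (pow_gcd_eq_one (a := x) (m := 3 ^ c) (n := n)).2
    ⟨congrArg Subtype.val hc, mul_eq_left.1 ((h3 n).symm.trans (h.pw t ht z hz))⟩
  rw [(((Nat.Prime.coprime_iff_not_dvd Nat.prime_three).2 h.nd).pow_left c).gcd_eq_one, pow_one, hx] at h4
  exact (inv_mul_eq_one.1 h4).symm

theorem cos {y z z' : G} (hy : y ∈ A) (hz : z ∈ A) (hz' : z' ∈ A) (h1 : y ∉ Q) (h2 : z ∉ Q) (h3 : z' ∉ Q)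
    (h4 : y⁻¹ * z ∉ Q) (h5 : y⁻¹ * z' ∉ Q) : z⁻¹ * z' ∈ Q := by
  classical
  by_contra h6
  have h7 : Nat.card (A ⧸ Q.subgroupOf A) ≤ 3 := by
    have h8 := Subgroup.card_eq_card_quotient_mul_card_subgroup (Q.subgroupOf A)
    rw [Nat.card_congr (Subgroup.subgroupOfEquivOfLe h.le).toEquiv] at h8
    exact Nat.le_of_mul_le_mul_right (h8 ▸ h.card) Nat.card_pos
  have key : ∀ a b : A, (a : G)⁻¹ * b ∉ Q → (a : A ⧸ Q.subgroupOf A) ≠ b := fun a b h9 h10 =>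
    h9 (Subgroup.mem_subgroupOf.1 (QuotientGroup.eq.1 h10))
  have := Fintype.ofFinite (A ⧸ Q.subgroupOf A)
  have h8 := Finset.card_le_univ ({((1 : A) : A ⧸ Q.subgroupOf A), ((⟨y, hy⟩ : A) : A ⧸ Q.subgroupOf A),
    ((⟨z, hz⟩ : A) : A ⧸ Q.subgroupOf A), ((⟨z', hz'⟩ : A) : A ⧸ Q.subgroupOf A)} : Finset _)
  have e1 := key 1 ⟨y, hy⟩ (by simpa using h1)
  have e2 := key 1 ⟨z, hz⟩ (by simpa using h2)
  have e3 := key 1 ⟨z', hz'⟩ (by simpa using h3)
  have e4 := key ⟨y, hy⟩ ⟨z, hz⟩ h4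
  have e5 := key ⟨y, hy⟩ ⟨z', hz'⟩ h5
  have e6 := key ⟨z, hz⟩ ⟨z', hz'⟩ h6
  rw [Finset.card_insert_of_notMem (by simp only [Finset.mem_insert, Finset.mem_singleton]; tauto),
    Finset.card_insert_of_notMem (by simp only [Finset.mem_insert, Finset.mem_singleton]; tauto),
    Finset.card_pair e6, ← Nat.card_eq_fintype_card] at h8
  omega

end Act

/-- the family : `1`, the elements of `A`, the elements of `Q` -/
def fam (A Q : Subgroup G) (i : Option (A ⊕ Q)) : G := i.elim 1 (Sum.elim Subtype.val Subtype.val)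

theorem Act.fam_mem {T A Q : Subgroup G} {n : ℕ} (h : Act T A Q n) (i : Option (A ⊕ Q)) : fam A Q i ∈ A := by
  rcases i with _ | z | z
  exacts [one_mem A, z.2, h.le z.2]

theorem Act.card_le {T A Q : Subgroup G} {n : ℕ} (h : Act T A Q n) {y : G} (hy : y ∈ A) {P : Option (A ⊕ Q) → Prop}
    (hP : ∀ j, P j → ∃ t ∈ T, t * fam A Q j * t⁻¹ = y) : Nat.card {j // P j} ≤ 4 := by
  classical
  choose! t ht hty using hP
  rw [show 4 = Nat.card (Bool × Bool) by simp]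
  by_cases hQ : y ∈ Q
  · have h1 : ∀ j, P j → fam A Q j = y ∨ fam A Q j = y⁻¹ := fun j hj => by
      have h2 : fam A Q j = (t j)⁻¹ * y * (t j)⁻¹⁻¹ := by rw [← hty j hj]; group
      rw [h2]
      exact (h.sgn (inv_mem (ht j hj))).imp (fun h3 => h3 y hQ) fun h3 => h3 y hQ
    have h2 : ∀ j j', P j → P j' → decide (fam A Q j = y) = decide (fam A Q j' = y) → fam A Q j = fam A Q j' := by
      intro j j' hj hj' h3
      rw [decide_eq_decide] at h3
      by_cases h4 : fam A Q j = y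
      · rw [h4, h3.1 h4]
      · rw [(h1 j hj).resolve_left h4, (h1 j' hj').resolve_left (mt h3.2 h4)]
    have h3 : ∀ z : Q, P none → P (some (.inr z)) → fam A Q (some (.inr z)) = y := fun z h4 h5 => by
      have h6 : y = 1 := by
        rw [← hty _ h4]
        exact (congrArg (· * (t none)⁻¹) (mul_one _)).trans (mul_inv_cancel _)
      rcases h1 _ h5 with h7 | h7
      · exact h7
      · rw [h7, h6, inv_one]
    refine Nat.card_le_card_of_injective (fun j => (j.1.elim false fun _ => decide (fam A Q j.1 = y),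
      j.1.elim false Sum.isLeft)) ?_
    rintro ⟨_ | z | z, hj⟩ ⟨_ | z' | z', hj'⟩ he
    · rfl
    · simp at he
    · exact absurd (h3 z' hj hj') (of_decide_eq_false (congrArg Prod.fst he).symm)
    · simp at he
    · exact Subtype.ext (congrArg (some ∘ Sum.inl) (Subtype.ext (h2 _ _ hj hj' (congrArg Prod.fst he))))
    · simp at he
    · exact absurd (h3 z hj' hj) (of_decide_eq_false (congrArg Prod.fst he))
    · simp at he
    · exact Subtype.ext (congrArg (some ∘ Sum.inr) (Subtype.ext (h2 _ _ hj hj' (congrArg Prod.fst he))))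
  · have h1 : ∀ j, P j → fam A Q j ∉ Q := fun j hj h2 => hQ (hty j hj ▸ h.stab _ (ht j hj) _ h2)
    refine Nat.card_le_card_of_injective (fun j => (decide (∀ x ∈ Q, t j.1 * x * (t j.1)⁻¹ = x),
      decide (y⁻¹ * fam A Q j.1 ∈ Q))) ?_
    rintro ⟨j, hj⟩ ⟨j', hj'⟩ he
    simp only [Prod.mk.injEq, decide_eq_decide] at he
    have h2 : (t j)⁻¹ * t j' * fam A Q j' * ((t j)⁻¹ * t j')⁻¹ = fam A Q j := by
      have h3 := (hty j' hj').trans (hty j hj).symm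
      calc _ = (t j)⁻¹ * (t j' * fam A Q j' * (t j')⁻¹) * t j := by group
        _ = _ := by rw [h3]; group
    have h3 := h.fix (mul_mem (inv_mem (ht j hj)) (ht j' hj')) (fun x hx => by
      have h4 : t j' * x * (t j')⁻¹ = t j * x * (t j)⁻¹ := by
        by_cases h5 : ∀ x ∈ Q, t j * x * (t j)⁻¹ = x
        · rw [h5 x hx, he.1.1 h5 x hx]
        · rw [(h.sgn (ht j hj)).resolve_left h5 x hx, (h.sgn (ht j' hj')).resolve_left (mt he.1.2 h5) x hx]
      calc _ = (t j)⁻¹ * (t j' * x * (t j')⁻¹) * t j := by group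
        _ = _ := by rw [h4]; group) (h.fam_mem j') (by
      rw [h2]
      by_cases h4 : y⁻¹ * fam A Q j ∈ Q
      · convert mul_mem (inv_mem (he.2.1 h4)) h4 using 1
        group
      · exact h.cos hy (h.fam_mem j') (h.fam_mem j) hQ (h1 j' hj') (h1 j hj) (mt he.2.2 h4) h4)
    rw [h2] at h3
    rcases j with _ | z | z
    · exact absurd (one_mem Q) (h1 _ hj)
    · rcases j' with _ | z' | z'
      · exact absurd (one_mem Q) (h1 _ hj')
      · exact Subtype.ext (congrArg (some ∘ Sum.inl) (Subtype.ext h3))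
      · exact absurd z'.2 (h1 _ hj')
    · exact absurd z.2 (h1 _ hj)

end Cfsg.Agent.RC.B.Cyc
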