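import Cfsg.Agent.RC.B.Defs
import Cfsg.Agent.RC.B.CycB
import Cfsg.Agent.RC.B.CycG
import Cfsg.Agent.KM.Mu.Small
import Cfsg.Agent.S4437

/-!
# RC (S4576), box CYC (helper35)
-/

set_option autoImplicit false
set_option linter.unusedSectionVars false

open Cfsg

namespace Cfsg.Agent.RC.B.Cyc

open Finset Cfsg.Agent.H658
open Cfsg.Agent.H662 (tr tr_apply tr_apply_map)

variable {G : Type} [Group G] [Finite G] {M : Ideal AlgInt} {B : Set (IrrCharacter G)} {D : Subgroup G}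

/-- the stabilizer of a set of characters of `D C(D)` -/
theorem exists_stab (b : Set (IrrCharacter ↥(D ⊔ Subgroup.centralizer (D : Set G)))) : ∃ T : Subgroup G, ∀ g : G,
    g ∈ T ↔ g ∈ Subgroup.normalizer (D : Set G) ∧ ∀ θ ∈ b, ∀ θ' : IrrCharacter ↥(D ⊔ Subgroup.centralizer (D : Set G)),
      (∀ h h' : ↥(D ⊔ Subgroup.centralizer (D : Set G)), (h' : G) = g * h * g⁻¹ → (θ' : _ → ℂ) h' = (θ : _ → ℂ) h) →
        θ' ∈ b := by
  let S : Submonoid G :=
    { carrier := {g | g ∈ Subgroup.normalizer (D : Set G) ∧ ∀ θ ∈ b,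
        ∀ θ' : IrrCharacter ↥(D ⊔ Subgroup.centralizer (D : Set G)),
          (∀ h h' : ↥(D ⊔ Subgroup.centralizer (D : Set G)), (h' : G) = g * h * g⁻¹ → (θ' : _ → ℂ) h' = (θ : _ → ℂ) h) →
            θ' ∈ b}
      one_mem' := ⟨one_mem _, fun θ hθ θ' h => (Subtype.ext (funext fun x => h x x (by group)) : θ' = θ) ▸ hθ⟩
      mul_mem' := by
        rintro a c ⟨ha, ha'⟩ ⟨hc, hc'⟩
        refine ⟨mul_mem ha hc, fun θ hθ θ' h => ?_⟩
        have h0 := isCj_cjIso c _ _ (map_root_conj (Subgroup.mem_normalizer_iff_map_conj_eq.1 hc))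
        set e := cjIso c _ _ (map_root_conj (Subgroup.mem_normalizer_iff_map_conj_eq.1 hc))
        refine ha' (tr e θ) (hc' θ hθ _ fun x x' hx => ?_) θ' fun x x' hx => ?_
        · rw [← tr_apply_map e θ x, (Subtype.ext (hx.trans (h0 x).symm) : x' = e x)]
        · rw [tr_apply]
          refine h _ x' ?_
          rw [h0.symm x, hx]
          group }
  exact ⟨{ S with
    inv_mem' := fun {g} hg => by
      have h1 : g⁻¹ = g ^ (orderOf g - 1) := by
        rw [inv_eq_iff_mul_eq_one, ← pow_succ', Nat.sub_add_cancel (orderOf_pos g), pow_orderOf_eq_one]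
      rw [h1]
      exact S.pow_mem hg _ }, fun _ => Iff.rfl⟩

omit [Finite G] in
theorem comm {z : G} (hz : z ∈ Zn D) : ∀ w ∈ D, z * w = w * z := fun w hw => (hz.2 w hw).symm

/-- the lower bound -/
theorem lower (hM : IsPModular 3 M) (hD : IsDefectGroup 3 M B D)
    {b : Set (IrrCharacter ↥(D ⊔ Subgroup.centralizer (D : Set G)))}
    (f : ∀ z ∈ Zn D, Set (IrrCharacter (Subgroup.centralizer ({z} : Set G))))
    (hf1 : ∀ z hz, IsInducedBlockIn M (Subgroup.centralizer ({z} : Set G)) (D ⊔ Subgroup.centralizer (D : Set G)) b (f z hz))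
    (hf2 : ∀ z hz, IsInducedBlock M (Subgroup.centralizer ({z} : Set G)) (f z hz) B)
    (hf4 : ∀ z hz, blockDefect 3 (f z hz) = blockDefect 3 B) {χ : IrrCharacter G} (hχ : χ ∈ B) {k : ℕ}
    (hpos : 0 < blockHeight 3 B (χ : G → ℂ)) (hk : k + blockHeight 3 B (χ : G → ℂ) = blockDefect 3 B)
    {W : Subgroup G} [Fintype W] (hW : W ≤ Zn D) :
    (3 : ℝ) * Nat.card W ≤ 3 ^ k * ∑ z : W, cn 3 (z : G) (f z (hW z.2)) (χ : G → ℂ) := by
  have : Fact (Nat.Prime 3) := ⟨Nat.prime_three⟩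
  have := Fintype.ofFinite G
  obtain ⟨N, hN⟩ := IsPGroup.iff_card.1 ((Blocks.Basic.isPGroup_of_isDefectGroup hD).to_le (hW.trans inf_le_left))
  have h1 : ∀ z : W, (z : G) ^ 3 ^ (N + 1) = 1 := fun z => by
    have h2 : z ^ 3 ^ N = 1 := hN ▸ pow_card_eq_one'
    rw [pow_succ, pow_mul, ← Subgroup.coe_pow, h2, Subgroup.coe_one, one_pow]
  have h2 : ∀ m j : ℕ, (3 ^ j).Coprime (1 + 3 * m) := fun m j =>
    ((Nat.Prime.coprime_iff_not_dvd Nat.prime_three).2 (by omega)).pow_left j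
  have h3 : ∀ m : ℕ, ∑ z : W, cn 3 ((z : G) ^ (1 + 3 * m)) (f z (hW z.2)) (χ : G → ℂ) =
      ∑ z : W, cn 3 (z : G) (f z (hW z.2)) (χ : G → ℂ) := fun m =>
    Fintype.sum_equiv (powCoprime (hN ▸ h2 m N)) _ _ fun z => cn_congr hM rfl
      (Blocks.GaloisConj.centralizer_pow_eq (h1 z) (h2 m _).symm).symm
      (root_le_centralizer (hW z.2).1 (comm (hW z.2))) (hf1 _ _) (hf1 _ _) _
  have h4 := sum_le_sum fun (z : W) (_ : z ∈ univ) =>
    have := Fintype.ofFinite (Subgroup.centralizer ({(z : G)} : Set G))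
    avg hM (h1 z) rfl (hf2 z (hW z.2)) (hf4 z _) hχ hpos hk
  rw [sum_const, ← mul_sum, sum_comm, sum_congr rfl fun m _ => h3 m, sum_const, card_univ, card_range,
    ← Nat.card_eq_fintype_card, nsmul_eq_mul, nsmul_eq_mul] at h4
  push_cast at h4
  refine le_of_mul_le_mul_left (a := 3 ^ N) ?_ (by positivity)
  linarith

theorem card_lt (hM : IsPModular 3 M) (hB : IsPBlock M B) (hD : IsDefectGroup 3 M B D) (hC : Cy ⊤ D)
    {χ : IrrCharacter G} (hχ : χ ∈ B) {k : ℕ} (hpos : 0 < blockHeight 3 B (χ : G → ℂ))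
    (hk : k + blockHeight 3 B (χ : G → ℂ) = blockDefect 3 B) : Nat.card (Zn D) < 3 ^ k := by
  classical
  have : Fact (Nat.Prime 3) := ⟨Nat.prime_three⟩
  have := Fintype.ofFinite G
  have hDp := Blocks.Basic.isPGroup_of_isDefectGroup hD
  obtain ⟨Q, hQ, hQc, hQ3, hQn⟩ := hC
  obtain ⟨b, hbD, hb⟩ := (S0973.result 3 M hM B hB D hD).1
  obtain ⟨T, hT⟩ := exists_stab b
  choose f hf1 hf2 hf3 hf4 using fun z (hz : z ∈ Zn D) => exists_major hM hD hz.1 (comm hz) hb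
  have hTn : (D ⊔ Subgroup.centralizer (D : Set G)).subgroupOf T |>.Normal :=
    Subgroup.normal_subgroupOf_of_le_normalizer fun t ht =>
      mem_normalizer_of_map_eq (map_root_conj (Subgroup.mem_normalizer_iff_map_conj_eq.1 ((hT t).1 ht).1))
  have hA : Act T (Zn D) Q ((D ⊔ Subgroup.centralizer (D : Set G)).relIndex T) :=
    ⟨(S4437.result 3 M hM D hDp _ rfl b hb.1 hbD B hb T hT).1 hD, hQ, hDp.to_le inf_le_left, hQc, hQ3,
      fun t ht => hQn t trivial ((hT t).1 ht).1, fun t ht a ha => mul_inv_eq_iff_eq_mul.2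
        (Subgroup.mem_centralizer_singleton_iff.1 (root_le_centralizer ha.1 (comm ha)
          (Subgroup.mem_subgroupOf.1 (Subgroup.pow_index_mem _ (⟨t, ht⟩ : T)))))⟩
  have h1 := sum_major_le hM (fam (Zn D) Q) (fun i => by
      obtain ⟨j, hj⟩ := IsPGroup.iff_orderOf.1 hDp ⟨_, (hA.fam_mem i).1⟩
      exact ⟨j, by rw [← hj, ← Subgroup.orderOf_coe]⟩)
    (fun i => f _ (hA.fam_mem i)) (fun i => (hf2 _ _).1) (e := 4) (fun i => hA.card_le (hA.fam_mem i) (by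
      rintro j ⟨x, ε, hε, hx, hεf⟩
      obtain ⟨t, ht, htN, htb⟩ := fuse hM rfl rfl rfl (hA.fam_mem i).1 (comm (hA.fam_mem i)) (hf1 _ _) (hf3 _ _)
        (le_centralizer_of_mem_center (comm (hA.fam_mem j))) (hf1 _ _) (hf3 _ _) x hx hε hεf
      exact ⟨t, (hT t).2 ⟨htN, htb⟩, ht⟩)) χ
  rw [Fintype.sum_option, Fintype.sum_sum_type] at h1
  have h2 := lower hM hD f hf1 hf2 hf4 hχ hpos hk le_rfl
  have h3 := lower hM hD f hf1 hf2 hf4 hχ hpos hk hQ
  have h4 := lower hM hD f hf1 hf2 hf4 hχ hpos hk bot_le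
  rw [Subgroup.card_bot, Fintype.sum_subsingleton _ 1] at h4
  have h5 := mul_le_mul_of_nonneg_left h1 (show (0 : ℝ) ≤ 3 ^ k by positivity)
  rw [mul_add, mul_add] at h5
  have h6 : (3 : ℝ) * (1 : ℕ) + (3 * Nat.card (Zn D) + 3 * Nat.card Q) ≤ 3 ^ k * (4 : ℕ) :=
    (add_le_add h4 (add_le_add h2 h3)).trans h5
  have h7 : 3 * 1 + (3 * Nat.card (Zn D) + 3 * Nat.card Q) ≤ 3 ^ k * 4 := by exact_mod_cast h6
  omega

end Cfsg.Agent.RC.B.Cyc

namespace Cfsg.Agent.RC.B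

open Cfsg.Agent.KM.Mu

/-- **[CYC]** -/
theorem boxCyc : BoxCyc := by
  intro K _ _ M B D hM hB hD ha hC χ hχ
  have : Fact (Nat.Prime 3) := ⟨Nat.prime_three⟩
  refine (rob_iff fun h1 => ha (KM.BK.ab_iff.1 h1)).2 ?_
  rcases Nat.eq_zero_or_pos (blockHeight 3 B (χ : K → ℂ)) with h0 | h0
  · exact sm_of_height hM hB hD hχ h0
  intro W hW _
  have h1 := Cyc.card_lt hM hB hD hC hχ h0
    ((df_height hM hB hD hχ).trans (H592.Defect.factorization_card_defect 3 hM hB hD))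
  have h2 : Nat.card W ≤ Nat.card (Zn D) :=
    Subgroup.card_le_of_le fun w hw => ⟨hW.1 hw, fun d hd => (hW.2 w hw d hd).symm⟩
  exact (Nat.pow_lt_pow_iff_right (by norm_num)).1
    ((Nat.le_of_dvd Nat.card_pos (Nat.ordProj_dvd _ 3)).trans_lt (h2.trans_lt h1))

end Cfsg.Agent.RC.B
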