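import Mathlib
import Cfsg.Agent.Blocks.Local
import Cfsg.Agent.H234.HT.LemB

/-!
# RC (S4576), box CYC : arithmetic (helper35)
-/

set_option autoImplicit false

open Cfsg
open scoped ComplexConjugate

namespace Cfsg.Agent.RC.B.Cyc

open Cfsg.Agent.Blocks.Local Polynomial Finset

theorem exists_aeval {N h : ℕ} {ζ y : ℂ} (hζ : IsPrimitiveRoot ζ (3 ^ N)) (hy : IsIntegral ℤ y) {P : ℤ[X]}
    (hP : aeval ζ P = 3 ^ h * y) : ∃ Q : ℤ[X], aeval ζ Q = y := by
  have : Fact (Nat.Prime 3) := ⟨Nat.prime_three⟩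
  induction h generalizing P with
  | zero => exact ⟨P, by rw [hP, pow_zero, one_mul]⟩
  | succ h ih =>
    obtain ⟨Q, hQ⟩ := H234.HT.exists_poly hζ (P := P) (z := 3 ^ h * y)
      (((isIntegral_algebraMap (R := ℤ) (x := 3)).pow h).mul hy) (by rw [hP]; push_cast; ring)
    exact ih hQ

/-- the integral basis -/
theorem dvd_coef {N e : ℕ} {ζ y : ℂ} (hζ : IsPrimitiveRoot ζ (3 ^ (N + 1))) (a b : ℕ → ℤ)
    (hy : IsIntegral ℤ y) (h : ∑ r ∈ range (3 ^ N), ζ ^ r * (a r + b r * ζ ^ 3 ^ N) = 3 ^ e * y) {r : ℕ}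
    (hr : r < 3 ^ N) : 3 ^ e ∣ a r ∧ 3 ^ e ∣ b r := by
  set m : ℤ := 3 ^ e with hm
  set P : ℤ[X] := ∑ r ∈ range (3 ^ N), (monomial r (a r) + monomial (r + 3 ^ N) (b r)) with hP
  have h1 : ∀ j, P.coeff j = ∑ r ∈ range (3 ^ N), ((if r = j then a r else 0) + if r + 3 ^ N = j then b r else 0) := by
    intro j
    simp only [hP, finset_sum_coeff, coeff_add, coeff_monomial]
  have h2 : aeval ζ P = 3 ^ e * y := by
    rw [← h, hP, map_sum]
    refine sum_congr rfl fun r _ => ?_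
    simp only [map_add, aeval_monomial, eq_intCast, pow_add]
    ring
  obtain ⟨Q, hQ⟩ := exists_aeval hζ hy h2
  have hpos : 0 < 3 ^ (N + 1) := by positivity
  have h3 : cyclotomic (3 ^ (N + 1)) ℤ ∣ P - C m * Q := by
    rw [cyclotomic_eq_minpoly hζ hpos]
    refine minpoly.isIntegrallyClosed_dvd (hζ.isIntegral hpos) ?_
    rw [map_sub, map_mul, h2, hQ, aeval_C, eq_intCast, hm]
    push_cast
    exact sub_self _
  have h4 : P.degree < (cyclotomic (3 ^ (N + 1)) ℤ).degree := by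
    rw [degree_cyclotomic, Nat.totient_prime_pow_succ Nat.prime_three, degree_lt_iff_coeff_zero]
    intro j hj
    rw [h1]
    refine sum_eq_zero fun r hr => ?_
    rw [mem_range] at hr
    rw [if_neg (by omega), if_neg (by omega), add_zero]
  have h5 := (modByMonic_eq_self_iff (cyclotomic.monic (3 ^ (N + 1)) ℤ)).2 h4
  rw [modByMonic_eq_of_dvd_sub (cyclotomic.monic _ ℤ) h3, ← smul_eq_C_mul, smul_modByMonic] at h5
  have h6 : ∀ j, m ∣ P.coeff j := fun j => by
    rw [← h5, coeff_smul]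
    exact dvd_mul_right _ _
  constructor
  · have h7 := h6 r
    rw [h1, sum_eq_single r (fun i hi hne => by
      rw [if_neg hne, if_neg (by omega), add_zero]) (fun h8 => absurd (mem_range.2 hr) h8), if_pos rfl,
      if_neg (by omega), add_zero] at h7
    exact h7
  · have h7 := h6 (r + 3 ^ N)
    rw [h1, sum_eq_single r (fun i hi hne => by
      rw [mem_range] at hi
      rw [if_neg (by omega), if_neg (by omega), add_zero]) (fun h8 => absurd (mem_range.2 hr) h8), if_pos rfl,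
      if_neg (by omega), zero_add] at h7
    exact h7

/-- the Eisenstein integers -/
def Zw {ω : ℂ} (h : ω ^ 2 + ω + 1 = 0) : Subring ℂ where
  carrier := {x | ∃ a b : ℤ, x = a + b * ω}
  mul_mem' := by
    rintro _ _ ⟨a, b, rfl⟩ ⟨c, d, rfl⟩
    exact ⟨a * c - b * d, a * d + b * c - b * d, by push_cast; linear_combination (b * d : ℂ) * h⟩
  one_mem' := ⟨1, 0, by simp⟩
  add_mem' := by
    rintro _ _ ⟨a, b, rfl⟩ ⟨c, d, rfl⟩
    exact ⟨a + c, b + d, by push_cast; ring⟩
  zero_mem' := ⟨0, 0, by simp⟩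
  neg_mem' := by
    rintro _ ⟨a, b, rfl⟩
    exact ⟨-a, -b, by push_cast; ring⟩

section zw

variable {ω x : ℂ} (h : ω ^ 2 + ω + 1 = 0)

theorem self_mem : ω ∈ Zw h := ⟨0, 1, by simp⟩

include h in
theorem conj_eq : conj ω = -1 - ω := by
  have h1 : ω ^ 3 = 1 := by linear_combination (ω - 1) * h
  have h2 : ω * conj ω = 1 := by
    rw [Complex.mul_conj, Complex.normSq_eq_norm_sq, Complex.norm_eq_one_of_pow_eq_one h1 three_ne_zero]
    simp
  linear_combination ω ^ 2 * h2 - conj ω * h1 + h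

theorem conj_mem (hx : x ∈ Zw h) : conj x ∈ Zw h := by
  obtain ⟨a, b, rfl⟩ := hx
  exact ⟨a - b, -b, by simp only [map_add, map_mul, map_intCast, conj_eq h]; push_cast; ring⟩

theorem int_of_real (hx : x ∈ Zw h) (h1 : conj x = x) : ∃ n : ℤ, x = n := by
  obtain ⟨a, b, rfl⟩ := hx
  simp only [map_add, map_mul, map_intCast, conj_eq h] at h1
  have h2 : (b : ℂ) = 0 := by linear_combination ((1 + 2 * ω) / 3) * h1 + (4 * b / 3 : ℂ) * h
  exact ⟨a, by rw [h2, zero_mul, add_zero]⟩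

theorem one_le (hx : x ∈ Zw h) (h0 : x ≠ 0) : 1 ≤ Complex.normSq x := by
  obtain ⟨n, hn⟩ := int_of_real h (mul_mem hx (conj_mem h hx)) (by rw [map_mul, Complex.conj_conj, mul_comm])
  rw [Complex.mul_conj] at hn
  have h1 : Complex.normSq x = n := by exact_mod_cast hn
  have h2 := Complex.normSq_pos.2 h0
  rw [h1] at h2 ⊢
  exact_mod_cast h2

theorem isIntegral (hx : x ∈ Zw h) : IsIntegral ℤ x := by
  obtain ⟨a, b, rfl⟩ := hx
  have h1 : ω ^ 3 = 1 := by linear_combination (ω - 1) * h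
  exact (isIntegral_algebraMap (R := ℤ) (x := a)).add ((isIntegral_algebraMap (R := ℤ) (x := b)).mul
    (IsIntegral.of_pow (n := 3) three_pos (h1 ▸ isIntegral_one)))

end zw

section three

variable {M : Ideal AlgInt} {ι κ : Type*} [Fintype ι]

theorem three_le' (hM : IsPModular 3 M) (S : Finset κ) (v : κ → ι → ℂ) {s : ℝ} (hs : 0 < s) (hne : ∀ i ∈ S, v i ≠ 0)
    (ha : ∀ i ∈ S, ∀ η, MemLocalRing M (s * v i η))
    (hb : ∀ i ∈ S, ∃ n : ℤ, s * ∑ η, Complex.normSq (v i η) = n)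
    (hb' : ∀ i ∈ S, ∀ j ∈ S, s * ∑ η, v i η * conj (v j η) ≠ 0 → 1 ≤ Complex.normSq (s * ∑ η, v i η * conj (v j η)))
    (hc : ∀ j ∈ S, MemLocalIdeal M (∑ i ∈ S, s * ∑ η, v i η * conj (v j η)))
    (hd : ∃ η, ¬ MemLocalIdeal M (s * ∑ i ∈ S, v i η)) :
    3 ≤ ∑ i ∈ S, s * ∑ η, Complex.normSq (v i η) := by
  classical
  have := isPrime_of_isPModular hM
  choose! n hn using hb
  have h1 : ∀ i ∈ S, 1 ≤ n i := fun i hi => by
    obtain ⟨η, hη⟩ := Function.ne_iff.1 (hne i hi)
    have h2 : (0 : ℝ) < n i := hn i hi ▸ mul_pos hs (sum_pos' (fun _ _ => Complex.normSq_nonneg _)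
      ⟨η, mem_univ _, Complex.normSq_pos.2 hη⟩)
    exact_mod_cast h2
  have h2 : ∀ i ∈ S, (s : ℂ) * ∑ η, v i η * conj (v i η) = n i := fun i hi => by
    simp only [Complex.mul_conj]
    exact_mod_cast hn i hi
  rw [sum_congr rfl hn]
  obtain ⟨η₀, h0⟩ := hd
  suffices h : (3 : ℤ) ≤ ∑ i ∈ S, n i by exact_mod_cast h
  by_contra hlt
  have h3 : (S.card : ℤ) ≤ ∑ i ∈ S, n i := by simpa using card_nsmul_le_sum S n 1 h1
  obtain h4 | h4 | h4 : S.card = 0 ∨ S.card = 1 ∨ S.card = 2 := by omega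
  · rw [card_eq_zero.1 h4, sum_empty, mul_zero] at h0
    exact h0 memLocalIdeal_zero
  · obtain ⟨i, rfl⟩ := card_eq_one.1 h4
    have h5 := hc i (mem_singleton_self i)
    rw [sum_singleton, h2 i (mem_singleton_self i), memLocalIdeal_intCast_iff hM] at h5
    have h6 := h1 i (mem_singleton_self i)
    rw [sum_singleton] at hlt
    omega
  · obtain ⟨i, j, hij, rfl⟩ := card_eq_two.1 h4
    have hi : i ∈ ({i, j} : Finset κ) := by simp
    have hj : j ∈ ({i, j} : Finset κ) := by simp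
    have h5 := hc i hi
    have h6 := h1 i hi
    have h7 := h1 j hj
    have h8 := hn j hj
    have h9 := h2 i hi
    rw [sum_pair hij] at hlt h5 h0
    rw [show n j = 1 by omega] at h8
    rw [show n i = 1 by omega, Int.cast_one] at h9
    rw [h9] at h5
    set x : ℂ := s * ∑ η, v j η * conj (v i η) with hx
    have h10 := hb' j hj i hi fun h => by
      rw [← hx] at h
      rw [h, add_zero] at h5
      exact not_memLocalIdeal_one h5
    rw [← hx] at h10
    have h11 : ((s * ∑ η, Complex.normSq (v j η - x * v i η) : ℝ) : ℂ) = (1 - Complex.normSq x : ℝ) := by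
      have h12 : (s : ℂ) * ∑ η, v j η * conj (v j η) = 1 := by
        simp only [Complex.mul_conj]
        exact_mod_cast h8
      have h13 : (s : ℂ) * ∑ η, v i η * conj (v j η) = conj x := by
        simp only [hx, map_mul, map_sum, Complex.conj_ofReal, Complex.conj_conj, mul_comm]
      have h14 : ∑ η, (v j η - x * v i η) * conj (v j η - x * v i η) = ∑ η, v j η * conj (v j η) -
          conj x * ∑ η, v j η * conj (v i η) - x * ∑ η, v i η * conj (v j η) +
          x * conj x * ∑ η, v i η * conj (v i η) := by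
        simp only [mul_sum, ← sum_sub_distrib, ← sum_add_distrib, map_sub, map_mul]
        exact sum_congr rfl fun η _ => by ring
      push_cast
      simp only [← Complex.mul_conj]
      rw [h14]
      linear_combination h12 - x * h13 + x * conj x * h9 + conj x * hx
    have h12 : s * ∑ η, Complex.normSq (v j η - x * v i η) = 1 - Complex.normSq x := by exact_mod_cast h11
    have h13 : ∑ η, Complex.normSq (v j η - x * v i η) = 0 :=
      le_antisymm (nonpos_of_mul_nonpos_right (by linarith) hs |> fun h => h) (sum_nonneg fun _ _ => Complex.normSq_nonneg _)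
    have h14 := (sum_eq_zero_iff_of_nonneg fun _ _ => Complex.normSq_nonneg _).1 h13 η₀ (mem_univ _)
    rw [Complex.normSq_eq_zero, sub_eq_zero] at h14
    refine h0 ?_
    convert memLocalIdeal_mul_right h5 (ha i hi η₀) using 1
    rw [h14]
    ring

theorem three_le (hM : IsPModular 3 M) (S : Finset κ) (v : κ → ι → ℂ) {s : ℝ} (hs : 0 < s)
    (ha : ∀ i ∈ S, ∀ η, MemLocalRing M (s * v i η))
    (hb : ∀ i ∈ S, ∃ n : ℤ, s * ∑ η, Complex.normSq (v i η) = n)
    (hb' : ∀ i ∈ S, ∀ j ∈ S, s * ∑ η, v i η * conj (v j η) ≠ 0 → 1 ≤ Complex.normSq (s * ∑ η, v i η * conj (v j η)))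
    (hc : ∀ j ∈ S, MemLocalIdeal M (∑ i ∈ S, s * ∑ η, v i η * conj (v j η)))
    (hd : ∃ η, ¬ MemLocalIdeal M (s * ∑ i ∈ S, v i η)) :
    3 ≤ ∑ i ∈ S, s * ∑ η, Complex.normSq (v i η) := by
  classical
  have h := three_le' hM (S.filter fun i => v i ≠ 0) v hs (fun i hi => (mem_filter.1 hi).2)
    (fun i hi => ha i (mem_filter.1 hi).1) (fun i hi => hb i (mem_filter.1 hi).1)
    (fun i hi j hj => hb' i (mem_filter.1 hi).1 j (mem_filter.1 hj).1) (fun j hj => by
      rw [sum_filter_of_ne (p := fun i => v i ≠ 0) fun i _ h h1 => h (by simp [h1])]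
      exact hc j (mem_filter.1 hj).1) (by
      obtain ⟨η, hη⟩ := hd
      refine ⟨η, ?_⟩
      rwa [sum_filter_of_ne (p := fun i => v i ≠ 0) fun i _ h h1 => h (by simp [h1])])
  rwa [sum_filter_of_ne (p := fun i => v i ≠ 0) fun i _ h h1 => h (by simp [h1])] at h

end three

/-- Parseval -/
theorem parseval {K : ℕ} {θ : ℂ} (hθ : IsPrimitiveRoot θ K) (v : ℕ → ℂ) :
    ∑ m ∈ range K, Complex.normSq (∑ r ∈ range K, (θ ^ r) ^ m * v r) = K * ∑ r ∈ range K, Complex.normSq (v r) := by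
  rcases Nat.eq_zero_or_pos K with rfl | hK
  · simp
  have h0 : θ * conj θ = 1 := by
    rw [Complex.mul_conj, Complex.normSq_eq_norm_sq, Complex.norm_eq_one_of_pow_eq_one hθ.pow_eq_one hK.ne']
    simp
  have h1 : ∀ r ∈ range K, ∀ r' ∈ range K, ∑ m ∈ range K, (θ ^ r * conj θ ^ r') ^ m = if r = r' then (K : ℂ) else 0 := by
    intro r hr r' hr'
    split_ifs with h
    · rw [h, ← mul_pow, h0]
      simp
    · have h2 : θ ^ r * conj θ ^ r' - 1 ≠ 0 := fun h2 => h (hθ.pow_inj (mem_range.1 hr) (mem_range.1 hr') (by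
        have h3 : (θ * conj θ) ^ r' = 1 := by rw [h0, one_pow]
        rw [mul_pow] at h3
        linear_combination θ ^ r' * h2 - θ ^ r * h3))
      refine mul_right_cancel₀ h2 ?_
      rw [geom_sum_mul, mul_pow, ← pow_mul, ← pow_mul, mul_comm r, mul_comm r', pow_mul, pow_mul, ← map_pow,
        hθ.pow_eq_one]
      simp
  have h2 : ∑ m ∈ range K, (∑ r ∈ range K, (θ ^ r) ^ m * v r) * conj (∑ r ∈ range K, (θ ^ r) ^ m * v r) =
      K * ∑ r ∈ range K, v r * conj (v r) := by
    simp only [map_sum, sum_mul_sum]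
    rw [sum_comm, mul_sum]
    refine sum_congr rfl fun r hr => ?_
    have h3 := sum_eq_single_of_mem (f := fun r' => (if r = r' then (K : ℂ) else 0) * (v r * conj (v r'))) r hr
      fun r' _ h => by rw [if_neg h.symm, zero_mul]
    rw [if_pos rfl] at h3
    rw [sum_comm, ← h3]
    refine sum_congr rfl fun r' hr' => ?_
    rw [← h1 r hr r' hr', sum_mul]
    exact sum_congr rfl fun m _ => by simp only [map_mul, map_pow, mul_pow]; ring
  simp only [Complex.mul_conj] at h2
  exact_mod_cast h2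

end Cfsg.Agent.RC.B.Cyc
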