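import Cfsg.Agent.KM.Tor.K0

/-!
# RC (S4576): isolated elements, the finite checks (helper12)
-/

set_option autoImplicit false
set_option maxRecDepth 100000

namespace Cfsg.Agent.RC.B.Nf

open Cfsg Cfsg.Lie Matrix Finset Cfsg.Agent.KM.Tor Cfsg.Agent.Nodes.RGDChev Cfsg.Agent.Tits.Roots
  Cfsg.Agent.ChevalleyStructure.CoxeterGeomTypes

/-- the rows of `B` are a base of type `C'` of the Levi closure (up to a component `A₁`) -/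
def Ck (C : ChevalleyDatum) (n : ℕ) (s : Finset (Fin n)) (C' : ChevalleyDatum) (r : ℕ) (i₀ : Fin r)
    (B : Matrix (Fin r) (Fin n) ℤ) : Prop :=
  (∀ i j, B i ⬝ᵥ co C n (B j) = cartanOf C' r j i) ∧
  (∀ t' : Fin C'.nroots, ∃ t : Fin C.nroots, vec C n t = vec C' r t' ᵥ* B ∧ LS C n s (vec C n t) ∧
    (RS C n s (vec C n t) ↔ 3 ∣ vec C' r t' i₀)) ∧
  ∀ t : Fin C.nroots, LS C n s (vec C n t) → (∃ t' : Fin C'.nroots, vec C n t = vec C' r t' ᵥ* B) ∨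
    (RS C n s (vec C n t) ∧ (∀ i, vec C n t ⬝ᵥ co C n (B i) = 0) ∧
      ∀ t₁ : Fin C.nroots, LS C n s (vec C n t₁) → vec C n t ⬝ᵥ co C n (vec C n t₁) ≠ -1)

instance Ck.dec (C : ChevalleyDatum) (n : ℕ) (s : Finset (Fin n)) (C' : ChevalleyDatum) (r : ℕ) (i₀ : Fin r)
    (B : Matrix (Fin r) (Fin n) ℤ) : Decidable (Ck C n s C' r i₀ B) := by unfold Ck; infer_instance

/-- no component `A₁` -/
def Nb (C : ChevalleyDatum) (n : ℕ) : Prop := ∀ s : Fin C.nroots, ∃ t : Fin C.nroots, vec C n s ⬝ᵥ co C n (vec C n t) = -1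

instance Nb.dec (C : ChevalleyDatum) (n : ℕ) : Decidable (Nb C n) := by unfold Nb; infer_instance

theorem nb6 : Nb chevE6 6 := by decide +kernel

theorem nb7 : Nb chevE7 7 := by decide +kernel

theorem nb8 : Nb chevE8 8 := by decide +kernel

theorem ck_one {C : ChevalleyDatum} {n : ℕ} {i : Fin n} (h1 : ∀ i j, sr i ⬝ᵥ co C n (sr j) = cartanOf C n j i)
    (h2 : ∀ t : Fin C.nroots, RS C n {i} (vec C n t) ↔ 3 ∣ vec C n t i) : Ck C n {i} C n i 1 := by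
  have e : ∀ i : Fin n, (1 : Matrix (Fin n) (Fin n) ℤ) i = sr i := fun i => funext fun j => by
    by_cases h : i = j
    · rw [h, one_apply_eq, sr_self]
    · rw [one_apply_ne h, sr_ne (Ne.symm h)]
  refine ⟨fun i j => by rw [e, e, h1], fun t => ⟨t, (vecMul_one _).symm, fun a ha b hb => ?_, h2 t⟩,
    fun t _ => .inl ⟨t, (vecMul_one _).symm⟩⟩
  rw [mem_singleton.1 ha, mem_singleton.1 hb]

theorem ck6 : Ck chevE6 6 {3} chevE6 6 3 1 := ck_one (by decide +kernel) (by decide +kernel)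

theorem ck7a : Ck chevE7 7 {4} chevE7 7 4 1 := ck_one (by decide +kernel) (by decide +kernel)

theorem ck8a : Ck chevE8 8 {1} chevE8 8 1 1 := ck_one (by decide +kernel) (by decide +kernel)

theorem ck8e : Ck chevE8 8 {6} chevE8 8 6 1 := ck_one (by decide +kernel) (by decide +kernel)

theorem ck7b : Ck chevE7 7 {2} chevE7 7 4 !![0, -1, 0, 0, 0, 0, 0; 0, 0, 0, 0, -1, 0, 0; 0, 0, 0, -1, -1, -1, 0;
    0, 0, 0, 0, 1, 1, 0; 0, 1, 1, 2, 1, 0, 0; 1, 0, 0, 0, 0, 0, 0; -2, -2, -3, -4, -3, -2, -1] := by decide +kernel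

theorem ck7c : Ck chevE7 7 {2, 4} chevE6 6 3 !![-1, 0, 0, 0, 0, 0, 0; 0, -1, 0, 0, 0, 0, 0; -1, -2, -3, -4, -3, -2, -1;
    1, 2, 2, 3, 2, 1, 0; 0, 0, 0, 0, 0, 0, 1; 0, 0, 0, 0, 0, 1, 0] := by decide +kernel

theorem ck8b : Ck chevE8 8 {1, 3} chevE7 7 4 !![0, 0, 0, 0, -1, 0, 0, 0; 0, 0, 0, 0, 0, 0, -1, 0; 0, 0, 0, 0, 0, -1, -1, -1;
    0, 0, 0, 0, 0, 0, 1, 1; 0, 1, 1, 2, 2, 2, 1, 0; 1, 0, 0, 0, 0, 0, 0, 0; 0, 0, 1, 0, 0, 0, 0, 0] := by decide +kernel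

theorem ck8c : Ck chevE8 8 {1, 6} chevE7 7 4 !![-1, 0, 0, 0, 0, 0, 0, 0; 0, 0, 0, -1, 0, 0, 0, 0; 0, 0, -1, -1, -1, 0, 0, 0;
    0, 0, 0, 1, 1, 0, 0, 0; 1, 1, 2, 2, 1, 1, 1, 0; 0, 0, 0, 0, 0, 0, 0, 1; -2, -3, -4, -6, -5, -4, -3, -2] := by decide +kernel

theorem ck8d : Ck chevE8 8 {3, 6} chevE6 6 3 !![-1, 0, 0, 0, 0, 0, 0, 0; 0, 0, 0, 0, -1, 0, 0, 0; 0, 0, -1, 0, 0, 0, 0, 0;
    1, 1, 2, 2, 2, 1, 1, 0; 0, 0, 0, 0, 0, 0, 0, 1; -2, -3, -4, -6, -5, -4, -3, -2] := by decide +kernel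

theorem ck8f : Ck chevE8 8 {1, 3, 6} chevE6 6 3 !![-1, 0, 0, 0, 0, 0, 0, 0; 0, 0, 0, 0, -1, 0, 0, 0; 0, 0, -1, 0, 0, 0, 0, 0;
    1, 1, 2, 2, 2, 1, 1, 0; 0, 0, 0, 0, 0, 0, 0, 1; -2, -3, -4, -6, -5, -4, -3, -2] := by decide +kernel

theorem supp6 : ∀ s : Finset (Fin 6), s.Nonempty → (∀ i ∈ s, ((3 : ℕ) : ℤ) ∣ H931.KC.hr chevE6 6 i) → s = {3} := by
  decide +kernel

theorem supp7 : ∀ s : Finset (Fin 7), s.Nonempty → (∀ i ∈ s, ((3 : ℕ) : ℤ) ∣ H931.KC.hr chevE7 7 i) →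
    s = {4} ∨ s = {2} ∨ s = {2, 4} := by
  decide +kernel

end Cfsg.Agent.RC.B.Nf
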