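import Cfsg.Agent.RC.B.Ln

/-!
# RC, `l = 3`: the centre of a component of type `A₂`, `boxPK_of` (helper57)
-/

set_option autoImplicit false
set_option linter.unusedSectionVars false

namespace Cfsg.Agent.RC.B

open Cfsg Cfsg.Lie Cfsg.Agent.DL Cfsg.Agent.Nodes.Reps Matrix Subgroup Cfsg.Agent.KM.Ht Cfsg.Agent.KM.Tor
open Cfsg.Agent.Nodes.BNOf Cfsg.Agent.KM.Tor.TW

namespace Ln

variable {p : ℕ} [Fact p.Prime] {k : Type} [Field k] [CharP k p] {Y : Type} [Group Y] {N : Type} [Fintype N]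
  [DecidableEq N] {ρ : Y →* GL N k} {F : MulAut Y} {G : Subgroup Y} [IsAlgClosed k] {X : Datum p ρ F G}
  {a b c : X.I → ℤ} {Ψ : Set (X.I → ℤ)} {ω : kˣ} {t x n : Y}

theorem Zc_cen (h0 : ∀ a ∈ Ψ, X.Rt a) (ht : t ∈ Zc X Ψ) {g : Y} (hg : g ∈ X.T ⊔ X.S Ψ) : g * t = t * g :=
  (X.cen_le_centralizer (Set.singleton_subset_iff.2 ht.1) (sup_le (X.T_le_cen _) ((RGD.Sup_mono
    (show Ψ ⊆ X.Sz {t} from fun a ha => ⟨h0 a ha, fun _ e => e ▸ ht.2 a ha⟩)).trans (X.S_le_cen {t})) hg) t rfl).symm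

theorem Zc_anti {Ψ' : Set (X.I → ℤ)} (h : Ψ ⊆ Ψ') : Zc X Ψ' ≤ Zc X Ψ := fun _ ht => ⟨ht.1, fun a ha => ht.2 a (h ha)⟩

theorem mu_comm (ht : t ∈ mu X) {g : Y} (hg : g ∈ G) : g * t = t * g :=
  Zc_cen (fun _ h => h) ht.1 (X.G_eq.ge hg)

theorem mem_Zc_A2 (ht : t ∈ X.T) (ha : X.χ a t = 1) (hb : X.χ b t = 1) : t ∈ Zc X (A2 X a b) := ⟨ht, by
  rintro c (rfl | rfl | rfl | rfl | rfl | rfl) <;> simp only [X.χ_neg, X.χ_add, ha, hb, mul_one, inv_one]⟩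

theorem zc_T (a b : X.I → ℤ) (ω : kˣ) : zc X a b ω ∈ X.T := X.τ_mem _

theorem χ_zc (c a b : X.I → ℤ) (ω : kˣ) :
    X.χ c (zc X a b ω) = (ω ^ (X.wt c ⬝ᵥ (X.cor a - X.cor b)) : kˣ) := by
  rw [zc, X.χ_τ, chr_coch]
  rfl

theorem zc_cube (a b : X.I → ℤ) (hω : ω ^ 3 = 1) : zc X a b ω ^ 3 = 1 := by
  rw [zc, ← map_pow, ← map_pow, hω, map_one, map_one]

theorem χ_zc_eq_one (hω : orderOf ω = 3) :
    X.χ c (zc X a b ω) = 1 ↔ 3 ∣ X.wt c ⬝ᵥ (X.cor a - X.cor b) := by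
  rw [χ_zc, Units.val_eq_one, ← orderOf_dvd_iff_zpow_eq_one, hω]
  rfl

theorem zc_mem_A2 (h : Bs X a b) (hω : ω ^ 3 = 1) : zc X a b ω ∈ Zc X (A2 X a b) := by
  have h3 : ω ^ (3 : ℤ) = 1 := (zpow_natCast ω 3).trans hω
  refine mem_Zc_A2 (zc_T a b ω) ?_ ?_ <;> rw [χ_zc, dotProduct_sub, Units.val_eq_one]
  · rw [h.ab, show X.wt a ⬝ᵥ X.cor a = 2 from pr_self h.ra]
    exact h3
  · rw [h.ba, show X.wt b ⬝ᵥ X.cor b = 2 from pr_self h.rb]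
    exact (zpow_neg ω 3).trans (by rw [h3, inv_one])

/-- the centre of a component is central -/
theorem zc_mem (h0 : ∀ a ∈ Ψ, X.Rt a) (h : Cmp X Ψ a b) (hω : ω ^ 3 = 1) : zc X a b ω ∈ Zc X Ψ :=
  ⟨zc_T a b ω, fun c hc => by
    by_cases e : c ∈ A2 X a b
    · exact (zc_mem_A2 (of_cmp h0 h) hω).2 c e
    · rw [χ_zc, dotProduct_sub, (h.orth c hc e).1, (h.orth c hc e).2, sub_zero, zpow_zero, Units.val_one]⟩

theorem zc_not_mem (hL : LA X) (h : Bs X a b) (hω : orderOf ω = 3) : zc X a b ω ∉ mu X := fun h1 =>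
  let ⟨c, hc, h2⟩ := (hL a b h.ra h.rb h.ab).2.2
  h2 ((χ_zc_eq_one hω).1 (h1.1.2 c hc))

/-- the rotation on the torus -/
theorem conj_rot' (h : Bs X a b) (hn : X.Rp (X.rf a * X.rf b) n) (c : X.R → kˣ) : n * X.τ c * n⁻¹ =
    X.τ (c * (coch (X.cor b) (chr (X.wt b) c))⁻¹ * (coch (X.cor a) (chr (X.wt (a + b)) c))⁻¹) := by
  obtain ⟨m, hm, -⟩ := X.exists_rp (X.rf a)
  obtain ⟨m', hm', -⟩ := X.exists_rp (X.rf b)
  rw [X.conj_τ hn, ← X.conj_τ (hm.mul hm'), show m * m' * X.τ c * (m * m')⁻¹ = m * (m' * X.τ c * m'⁻¹) * m⁻¹ by group,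
    X.conj_τ_rf h.rb hm', X.conj_τ_rf h.ra hm, map_mul (chr (k := k) _), map_inv (chr (k := k) _), chr_coch,
    show ∑ j, X.wt a j * X.cor b j = -1 from h.ab, _root_.zpow_neg_one, inv_inv, map_add, chr_add]

/-- the rotation moves a regular element by the centre -/
theorem conj_rot (h : Bs X a b) (hn : X.Rp (X.rf a * X.rf b) n) (hx : x ∈ X.T) (ha : X.χ a x = ω) (hb : X.χ b x = ω)
    (hω : ω ^ 3 = 1) : n * x * n⁻¹ = x * zc X a b ω := by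
  obtain ⟨c, rfl⟩ := (X.mem_T x).1 hx
  rw [X.χ_τ, Units.val_inj] at ha hb
  rw [conj_rot' h hn, map_add, chr_add, ha, hb, zc, ← map_mul X.τ, sub_eq_add_neg, coch_add, coch_neg,
    ← map_inv (coch (k := k) (X.cor a)), inv_eq_of_mul_eq_one_right (show ω * ω * ω = 1 from (pow_three' ω).symm.trans hω),
    mul_assoc, mul_comm _ (coch _ ω)]

/-- the common value of a regular element -/
theorem exists_om (hx : x ∈ X.T) (h1 : x ∉ Zc X (A2 X a b)) (h2 : x ^ 3 ∈ Zc X (A2 X a b)) (h : X.χ a x = X.χ b x) :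
    ∃ ω : kˣ, orderOf ω = 3 ∧ X.χ a x = ω ∧ X.χ b x = ω := by
  refine ⟨Units.mk0 _ (X.χ_ne_zero a x), orderOf_eq_prime (Units.ext ?_) fun e => ?_, rfl, h.symm⟩
  · have h3 := h2.2 a (.inl rfl)
    rwa [TO.X.Cn.χ_pow X a hx] at h3
  · have h3 : X.χ a x = 1 := congrArg Units.val e
    exact h1 (mem_Zc_A2 hx h3 (h ▸ h3))

end Ln

open Ln

/-- **[PK]** -/
theorem boxPK_of (hT : BoxTri) (hS : BoxSyl) (hF : BoxFr) : BoxPK := by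
  intro p _ k _ _ Y _ N _ _ ρ F G _ X D S μ y Z a b x h hμ hZ h1 hc h2 hx hxT h3 h4 h5 hg
  have hb := of_cmp X.Sz_root hc
  have hL := (h.la a b hb.ra hb.rb hb.ab).1
  have hG : D ≤ G := fun d hd => (h.loc.le hd).1
  obtain ⟨e1, e2, e3⟩ := hT X D S Z a b x h.p3 h.sl h.loc.pg h.loc.le
    (hF X 3 D S Nat.prime_three h.p3 h.pi h.loc.pg hG h.can).2.2.1 hZ h1 hc hL h2 hx hxT h3 h4
    fun d hd z hz => mu_comm (hμ (h5 d hd)) (X.S_le_G hb.rt hz)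
  obtain ⟨n, n1, n2, n3⟩ := boxLn X a b hb.ra hb.rb hb.ab hb.ba hL (e3 hg)
  obtain ⟨ω, o1, o2, o3⟩ := exists_om hxT h3 h4 e1
  have o4 : ω ^ 3 = 1 := o1 ▸ pow_orderOf_eq_one ω
  have h6 : ∀ {g : Y}, g * zc X a b ω = zc X a b ω * g → g * zc X a b ω * g⁻¹ * (zc X a b ω)⁻¹ ∈ μ := fun e => by
    rw [e, mul_inv_cancel_right, mul_inv_cancel]
    exact one_mem _
  exact zc_not_mem h.la hb o1 (hμ (hS 3 Y (GF F G) D μ y x n _ Nat.prime_three (X.amb.finite_GF G) h.loc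
    (fun m hm g hg => (mu_comm (hμ hm) hg.1).symm) (h.loc.le hx) ⟨n3.mem_G, n2⟩
    (e2 y h.loc.mem.1 h.loc.comm h.loc.reg n n1) (conj_rot hb n3 hxT o2 o3 o4) ((zc_cube a b o4).symm ▸ one_mem _)
    (h6 (Zc_cen hb.rt (zc_mem_A2 hb o4) (mem_sup_right n1))) fun d hd =>
      ⟨h5 d hd, h6 (Zc_cen X.Sz_root (zc_mem X.Sz_root hc o4) (h2 d (.inl hd)))⟩))

end Cfsg.Agent.RC.B
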