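import Cfsg.Agent.RC.B.R8
import Cfsg.Agent.RC.B.A2KAll

/-!
# RC (S4576), [PL], the case `A₂⁴` in `E₈` (helper55)
-/

set_option autoImplicit false
set_option linter.unusedSectionVars false

namespace Cfsg.Agent.RC.B

open Cfsg Cfsg.Lie Cfsg.Agent.DL Cfsg.Agent.Nodes.Reps Matrix Subgroup Cfsg.Agent.KM.Ht Cfsg.Agent.KM.Tor
  Cfsg.Agent.KZ.DatX Cfsg.Agent.Nodes.RGDChev Cfsg.Agent.ChevalleyStructure.NPerm Cfsg.Agent.ChevalleyStructure.CoxeterGeom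
  Cfsg.Agent.ChevalleyStructure.CoxeterGeomTypes Cfsg.Agent.Tits.Roots
open Cfsg.Agent.KM.Tor.TW (pr pr_add pr_neg pr_self pr_act pr_smul pr_sub)
open Cfsg.Agent.TO.X.Cn (Pi1 χ_pow)

variable {p : ℕ} [Fact p.Prime] {k : Type} [Field k] [CharP k p] {Y : Type} [Group Y] {N : Type} [Fintype N]
  [DecidableEq N] {ρ : Y →* GL N k} {F : MulAut Y} {G : Subgroup Y} [IsAlgClosed k] {X : Datum p ρ F G}

namespace P8

theorem cnt : ∀ s ∈ ({1, 3, 6} : Finset (Fin 8)).powerset,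
    (Finset.univ.filter fun t : Fin chevE8.nroots => LS chevE8 8 s (vec chevE8 8 t)).card = 72 → s = {1, 3, 6} := by decide +kernel

theorem ncard_A2 (a b : X.I → ℤ) : (A2 X a b).ncard ≤ 6 := by
  iterate 5 refine (Set.ncard_insert_le _ _).trans (Nat.succ_le_succ ?_)
  exact (Set.ncard_singleton _).le

/-- three times a root is a combination of the roots of the components -/
theorem three (hE : TE X 8) (hS : Sl X) {Ψ : Set (X.I → ℤ)} (h0 : ∀ c ∈ Ψ, X.Rt c) {m : ℕ} {a b : Fin m → X.I → ℤ}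
    (cmp : ∀ i, Cmp X Ψ (a i) (b i)) (cov : ∀ c ∈ Ψ, ∃ i, c ∈ A2 X (a i) (b i))
    (dis : ∀ i j, i ≠ j → a i ∉ A2 X (a j) (b j)) (hp : ∀ v, Pp X Ψ v → v = 0) {c : X.I → ℤ} (hc : X.Rt c) :
    (3 : ℤ) • c = ∑ i, ((2 * pr X c (a i) + pr X c (b i)) • a i + (pr X c (a i) + 2 * pr X c (b i)) • b i) := by
  obtain ⟨_, X₀, ⟨K⟩⟩ := hE.kit8
  have ra := fun i => h0 _ ((cmp i).sub Dec.a_mem)
  have rb := fun i => h0 _ ((cmp i).sub Dec.b_mem)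
  have o : ∀ i j, i ≠ j → ∀ d ∈ A2 X (a j) (b j), pr X d (a i) = 0 ∧ pr X d (b i) = 0 := fun i j e d hd =>
    (cmp i).orth d ((cmp j).sub hd) fun k => dis j i e.symm (A2K.sub_of_mem (cmp i) (cmp j) h0 k hd Dec.a_mem)
  have h1 := hp ((3 : ℤ) • X.cor c - ∑ i, ((2 * pr X c (a i) + pr X c (b i)) • X.cor (a i) +
      (pr X c (a i) + 2 * pr X c (b i)) • X.cor (b i))) fun d hd => by
    obtain ⟨j, hj⟩ := cov d hd
    rw [dotProduct_sub, dotProduct_sum, Finset.sum_eq_single j (fun i _ e => by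
      rw [dotProduct_add, dotProduct_smul, dotProduct_smul, show X.wt d ⬝ᵥ X.cor (a i) = 0 from (o i j e d hj).1,
        show X.wt d ⬝ᵥ X.cor (b i) = 0 from (o i j e d hj).2, smul_zero, smul_zero, add_zero]) (by simp)]
    obtain ⟨x, y, -, k2, -⟩ := A2K.coef (cmp j) h0 hj
    have k3 : X.wt (a j) ⬝ᵥ X.cor (a j) = 2 := pr_self (ra j)
    have k4 : X.wt (b j) ⬝ᵥ X.cor (b j) = 2 := pr_self (rb j)
    simp only [k2, add_dotProduct, dotProduct_add, smul_dotProduct, dotProduct_smul, smul_eq_mul, k3, k4, (cmp j).ab,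
      (cmp j).ba, hS _ _ (ra j) hc, hS _ _ (rb j) hc, pr]
    ring
  refine K.e.injective (K.ψ_inj hE.ok8 ?_)
  simp only [map_sum, map_add, map_zsmul, ← K.cor_eq hE.ok8 hc, ← K.cor_eq hE.ok8 (ra _), ← K.cor_eq hE.ok8 (rb _)]
  exact sub_eq_zero.1 h1

end P8

open P8 R in
/-- **the case `A₂⁴`** -/
theorem pl8c (hR : BoxRot) {D S : Subgroup Y} {y u x : Y} {a b : Fin 4 → X.I → ℤ} (hE : TE X 8) (h : St X D S y)
    (hS : ∀ c, X.Rt c → c ∈ X.Sz S) (hu : u ∈ X.T) (hx : x ∈ X.T) (hu' : u ∈ Zn D) (hx' : x ∈ Zn D) (hx3 : x ^ 3 = 1)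
    (cmp : ∀ i, Cmp X (X.Sz {x, u}) (a i) (b i)) (cov : ∀ c ∈ X.Sz {x, u}, ∃ i, c ∈ A2 X (a i) (b i))
    (dis : ∀ i j, i ≠ j → a i ∉ A2 X (a j) (b j)) (hg : ∀ i, X.g (a i) ∈ A2 X (a i) (b i))
    (hz : ∀ i (ω : kˣ), orderOf ω = 3 → F (zc X (a i) (b i) ω) = zc X (a i) (b i) ω)
    (c0 : Cmp X (X.Sz {u}) (a 0) (b 0)) (lv : Lvs X (X.Sz {u} \ A2 X (a 0) (b 0)))
    (n72 : (X.Sz {u} \ A2 X (a 0) (b 0)).ncard = 72) (h3 : ∀ ζ ∈ Zc X (X.Sz {u}), ζ ^ 3 = 1 → ζ ∈ zpowers u) : False := by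
  obtain ⟨s, sT, hs⟩ := Dec.exists_s (fun c k => k.1.1) lv
  obtain ⟨S₁, z0, e1⟩ : ∃ S₁ : Subgroup Y, Z0 X S₁ = S₁ ∧ X.Sz S₁ = X.Sz {u} \ A2 X (a 0) (b 0) := by
    have e : X.Sz (Z0 X {s}) = X.Sz {s} := by
      rw [Sz_Z0, hs]
      exact Set.Subset.antisymm (lv.cl (fun c k => k.1.1) subset_rfl) fun c k => ⟨k.1.1, fun v hv => hv c k⟩
    exact ⟨Z0 X {s}, le_antisymm (Z0_mono e.ge) (Z0_mono e.le), e.trans hs⟩
  have hT : ({x, u} : Set Y) ⊆ X.T := Set.insert_subset hx (Set.singleton_subset_iff.2 hu)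
  have hD : ({x, u} : Set Y) ⊆ Zn D := Set.insert_subset hx' (Set.singleton_subset_iff.2 hu')
  have hx1 : x ^ 3 ^ 1 = 1 := hx3
  obtain ⟨i, hi⟩ := Zl.el_D h.loc u hu'.1
  have e2 : ∀ c, c ∈ X.Sz (insert x (S₁ : Set Y)) ↔ c ∈ X.Sz {x, u} ∧ c ∉ A2 X (a 0) (b 0) := fun c => by
    rw [One.Sz_insert, e1, One.Sz_insert x {u}]
    exact and_assoc.symm
  have cu : CC X {u} := fun g k1 k2 => TO.X.Cn.mem_cen h.pi hu hi (Nat.coprime_one_right _) k1 (k2 u rfl).symm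
  have cc : CC X {x, u} := fun g k1 k2 => by
    obtain ⟨g₁, k3, g₂, k4, rfl⟩ := c0.dec h.sl (cu g k1 fun z hz => k2 z (Or.inr hz))
    have k5 : g₁ ∈ X.cen {x, u} := (sup_le (X.T_le_cen _) (A2K.H_le (cmp 0).sub) : _ ≤ X.cen {x, u}) k3
    have k6 : g₂ ∈ X.cen S₁ := X.S_le_cen _ (e1 ▸ k4)
    refine mul_mem k5 (A2K.cen_mono (fun c k => ((e2 c).1 k).1) (cc_ins Nat.prime_three h.p3 h.pi z0 hx hx1 g₂
      (X.cen_le_G _ k6) ?_))
    rintro z (rfl | hz)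
    · have k7 := k2 z (Or.inl rfl)
      rwa [← mul_assoc, X.cen_le_centralizer hT k5 z (Or.inl rfl), mul_assoc, mul_assoc, mul_right_inj] at k7
    · exact X.cen_le_centralizer (S_le_T z0) k6 z hz
  have H : A2K.Hy X D S y {x, u} a b := ⟨h, hT, hD, cc, fun c k => hS c k.1, cmp, cov⟩
  have hy := boxA2K X D S y {x, u} 4 a b h (Set.toFinite _) hT hD cc H.sub cmp cov (Or.inl fun i => ⟨hg i, hz i⟩)
  have t3 := fun c => three hE h.sl X.Sz_root cmp cov dis (fun v hv => hE.ss v fun c k => h.can.pp (fun g k1 ξ =>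
    One.Zc_comm hT ⟨X.τ_mem _, fun d hd => (TO.X.Cn.χ_exp X d v ξ).2 (hv d hd ▸ dvd_zero _)⟩ (H.ce g k1)) c (hS c k)) (c := c)
  have hy' : y ∈ Zc X (X.Sz {u}) := ⟨hy.1, fun c k => by
    have k0 : ∀ d ∈ X.Sz {x, u}, d ∈ X.Lam {y} := fun d hd z e => e ▸ hy.2 d hd
    have k1 : (3 : ℤ) • c ∈ X.Lam {y} := t3 c k.1 ▸ sum_mem fun i _ =>
      add_mem (zsmul_mem (k0 _ ((cmp i).sub Dec.a_mem)) _) (zsmul_mem (k0 _ ((cmp i).sub Dec.b_mem)) _)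
    have k2 := k1 y rfl
    rw [X.χ_zsmul, _root_.zpow_ofNat] at k2
    refine (pow_eq_one_iff_of_coprime ((Nat.Prime.coprime_iff_not_dvd Nat.prime_three).2 h.loc.reg)).1 ⟨k2, ?_⟩
    rw [← χ_pow X _ hy.1, pow_orderOf_eq_one, X.χ_one]⟩
  have o0 : ∀ c ∈ X.Sz S₁, ∀ d ∈ A2 X (a 0) (b 0), pr X c d = 0 := fun c k =>
    c0.orth' X.Sz_root c (e1 ▸ k).1 (e1 ▸ k).2
  have hI : Iso X S₁ x := fun v hv c k => by
    have k1 := congrArg (fun z => X.wt z ⬝ᵥ v) (t3 c k.1)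
    simp only [map_sum, map_add, map_zsmul, sum_dotProduct, add_dotProduct, smul_dotProduct, smul_eq_mul] at k1
    rw [Finset.sum_eq_zero fun i _ => ?_] at k1
    · omega
    by_cases e : i = 0
    · rw [e, o0 c k _ Dec.a_mem, o0 c k _ Dec.b_mem]
      ring
    · rw [hv _ ((e2 _).2 ⟨(cmp i).sub Dec.a_mem, dis i 0 e⟩), hv _ ((e2 _).2 ⟨(cmp i).sub Dec.b_mem, fun k2 => dis i 0 e
        (A2K.sub_of_mem (cmp 0) (cmp i) X.Sz_root k2 Dec.b_mem Dec.a_mem)⟩)]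
      ring
  have hn : x ∉ Zc X (X.Sz S₁) := fun k => by
    have k1 : X.Sz S₁ ⊆ A2 X (a 0) (b 0) ∪ A2 X (a 1) (b 1) ∪ (A2 X (a 2) (b 2) ∪ A2 X (a 3) (b 3)) := fun c k2 => by
      obtain ⟨i, k3⟩ := cov c ((e2 c).1 ⟨k2.1, by
        rintro z (rfl | hz)
        exacts [k.2 c k2, k2.2 z hz]⟩).1
      fin_cases i
      exacts [.inl (.inl k3), .inl (.inr k3), .inr (.inl k3), .inr (.inr k3)]
    have k2 := (Set.ncard_le_ncard k1 (by unfold A2; exact Set.toFinite _)).trans ((Set.ncard_union_le _ _).trans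
      (add_le_add ((Set.ncard_union_le _ _).trans (add_le_add (ncard_A2 _ _) (ncard_A2 _ _)))
        ((Set.ncard_union_le _ _).trans (add_le_add (ncard_A2 _ _) (ncard_A2 _ _)))))
    rw [e1, n72] at k2
    omega
  obtain ⟨_, X₀, ⟨K₀⟩⟩ := hE.kit8
  obtain ⟨K, r, -, h2, h4, h5⟩ := nfK K₀ hE.ok8 h.p3 z0 hx hx1 hI hn
  obtain rfl : r = {1, 3, 6} := cnt r (Finset.mem_powerset.2 fun i hi => hr8.2.1 i (h2 i hi)) (by
    rw [← ncard_RP X₀, ← n72, ← e1, ← Set.ncard_image_of_injective (X.Sz S₁) K.e.injective]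
    refine congrArg Set.ncard (Set.ext fun c => ⟨fun k => ⟨K.e.symm c, (h5 _).2 ?_, K.e.apply_symm_apply c⟩, ?_⟩)
    · exact (congrArg (· ∈ RP X₀ (LS chevE8 8 r)) (K.e.apply_symm_apply c)).mpr k
    · rintro ⟨c, k, rfl⟩
      exact (h5 c).1 k)
  obtain ⟨j, E⟩ := em_of K chk8 Sz_ins_sub h4 h5
  have P := E.pk
  generalize (X.rf (j (rv 0)) * (X.rf (j (rv 1)) * (X.rf (j (rv 2)) * X.rf (j (rv 3))))) = w at P
  obtain ⟨ω, -, -, hv⟩ := P.val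
  have fx : ∀ w ∈ closure (X.rf '' X.Sz S₁), ∀ d ∈ A2 X (a 0) (b 0), X.act w d = d := fun w hw d hd => by
    have k : ∀ c ∈ X.Sz S₁, X.act (X.rf c) d = d := fun c k => by
      rw [TW.act_rf k.1, show pr X d c = 0 from (h.sl d c (c0.sub hd).1 k.1).trans (o0 c k d hd), zero_smul, sub_zero]
    induction hw using closure_induction_left with
    | one => exact CF.act_one _ _
    | mul_left _ k1 _ _ ih =>
      obtain ⟨c, k2, rfl⟩ := k1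
      rw [CF.act_mul, ih, k c k2]
    | inv_mul_cancel _ k1 _ _ ih =>
      obtain ⟨c, k2, rfl⟩ := k1
      rw [inv_eq_of_mul_eq_one_right (X.rf_mul_self k2.1), CF.act_mul, ih, k c k2]
  have hw := hR X D y x {u} w h.p3 h.loc (Set.singleton_subset_iff.2 hu) (fun z e => by rw [e]; exact H.fix hu'.1)
    (fun d hd => cu d (H.dG hd) fun z e => e ▸ (hu'.2 d hd).symm) hy' hx hx' (hx3 ▸ one_mem _) cc
    (fun ζ k1 k2 => by
      obtain ⟨n, rfl⟩ := h3 ζ k1 k2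
      rw [map_zpow, H.fix hu'.1])
    (closure_mono (Set.image_mono (e1 ▸ Set.sdiff_subset)) P.clo) fun c k => by
      by_cases e : c ∈ A2 X (a 0) (b 0)
      · rw [fx w P.clo c e]
      · exact (hv c (e1 ▸ ⟨k, e⟩)).1
  refine P.mov (act_cmp h.sl (Z := {x, u}) ⟨fun c k => ((e2 c).1 ((P.cmp 0).sub k)).1, (P.cmp 0).ab, (P.cmp 0).ba,
    fun c k k' => ?_⟩ hw _ Dec.a_mem)
  by_cases e : c ∈ A2 X (a 0) (b 0)
  · have k1 := Sz_ins_sub ((P.cmp 0).sub Dec.a_mem)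
    have k2 := Sz_ins_sub ((P.cmp 0).sub Dec.b_mem)
    exact ⟨(h.sl _ _ k.1 k1.1).trans (o0 _ k1 c e), (h.sl _ _ k.1 k2.1).trans (o0 _ k2 c e)⟩
  · exact (P.cmp 0).orth c ((e2 c).2 ⟨k, e⟩) k'

end Cfsg.Agent.RC.B
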