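import Cfsg.Agent.RC.B.Defs
import Cfsg.Agent.KM.Tor.One

/-!
# RC (S4576): the centre of the canonical Levi subgroup does not depend on the frame (helper1)
-/

set_option autoImplicit false
set_option linter.unusedSectionVars false

namespace Cfsg.Agent.RC.B.Zl

open Cfsg Cfsg.Lie Cfsg.Agent.DL Cfsg.Agent.Nodes.Reps Matrix Subgroup Cfsg.Agent.KM.Ht Cfsg.Agent.KM.Tor
open Cfsg.Agent.TO.X.Cn (Pi1)

section Grp

variable {Y : Type} [Group Y]

/-- the centre of the centraliser -/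
def ZL (G : Subgroup Y) (Z : Set Y) : Subgroup Y := G ⊓ centralizer ((G ⊓ centralizer Z : Subgroup Y) : Set Y)

theorem card_le3 {A Q : Subgroup Y} [Finite Q] (u : Y) (h : ∀ a ∈ A, ∃ i : Fin 3, (u ^ (i : ℕ))⁻¹ * a ∈ Q) :
    Nat.card A ≤ 3 * Nat.card Q := by
  choose i hi using h
  have := Nat.card_le_card_of_injective (fun a : A => ((i a a.2, ⟨_, hi a a.2⟩) : Fin 3 × Q)) fun a b e => by
    have h1 : i a a.2 = i b b.2 := congrArg Prod.fst e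
    have h2 : (u ^ (i a a.2 : ℕ))⁻¹ * a = (u ^ (i b b.2 : ℕ))⁻¹ * b := congrArg (fun x : Fin 3 × Q => (x.2 : Y)) e
    rw [h1] at h2
    exact Subtype.ext (mul_left_cancel h2)
  rwa [Nat.card_prod, Nat.card_eq_fintype_card (α := Fin 3), Fintype.card_fin] at this

theorem fac_le3 {A Q : Subgroup Y} [Finite Q] (hA : IsPGroup 3 A) (hQ : IsPGroup 3 Q) [Finite A]
    (h : Nat.card A ≤ 3 * Nat.card Q) : (Nat.card A).factorization 3 ≤ (Nat.card Q).factorization 3 + 1 := by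
  have : Fact (Nat.Prime 3) := ⟨Nat.prime_three⟩
  obtain ⟨a, ha⟩ := IsPGroup.iff_card.1 hA
  obtain ⟨b, hb⟩ := IsPGroup.iff_card.1 hQ
  rw [ha, hb, ← pow_succ'] at h
  rw [ha, hb, Nat.prime_three.factorization_pow, Nat.prime_three.factorization_pow, Finsupp.single_eq_same,
    Finsupp.single_eq_same]
  exact (Nat.pow_le_pow_iff_right (by norm_num)).1 h

/-- a group of order three -/
theorem mem_three {μ : Subgroup Y} (h : Nat.card μ = 3) {ζ x : Y} (h1 : ζ ∈ μ) (h2 : ζ ≠ 1) (hx : x ∈ μ) :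
    ∃ i : Fin 3, x = ζ ^ (i : ℕ) := by
  have : Fact (Nat.Prime 3) := ⟨Nat.prime_three⟩
  have : Finite μ := Nat.finite_of_card_ne_zero (by omega)
  have h3 : (⟨ζ, h1⟩ : μ) ≠ 1 := fun e => h2 (congrArg Subtype.val e)
  obtain ⟨n, hn⟩ := (Submonoid.mem_powers_iff _ _).1 (mem_powers_of_prime_card (p := 3) h h3 (g' := ⟨x, hx⟩))
  have h4 : ζ ^ 3 = 1 := congrArg Subtype.val (h ▸ pow_card_eq_one' (x := (⟨ζ, h1⟩ : μ)))
  refine ⟨⟨n % 3, Nat.mod_lt _ (by norm_num)⟩, ?_⟩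
  rw [← pow_eq_pow_mod n h4]
  exact (congrArg Subtype.val hn).symm

variable {l : ℕ} {H D : Subgroup Y} {y s : Y}

/-- the `l`-elements which commute with `D` and `y` lie in `D` -/
theorem loc_mem (h : Loc l H D y) (hs : s ∈ H) {j : ℕ} (hj : s ^ l ^ j = 1) (h1 : ∀ d ∈ D, d * s = s * d)
    (h2 : s * y = y * s) : s ∈ D := by
  have h3 : IsPGroup l (zpowers s) := fun ⟨x, n, hn⟩ => ⟨j, Subtype.ext (by
    change x ^ l ^ j = 1
    rw [← hn, ← zpow_natCast, ← _root_.zpow_mul, mul_comm, _root_.zpow_mul, zpow_natCast, hj, _root_.one_zpow])⟩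
  have h4 : D ≤ normalizer (zpowers s : Set Y) := fun d hd => centralizer_le_normalizer _ (by
    rintro _ ⟨n, rfl⟩
    exact (Commute.zpow_right (h1 d hd) n).symm)
  refine h.syl (zpowers s ⊔ D) (sup_le (zpowers_le.2 hs) h.le) (h3.to_sup_of_normal_left' h.pg h4) le_sup_right
    (fun x hx => ?_) (mem_sup_left (mem_zpowers s))
  exact (show zpowers s ⊔ D ≤ centralizer {y} from sup_le (zpowers_le.2 fun _ e => e ▸ h2.symm)
    fun d hd _ e => e ▸ (h.comm d hd).symm) hx y rfl |>.symm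

end Grp

variable {p : ℕ} [Fact p.Prime] {k : Type} [Field k] [CharP k p] {Y : Type} [Group Y] {N : Type} [Fintype N]
  [DecidableEq N] {ρ : Y →* GL N k} {F : MulAut Y} {G : Subgroup Y} [IsAlgClosed k] {X : Datum p ρ F G}

theorem zc_eq {Z : Set Y} (hZ : Z ⊆ X.T) (hc : CC X Z) : Zc X (X.Sz Z) = ZL G Z := by
  refine le_antisymm (fun t ht => ⟨X.T_le_G ht.1, fun g hg => One.Zc_comm hZ ht (hc g hg.1 hg.2)⟩) fun t ht => ?_
  have h1 : t ∈ X.T := X.centralizer_T ▸ ⟨ht.1, fun s hs => ht.2 s ⟨X.T_le_G hs, fun z hz => X.T_comm (hZ hz) hs⟩⟩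
  refine ⟨h1, fun a ha => ?_⟩
  have h2 : X.x a 1 ∈ X.X a := (X.mem_X a ha.1 _).2 ⟨1, rfl⟩
  have h3 := X.tor' ha.1 h1 1
  rw [← ht.2 _ ⟨X.X_le_G ha.1 h2, X.X_le_centralizer hZ ha h2⟩, mul_inv_cancel_right, mul_one] at h3
  exact (X.x_inj a ha.1 h3).symm

theorem Sz_empty : X.Sz ∅ = {a | X.Rt a} := Set.ext fun _ => ⟨fun h => h.1, fun h => ⟨h, fun _ h => h.elim⟩⟩

theorem mem_mu {t : Y} : t ∈ mu X ↔ (t ∈ G ∧ ∀ g ∈ G, g * t = t * g) ∧ t ^ 3 = 1 := by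
  refine and_congr_left fun _ => ?_
  rw [← Sz_empty, zc_eq (Set.empty_subset _) cc_empty]
  exact and_congr_right fun _ => ⟨fun h g hg => h g ⟨hg, fun _ h => h.elim⟩, fun h g hg => h g hg.1⟩

theorem mu_conj {y : Y} (hy : y ∈ G) (hN : y⁻¹ * F y ∈ X.NN) : mu (X.conj hy hN) = mu X :=
  Subgroup.ext fun _ => mem_mu.trans mem_mu.symm

theorem F_mu {t : Y} (h : t ∈ mu X) : F t ∈ mu X := by
  obtain ⟨⟨h1, h2⟩, h3⟩ := mem_mu.1 h
  refine mem_mu.2 ⟨⟨X.F_mem_G h1, fun g hg => ?_⟩, by rw [← map_pow, h3, map_one]⟩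
  obtain ⟨g, rfl⟩ := F.surjective g
  rw [← map_mul, ← map_mul, h2 g ((X.F_mem_G_iff g).1 hg)]

theorem mu_le_Zc (Z : Set Y) : mu X ≤ Zc X (X.Sz Z) := fun _ h => ⟨h.1.1, fun a ha => h.1.2 a ha.1⟩

theorem sl_conj (h : Sl X) {y : Y} (hy : y ∈ G) (hN : y⁻¹ * F y ∈ X.NN) : Sl (X.conj hy hN) := by
  unfold Sl
  rw [conj_cor]
  exact h

theorem la_conj (h : LA X) {y : Y} (hy : y ∈ G) (hN : y⁻¹ * F y ∈ X.NN) : LA (X.conj hy hN) := by
  unfold LA
  rw [conj_cor]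
  exact h

variable {D S : Subgroup Y} {y : Y}

theorem Can.le_T {l : ℕ} (h : Can X l D S) : S ≤ X.T := h.z0 ▸ Z0_le_T X S

theorem Can.comm {l : ℕ} (h : Can X l D S) {c s : Y} (hc : Ce l G D c) (hs : s ∈ S) : c * s = s * c :=
  hc.elim (fun hc => h.cen c hc s (h.z0.symm ▸ hs)) fun hc => h.reg c hc.1 hc.2.1 hc.2.2 s (h.z0.symm ▸ hs)

theorem ce_y {l : ℕ} (h : Loc l (GF F G) D y) : Ce l G D y := .inr ⟨h.mem.1, fun d hd => h.comm d hd, h.reg⟩

theorem fin_D {l : ℕ} (X : Datum p ρ F G) (h : Loc l (GF F G) D y) : Finite D :=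
  have := X.amb.finite_GF G
  Finite.of_injective _ (inclusion_injective h.le)

theorem el_D {l : ℕ} (h : Loc l (GF F G) D y) : El l (D : Set Y) := fun z hz =>
  let ⟨j, hj⟩ := h.pg ⟨z, hz⟩
  ⟨j, congrArg Subtype.val hj⟩

namespace St

variable (h : St X D S y)
include h

theorem inf_le : D ⊓ S ≤ Zn D := fun _ hs => ⟨hs.1, fun _ hd => Can.comm h.can (.inl hd) hs.2⟩

/-- the `3`-elements of `S ^ F` lie in `D` -/
theorem mem_D {s : Y} (hs : s ∈ S) (hF : F s = s) {j : ℕ} (hj : s ^ 3 ^ j = 1) : s ∈ D :=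
  loc_mem h.loc ⟨X.T_le_G (Can.le_T h.can hs), hF⟩ hj (fun _ hd => Can.comm h.can (.inl hd) hs)
    (Can.comm h.can (ce_y h.loc) hs).symm

theorem mu_mem {s : Y} (hs : s ∈ mu X) (hF : F s = s) : s ∈ D :=
  let ⟨⟨h1, h2⟩, h3⟩ := mem_mu.1 hs
  loc_mem h.loc ⟨h1, hF⟩ (j := 1) (by rwa [pow_one]) (fun d hd => h2 d (h.loc.le hd).1) (h2 y h.loc.mem.1).symm

theorem fac_S : (Nat.card ↥(GF F S)).factorization 3 = (Nat.card ↥(D ⊓ S)).factorization 3 := by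
  have : Fact (Nat.Prime 3) := ⟨Nat.prime_three⟩
  have := X.amb.finite_GF S
  have := fin_D X h.loc
  have : Finite ↥(D ⊓ S) := Finite.of_injective _ (inclusion_injective inf_le_left)
  refine le_antisymm ?_ (KM.Mu.fac_le (card_dvd_of_le fun s hs => ⟨hs.2, (h.loc.le hs.1).2⟩) Nat.card_pos.ne')
  obtain ⟨P⟩ := Sylow.nonempty (p := 3) (G := GF F S)
  have h1 : (P : Subgroup _).map (GF F S).subtype ≤ D ⊓ S := by
    rintro _ ⟨x, hx, rfl⟩
    obtain ⟨j, hj⟩ := P.isPGroup' ⟨x, hx⟩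
    exact ⟨mem_D h x.2.1 x.2.2 (j := j) (congrArg (fun z : P => ((z : GF F S) : Y)) hj), x.2.1⟩
  have h2 := KM.Mu.fac_le (p := 3) (card_dvd_of_le h1) Nat.card_pos.ne'
  rwa [card_map_of_injective (subtype_injective _), P.card_eq_multiplicity, Nat.prime_three.factorization_pow,
    Finsupp.single_eq_same] at h2

variable (cc : BoxCC) (fr : BoxFr)
include cc

theorem zc : Zc X (X.Sz S) = ZL G S := zc_eq (Can.le_T h.can) (cc X 3 S Nat.prime_three h.p3 h.pi h.can.z0).1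

include fr

omit cc in
/-- change of the frame -/
theorem conj {g : Y} (hg : g ∈ G) (hN : g⁻¹ * F g ∈ X.NN) (hS : S ≤ (X.conj hg hN).T) : St (X.conj hg hN) D S y :=
  ⟨h.p3, h.pi, sl_conj h.sl hg hN, la_conj h.la hg hN, (fr X 3 D S Nat.prime_three h.p3 h.pi h.loc.pg (fun _ hd => (h.loc.le hd).1) h.can).2.2.2.1
    g hg hN hS, h.loc, h.na, h.br⟩

/-- a frame for two commuting elements of `D` -/
theorem frame {u v : Y} (hu : u ∈ D) (hv : v ∈ D) (hc : u * v = v * u) : ∃ (g : Y) (hg : g ∈ G) (hN : g⁻¹ * F g ∈ X.NN),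
    St (X.conj hg hN) D S y ∧ u ∈ (X.conj hg hN).T ∧ v ∈ (X.conj hg hN).T := by
  obtain ⟨g, hg, hN, h1, h2, h3⟩ := (cc X 3 S Nat.prime_three h.p3 h.pi h.can.z0).2.2.2
    (fr X 3 D S Nat.prime_three h.p3 h.pi h.loc.pg (fun _ hd => (h.loc.le hd).1) h.can).1 u (h.loc.le hu) v (h.loc.le hv)
    (by rintro z (rfl | rfl); exacts [el_D h.loc _ hu, el_D h.loc _ hv]) hc
    fun z hz => ⟨Can.comm h.can (.inl hu) hz, Can.comm h.can (.inl hv) hz⟩
  exact ⟨g, hg, hN, conj h fr hg hN h1, h2, h3⟩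

end St

end Cfsg.Agent.RC.B.Zl
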