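import Cfsg.Agent.RC.B.CC
import Cfsg.Agent.RC.B.Dec
import Cfsg.Agent.RC.B.Zl

/-!
# RC (S4576): three components of type `A₂` (helper14)

`R.Pk` : the combinatorial data of `A₂³ ⊆ E₆`; `R.core` : such an isolated element does not lie in the centre of `D`.
-/

set_option autoImplicit false
set_option linter.unusedSectionVars false

namespace Cfsg.Agent.RC.B.R

open Cfsg Cfsg.Lie Cfsg.Agent.DL Cfsg.Agent.Nodes.Reps Matrix Subgroup Cfsg.Agent.KM.Ht Cfsg.Agent.KM.Tor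
  Cfsg.Agent.ChevalleyStructure.CoxeterGeom Cfsg.Agent.Tits.Roots
open Cfsg.Agent.KM.Tor.TW (pr pr_add pr_neg pr_self pr_act pr_smul pr_sub)
open Cfsg.Agent.TO.X.Cn (Pi1 cl cl_sr cl_add cl_smul exists_cl χ_pow)

variable {p : ℕ} [Fact p.Prime] {k : Type} [Field k] [CharP k p] {Y : Type} [Group Y] {N : Type} [Fintype N]
  [DecidableEq N] {ρ : Y →* GL N k} {F : MulAut Y} {G : Subgroup Y} [IsAlgClosed k] {X : Datum p ρ F G}

/-- the coefficients of the roots of `A₂` -/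
def six : List (ℤ × ℤ) := [(1, 0), (0, 1), (1, 1), (-1, 0), (0, -1), (-1, -1)]

/-- the form of `A₂` -/
def fm (q r : ℤ × ℤ) : ℤ := 2 * q.1 * r.1 - q.1 * r.2 - q.2 * r.1 + 2 * q.2 * r.2

theorem six_fm : ∀ q ∈ six, ∀ r ∈ six, fm q r ≠ 0 ∧ (fm q r = -1 → 3 ∣ q.1 - r.1 + (q.2 - r.2)) := by decide

section A2

variable {a b c d : X.I → ℤ} (ha : X.Rt a) (hb : X.Rt b) (h1 : X.wt a ⬝ᵥ X.cor b = -1) (h2 : X.wt b ⬝ᵥ X.cor a = -1)
include ha hb h1 h2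

theorem coef6 (hc : c ∈ A2 X a b) : ∃ q ∈ six, c = q.1 • a + q.2 • b ∧ X.cor c = q.1 • X.cor a + q.2 • X.cor b := by
  have h3 := Dec.cor_add ha hb h1 h2
  rcases hc with rfl | rfl | rfl | rfl | rfl | rfl
  · exact ⟨(1, 0), by decide, by simp, by simp⟩
  · exact ⟨(0, 1), by decide, by simp, by simp⟩
  · exact ⟨(1, 1), by decide, by simp, by simp [h3]⟩
  · exact ⟨(-1, 0), by decide, by simp, by simp [X.cor_neg ha]⟩
  · exact ⟨(0, -1), by decide, by simp, by simp [X.cor_neg hb]⟩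
  · exact ⟨(-1, -1), by decide, by simp [add_comm], by
      rw [X.cor_neg (Dec.a2_rt ha hb h2 _ Dec.ab_mem), h3]; simp [add_comm]⟩

theorem pr6 {q r : ℤ × ℤ} (hd : X.cor d = r.1 • X.cor a + r.2 • X.cor b) : pr X (q.1 • a + q.2 • b) d = fm q r := by
  have h3 : X.wt a ⬝ᵥ X.cor a = 2 := pr_self ha
  have h4 : X.wt b ⬝ᵥ X.cor b = 2 := pr_self hb
  simp only [pr, hd, map_add, map_zsmul, add_dotProduct, dotProduct_add, smul_dotProduct, dotProduct_smul, smul_eq_mul,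
    h1, h2, h3, h4, fm]
  ring

theorem pr_ne (hc : c ∈ A2 X a b) (hd : d ∈ A2 X a b) : pr X c d ≠ 0 := by
  obtain ⟨q, hq, rfl, -⟩ := coef6 ha hb h1 h2 hc
  obtain ⟨r, hr, -, e⟩ := coef6 ha hb h1 h2 hd
  rw [pr6 ha hb h1 h2 e]
  exact (six_fm q hq r hr).1

theorem cor_sub (hc : c ∈ A2 X a b) (hd : d ∈ A2 X a b) (h : pr X c d = -1) :
    ∃ (e : ℤ) (v : X.R → ℤ), X.cor c - X.cor d = e • (X.cor a - X.cor b) + (3 : ℤ) • v := by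
  obtain ⟨q, hq, e1, e2⟩ := coef6 ha hb h1 h2 hc
  obtain ⟨r, hr, -, e⟩ := coef6 ha hb h1 h2 hd
  rw [e1, pr6 ha hb h1 h2 e] at h
  obtain ⟨m, hm⟩ := (six_fm q hq r hr).2 h
  refine ⟨q.1 - r.1, m • X.cor b, ?_⟩
  rw [e2, e, smul_smul, ← hm]
  module

end A2

theorem cor_cl {a : X.I → ℤ} (ha : X.Rt a) : ∃ β, X.cor a = cl X β := by
  obtain ⟨w, i, rfl⟩ := ha
  obtain ⟨β, hβ⟩ := exists_cl X (X.cw i) w
  exact ⟨_, (X.cor_act_sr w i).trans (hβ.trans (by rw [← cl_sr, ← cl_add]))⟩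

theorem dot_cl (hS : Sl X) {c : X.I → ℤ} (hc : X.Rt c) (β : X.I → ℤ) : X.wt c ⬝ᵥ cl X β = X.wt β ⬝ᵥ X.cor c := by
  conv_rhs => rw [X.eq_sum_sr β, map_sum, sum_dotProduct]
  rw [cl, dotProduct_sum]
  exact Finset.sum_congr rfl fun i _ => by
    rw [map_zsmul, smul_dotProduct, dotProduct_smul, ← X.cor_sr, hS _ _ hc (isRoot_sr _ _ i)]

theorem coch_three {R : Type} {ω : kˣ} (h : ω ^ 3 = 1) (e : ℤ) (v r : R → ℤ) :
    coch (e • v + (3 : ℤ) • r) ω = coch v ω ^ e := funext fun j => by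
  rw [coch_apply, Pi.pow_apply, coch_apply, Pi.add_apply, Pi.smul_apply, Pi.smul_apply, smul_eq_mul, smul_eq_mul, _root_.zpow_add,
    _root_.zpow_mul ω 3, _root_.zpow_ofNat, h, _root_.one_zpow, mul_one, mul_comm, _root_.zpow_mul]

theorem χ_zc (c a b : X.I → ℤ) (ω : kˣ) : X.χ c (zc X a b ω) = (ω ^ (pr X c a - pr X c b) : kˣ) := by
  rw [zc, X.χ_τ, chr_coch, pr, pr, ← dotProduct_sub]
  rfl

theorem zc_mem (a b : X.I → ℤ) (ω : kˣ) : zc X a b ω ∈ X.T := X.τ_mem _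

theorem zc_pow (a b : X.I → ℤ) (ω : kˣ) (i : ℕ) : zc X a b (ω ^ i) = zc X a b ω ^ i := by rw [zc, map_pow, map_pow, zc]

theorem zc_three (a b : X.I → ℤ) {ω : kˣ} (h : ω ^ 3 = 1) : zc X a b ω ^ 3 = 1 := by
  rw [← zc_pow, h, zc, map_one, map_one]

theorem F_Zc {Φ : Set (X.I → ℤ)} (h0 : ∀ a ∈ Φ, X.Rt a) (h : ∀ a ∈ Φ, X.g a ∈ Φ) {t : Y} (ht : t ∈ Zc X Φ) :
    F t ∈ Zc X Φ := ⟨X.F_mem_T ht.1, fun b hb => by
  obtain ⟨a, ha, rfl⟩ := (X.g_bijOn h0 h).surjOn hb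
  rw [X.χ_F (h0 a ha) ht.1, ht.2 a ha, one_pow]⟩

theorem pr_g {a b : X.I → ℤ} (ha : X.Rt a) (hb : X.Rt b) (h : X.ex a = X.ex b) : pr X (X.g a) (X.g b) = pr X a b := by
  have h1 := congrArg (X.wt (X.g a) ⬝ᵥ ·) (X.Mx_cor hb)
  simp only [dotProduct_mulVec, X.wt_g ha, smul_dotProduct, dotProduct_smul, smul_eq_mul, h] at h1
  exact (mul_left_cancel₀ (pow_ne_zero _ (Int.natCast_ne_zero.2 (Fact.out : p.Prime).ne_zero)) h1).symm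

/-- the centres of orthogonal components are different -/
theorem zc_ne (hS : Sl X) (hP : Pi1 X 1) {Ψ : Set (X.I → ℤ)} (h0 : ∀ a ∈ Ψ, X.Rt a) {a b a' b' : X.I → ℤ} (h : Cmp X Ψ a b)
    (h' : Cmp X Ψ a' b') (ha : a' ∉ A2 X a b) (hb : b' ∉ A2 X a b) {ω : kˣ} (hω : orderOf ω = 3) :
    zc X a b ω ≠ zc X a' b' ω := fun e => by
  have r1 := h0 _ (h.sub Dec.a_mem)
  have r2 := h0 _ (h.sub Dec.b_mem)
  have r3 := h0 _ (h'.sub Dec.a_mem)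
  have r4 := h0 _ (h'.sub Dec.b_mem)
  have e1 : ∀ j, (3 : ℤ) ∣ (X.cor a - X.cor b - (X.cor a' - X.cor b')) j := fun j => by
    have := congrFun (X.τ_inj e) j
    rw [coch_apply, coch_apply, zpow_eq_zpow_iff_modEq, hω] at this
    exact this.symm.dvd
  choose v hv using e1
  have e2 : X.cor a - X.cor b - (X.cor a' - X.cor b') = (3 : ℤ) • v := funext hv
  obtain ⟨β1, k1⟩ := cor_cl r1
  obtain ⟨β2, k2⟩ := cor_cl r2
  obtain ⟨β3, k3⟩ := cor_cl r3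
  obtain ⟨β4, k4⟩ := cor_cl r4
  obtain ⟨β, hβ⟩ := hP v 3 (β1 + (-1 : ℤ) • β2 + (-1 : ℤ) • β3 + β4) (by decide) (by
    rw [cl_add, cl_add, cl_add, cl_smul, cl_smul, ← k1, ← k2, ← k3, ← k4, ← e2]
    module)
  rw [Nat.cast_one, one_smul] at hβ
  have o1 := h.orth _ (h'.sub Dec.a_mem) ha
  have o2 := h.orth _ (h'.sub Dec.b_mem) hb
  have e3 := fun c => congrArg (X.wt c ⬝ᵥ ·) e2
  simp only [dotProduct_sub, dotProduct_smul, smul_eq_mul] at e3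
  have f0 := e3 β
  have f1 := e3 a
  have f2 := e3 b
  have f3 := e3 a'
  have f4 := e3 b'
  rw [hβ, dot_cl hS (by assumption)] at f1 f2 f3 f4
  rw [hS a a' r1 r3, hS a b' r1 r4, show X.wt a ⬝ᵥ X.cor a = 2 from pr_self r1, h.ab, o1.1, o2.1] at f1
  rw [hS b a' r2 r3, hS b b' r2 r4, show X.wt b ⬝ᵥ X.cor b = 2 from pr_self r2, h.ba, o1.2, o2.2] at f2
  rw [show X.wt a' ⬝ᵥ X.cor a' = 2 from pr_self r3, h'.ab, o1.1, o1.2] at f3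
  rw [show X.wt b' ⬝ᵥ X.cor b' = 2 from pr_self r4, h'.ba, o2.1, o2.2] at f4
  omega

/-- the Weyl group of `Sz Z` preserves the components -/
theorem act_cmp (hS : Sl X) {Z : Set Y} {a b : X.I → ℤ} (h : Cmp X (X.Sz Z) a b) {w : X.W}
    (hw : w ∈ closure (X.rf '' X.Sz Z)) : ∀ d ∈ A2 X a b, X.act w d ∈ A2 X a b := by
  have r1 := (h.sub Dec.a_mem).1
  have r2 := (h.sub Dec.b_mem).1
  have key : ∀ c ∈ X.Sz Z, ∀ d ∈ A2 X a b, X.act (X.rf c) d ∈ A2 X a b := fun c hc d hd => by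
    by_cases e : c ∈ A2 X a b
    · refine by_contra fun e' => pr_ne r1 r2 h.ab h.ba hd e ?_
      have h1 : X.act (X.rf c) d ∈ X.Sz Z := ⟨(h.sub hd).1.act _, by
        rw [TW.act_rf hc.1]
        exact (X.Lam Z).sub_mem (h.sub hd).2 ((X.Lam Z).zsmul_mem hc.2 _)⟩
      have h2 : pr X _ c = 0 := h.orth' X.Sz_root _ h1 e' c e
      rw [TW.act_rf hc.1, pr_sub, pr_smul, pr_self hc.1] at h2
      omega
    · rwa [TW.act_rf hc.1, show pr X d c = 0 from (hS _ _ (h.sub hd).1 hc.1).trans (h.orth' X.Sz_root c hc e d hd), zero_smul,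
        sub_zero]
  induction hw using closure_induction'' with
  | mem x hx => obtain ⟨c, hc, rfl⟩ := hx; exact key c hc
  | inv_mem x hx =>
    obtain ⟨c, hc, rfl⟩ := hx
    rw [inv_eq_of_mul_eq_one_right (X.rf_mul_self hc.1)]
    exact key c hc
  | one => exact fun d hd => by rwa [Datum.act, map_one]
  | mul x y _ _ hx hy => exact fun d hd => act_mul' x y d ▸ hx _ (hy d hd)

variable (X) in
/-- the subsystem `Ψ` of type `A₂³` of `Φ` (type `E₆`); `c₀` generates `ℤ Φ / ℤ Ψ`, `w` moves the components -/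
structure Pk (Φ Ψ : Set (X.I → ℤ)) (a b : Fin 3 → X.I → ℤ) (c₀ : X.I → ℤ) (w : X.W) : Prop where
  cmp : ∀ i, Cmp X Ψ (a i) (b i)
  cov : ∀ c ∈ Ψ, ∃ i, c ∈ A2 X (a i) (b i)
  dis : ∀ i j, i ≠ j → a i ∉ A2 X (a j) (b j) ∧ b i ∉ A2 X (a j) (b j)
  mem : c₀ ∈ Φ
  out : c₀ ∉ Ψ
  lam : ∀ Λ : AddSubgroup (X.I → ℤ), Ψ ⊆ Λ → (3 : ℤ) • c₀ ∈ Λ ∧
    ∀ c ∈ Φ, X.act w c - c ∈ Λ ∧ ∀ i, c - (pr X c (a i) - pr X c (b i)) • c₀ ∈ Λ
  clo : w ∈ closure (X.rf '' Φ)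
  mov : X.act w (a 0) ∉ A2 X (a 0) (b 0)

theorem perm3 : ∀ σ : Fin 3 → Fin 3, (∀ i j, σ i = σ j → i = j) → (∀ i, σ i ≠ i) → ∀ i j, j = i ∨ j = σ i ∨ j = σ (σ i) := by
  decide

section Core

variable {S : Subgroup Y} {u : Y} {a b : Fin 3 → X.I → ℤ} {c₀ : X.I → ℤ} {w : X.W}
  (P : Pk X (X.Sz S) (X.Sz (insert u (S : Set Y))) a b c₀ w)
include P

theorem Pk.val : ∃ ω : kˣ, orderOf ω = 3 ∧ X.χ c₀ u = ω ∧ ∀ c ∈ X.Sz S, X.χ (X.act w c) u = X.χ c u ∧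
    ∀ i, X.χ c u = (ω ^ (pr X c (a i) - pr X c (b i)) : kˣ) := by
  have : Fact (Nat.Prime 3) := ⟨Nat.prime_three⟩
  obtain ⟨h1, h2⟩ := P.lam (X.Lam {u}) fun c hc z hz => hc.2 z (.inl hz)
  refine ⟨Units.mk0 _ (X.χ_ne_zero c₀ u), orderOf_eq_prime (Units.ext ?_) fun e => P.out ⟨P.mem.1, ?_⟩, rfl, fun c hc => ⟨?_, fun i => ?_⟩⟩
  · have := h1 u rfl
    rwa [X.χ_zsmul, _root_.zpow_ofNat] at this
  · rintro z (rfl | hz)
    exacts [congrArg Units.val e, P.mem.2 z hz]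
  · have := (h2 c hc).1 u rfl
    rwa [sub_eq_add_neg, X.χ_add, X.χ_neg, mul_inv_eq_one₀ (X.χ_ne_zero _ _)] at this
  · have := (h2 c hc).2 i u rfl
    rw [sub_eq_add_neg, X.χ_add, X.χ_neg, mul_inv_eq_one₀ (X.χ_ne_zero _ _), X.χ_zsmul] at this
    rw [this, Units.val_zpow_eq_zpow_val, Units.val_mk0]

/-- the hypothesis of [A2K] -/
theorem Pk.alt (hS : Sl X) (hP : Pi1 X 1) (hex : ∀ a b, X.Rt a → X.Rt b → X.ex a = X.ex b) (hT : S ≤ X.T)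
    (hF : ∀ z ∈ S, F z ∈ S) (hu : u ∈ X.T) (hFu : F u = u) (H3 : ∀ ζ ∈ Zc X (X.Sz S), ζ ^ 3 = 1 → F ζ = ζ) :
    (∀ i, X.g (a i) ∈ A2 X (a i) (b i) ∧ ∀ ω : kˣ, orderOf ω = 3 → F (zc X (a i) (b i) ω) = zc X (a i) (b i) ω) ∨
      ∀ i j, ∃ e : ℕ, X.g^[e] (a i) ∈ A2 X (a j) (b j) := by
  obtain ⟨ω, hω, h0, hv⟩ := P.val
  have h3 : ω ^ 3 = 1 := hω ▸ pow_orderOf_eq_one ω
  have ra := fun i => ((P.cmp i).sub Dec.a_mem).1
  have rb := fun i => ((P.cmp i).sub Dec.b_mem).1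
  have gΨ : ∀ c ∈ X.Sz (insert u (S : Set Y)), X.g c ∈ X.Sz (insert u (S : Set Y)) := fun c hc =>
    X.g_mem_Sz (Set.insert_subset hu hT) (by
      rintro z (rfl | hz)
      exacts [.inl hFu, .inr (hF z hz)]) hc
  choose σ hσ using fun i => P.cov _ (gΨ _ ((P.cmp i).sub Dec.a_mem))
  have gC : ∀ i, ∀ c ∈ A2 X (a i) (b i), X.g c ∈ A2 X (a (σ i)) (b (σ i)) := fun i c hc => by_contra fun e =>
    pr_ne (ra i) (rb i) (P.cmp i).ab (P.cmp i).ba hc Dec.a_mem ((pr_g ((P.cmp i).sub hc).1 (ra i) (hex _ _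
      ((P.cmp i).sub hc).1 (ra i))).symm.trans ((P.cmp _).orth' X.Sz_root _ (gΨ _ ((P.cmp i).sub hc)) e _ (hσ i)))
  have z1 : ∀ i, zc X (a i) (b i) ω * u⁻¹ ∈ Zc X (X.Sz S) := fun i => ⟨mul_mem (zc_mem ..) (inv_mem hu), fun c hc => by
    rw [X.χ_mul _ (zc_mem ..) (inv_mem hu), X.χ_inv _ hu, χ_zc, ← (hv c hc).2 i, mul_inv_cancel₀ (X.χ_ne_zero _ _)]⟩
  have z2 : ∀ i, F (zc X (a i) (b i) ω) = zc X (a (σ i)) (b (σ i)) ω := fun i => by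
    obtain ⟨e, v, h1⟩ := cor_sub (ra _) (rb _) (P.cmp _).ab (P.cmp _).ba (hσ i) (gC i _ Dec.b_mem)
      ((pr_g (ra i) (rb i) (hex _ _ (ra i) (rb i))).trans (P.cmp i).ab)
    obtain ⟨n, h2⟩ : ∃ n : ℤ, F (zc X (a i) (b i) ω) = zc X (a (σ i)) (b (σ i)) ω ^ n := ⟨(p : ℤ) ^ X.ex (b i) * e, by
      rw [zc, X.F_τ, mon_coch, mulVec_sub, X.Mx_cor (ra i), X.Mx_cor (rb i), hex _ _ (ra i) (rb i), ← smul_sub, h1, smul_add,
        smul_smul, smul_comm, coch_three h3, map_zpow, zc]⟩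
    have h4 := (F_Zc X.Sz_root (fun c hc => X.g_mem_Sz hT hF hc) (z1 i)).2 _ P.mem
    have h5 := (z1 (σ i)).2 _ P.mem
    rw [map_mul, map_inv, hFu, h2] at h4
    rw [X.χ_mul _ (by first | exact zc_mem .. | exact zpow_mem (zc_mem ..) _) (inv_mem hu), X.χ_inv _ hu,
      mul_inv_eq_one₀ (X.χ_ne_zero _ _), h0] at h4 h5
    have h6 : ω ^ n = ω ^ (1 : ℤ) := Units.ext (by
      rw [_root_.zpow_one, ← h4, zc, ← map_zpow, X.χ_τ, map_zpow, Units.val_zpow_eq_zpow_val, Units.val_zpow_eq_zpow_val, ← X.χ_τ, ← h5,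
        zc])
    rw [zpow_eq_zpow_iff_modEq, hω] at h6
    obtain ⟨m, hm⟩ := h6.symm.dvd
    rw [h2, show n = 1 + 3 * m by push_cast at hm; omega, _root_.zpow_add, _root_.zpow_mul, _root_.zpow_ofNat _ 3, zc_three _ _ h3, _root_.one_zpow,
      mul_one, _root_.zpow_one]
  have z3 : ∀ i j, zc X (a (σ i)) (b (σ i)) ω * (zc X (a (σ j)) (b (σ j)) ω)⁻¹ =
      zc X (a i) (b i) ω * (zc X (a j) (b j) ω)⁻¹ := fun i j => by
    rw [← z2, ← z2, ← map_inv, ← map_mul]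
    refine H3 _ (by simpa using mul_mem (z1 i) (inv_mem (z1 j))) ?_
    rw [Commute.mul_pow (X.T_comm (zc_mem ..) (inv_mem (zc_mem ..))), inv_pow, zc_three _ _ h3, zc_three _ _ h3, inv_one, mul_one]
  have z4 : ∀ i j, zc X (a i) (b i) ω = zc X (a j) (b j) ω → i = j := fun i j e => by_contra fun e' =>
    zc_ne hS hP X.Sz_root (P.cmp i) (P.cmp j) (P.dis j i (Ne.symm e')).1 (P.dis j i (Ne.symm e')).2 hω e
  by_cases h : ∃ j, σ j = j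
  · obtain ⟨j, hj⟩ := h
    have h1 : ∀ i, σ i = i := fun i => z4 _ _ (by simpa only [hj, mul_left_inj] using z3 i j)
    refine .inl fun i => ⟨by simpa only [h1] using hσ i, fun ξ hξ => ?_⟩
    obtain ⟨n, -, rfl⟩ := (hω ▸ IsPrimitiveRoot.orderOf ω).eq_pow_of_mem_rootsOfUnity (ξ := ξ) (hξ ▸ pow_orderOf_eq_one ξ)
    rw [zc_pow, map_pow, z2, h1]
  · refine .inr fun i j => ?_
    rcases perm3 σ (fun i j e => z4 _ _ (mul_inv_eq_one.1 (by rw [← z3, e, mul_inv_cancel]))) (not_exists.1 h) i j with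
      rfl | rfl | rfl
    exacts [⟨0, Dec.a_mem⟩, ⟨1, hσ i⟩, ⟨2, gC _ _ (hσ i)⟩]

theorem Pk.zc_of {y : Y} (hy : y ∈ Zc X (X.Sz (insert u (S : Set Y)))) (h3 : ¬ 3 ∣ orderOf y) : y ∈ Zc X (X.Sz S) := by
  obtain ⟨h1, h2⟩ := P.lam (X.Lam {y}) fun c hc z hz => hz ▸ hy.2 c hc
  have h4 : c₀ ∈ X.Lam {y} := by
    rintro _ rfl
    have h5 := h1 _ rfl
    rw [X.χ_zsmul, _root_.zpow_ofNat] at h5
    refine (pow_eq_one_iff_of_coprime ((Nat.Prime.coprime_iff_not_dvd Nat.prime_three).2 h3)).1 ⟨h5, ?_⟩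
    rw [← χ_pow X _ hy.1, pow_orderOf_eq_one, X.χ_one]
  exact ⟨hy.1, fun c hc => (sub_add_cancel c _ ▸ add_mem ((h2 c hc).2 0) (zsmul_mem h4 _) : c ∈ X.Lam {y}) y rfl⟩

/-- **the core** -/
theorem Pk.core (hA : BoxA2K) (hR : BoxRot) {D : Subgroup Y} {y : Y} (h : St X D S y)
    (hex : ∀ a b, X.Rt a → X.Rt b → X.ex a = X.ex b) (hu : u ∈ X.T) (hz : u ∈ Zn D) {Z : Set Y} (h1 : Z.Finite) (h2 : Z ⊆ X.T)
    (h3 : Z ⊆ Zn D) (h4 : CC X Z) (h5 : X.Sz Z = X.Sz (insert u (S : Set Y)))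
    (H3 : ∀ ζ ∈ Zc X (X.Sz S), ζ ^ 3 = 1 → F ζ = ζ) : False := by
  have hT := Zl.Can.le_T h.can
  obtain ⟨f1, f2, -⟩ := boxFr X 3 D S Nat.prime_three h.p3 h.pi h.loc.pg (fun _ hd => (h.loc.le hd).1) h.can
  have h6 := hA X D S y Z 3 a b h h1 h2 h3 h4 (h5 ▸ fun c hc => ⟨hc.1, fun z hz => hc.2 z (.inr hz)⟩) (h5 ▸ P.cmp)
    (h5 ▸ P.cov) (P.alt h.sl h.pi hex hT f1 hu (h.loc.le hz.1).2 H3)
  obtain ⟨ω, hω, -, hv⟩ := P.val
  obtain ⟨j, hj⟩ := Zl.el_D h.loc u hz.1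
  refine P.mov (act_cmp h.sl (P.cmp 0) (hR X D y u S w h.p3 h.loc hT f1 (fun d hd => f2 d (.inl hd))
    (P.zc_of (h5 ▸ h6) h.loc.reg) hu hz ⟨pow_mem hu 3, fun c hc => ?_⟩ (cc_ins Nat.prime_three h.p3 h.pi h.can.z0 hu hj) H3
    P.clo fun c hc => (hv c hc).1) _ Dec.a_mem)
  rw [χ_pow X _ hu, (hv c hc).2 0, ← Units.val_pow_eq_pow_val, ← _root_.zpow_natCast, ← _root_.zpow_mul, mul_comm, _root_.zpow_mul, _root_.zpow_natCast,
    show ω ^ 3 = 1 from hω ▸ pow_orderOf_eq_one ω, _root_.one_zpow, Units.val_one]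

end Core

end Cfsg.Agent.RC.B.R
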