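import Cfsg.Agent.RC.B.Pl
import Cfsg.Agent.RC.B.Pl8c
import Cfsg.Agent.RC.B.Syl
import Cfsg.Agent.RC.B.Rot
import Cfsg.Agent.RC.B.Tri

/-!
# RC (S4576), [PL] without hypotheses (helper12)
-/

set_option autoImplicit false

namespace Cfsg.Agent.RC.B

theorem boxP8 : BoxP8 := fun _ _ _ _ _ _ _ _ h1 h2 h3 h4 h5 h6 h7 h8 h9 h10 h11 h12 h13 h14 h15 h16 h17 =>
  pl8c (boxRot_of boxSyl) h1 h2 h3 h4 h5 h6 h7 h8 h9 h10 h11 h12 h13 h14 h15 h16 h17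

/-- **[PL]** -/
theorem boxPl : BoxPl := boxPl_of (boxPK_of boxTri boxSyl boxFr) boxP8

end Cfsg.Agent.RC.B
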