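import Cfsg.Agent.RC.B.R0
import Cfsg.Agent.RC.B.Kit

/-!
# RC (S4576): `A₂³ ⊆ E₆` in standard coordinates (helper14)

`R.Em` : `Φ` is the image of the root system `E₆`, `Ψ` are the roots with the coefficient of the branch node divisible by `3`;
`R.Em.pk` : the components and the rotation.
-/

set_option autoImplicit false
set_option linter.unusedSectionVars false

namespace Cfsg.Agent.RC.B.R

open Cfsg Cfsg.Lie Cfsg.Agent.DL Cfsg.Agent.Nodes.Reps Matrix Subgroup Cfsg.Agent.KM.Ht Cfsg.Agent.KM.Tor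
  Cfsg.Agent.Nodes.RGDChev Cfsg.Agent.ChevalleyStructure.NPerm Cfsg.Agent.ChevalleyStructure.CoxeterGeom
  Cfsg.Agent.Tits.Roots
open Cfsg.Agent.KM.Tor.TW (pr pr_add pr_neg pr_self pr_act pr_smul pr_sub)

/-- the roots of `E₆` -/
def V6 (x : Fin 6 → ℤ) : Prop := ∃ s : Fin chevE6.nroots, vec chevE6 6 s = x

instance V6.dec : DecidablePred V6 := fun _ => by unfold V6; infer_instance

/-- the form of `E₆` -/
def f6 (x y : Fin 6 → ℤ) : ℤ := x ⬝ᵥ co chevE6 6 y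

/-- the end nodes of the extended diagram -/
def av : Fin 3 → Fin 6 → ℤ := ![![1, 0, 0, 0, 0, 0], ![0, 0, 0, 0, 0, 1], ![-1, -2, -2, -3, -2, -1]]

/-- the middle nodes of the extended diagram -/
def bv : Fin 3 → Fin 6 → ℤ := ![![0, 0, 1, 0, 0, 0], ![0, 0, 0, 0, 1, 0], ![0, 1, 0, 0, 0, 0]]

/-- the branch node -/
def cv : Fin 6 → ℤ := ![0, 0, 0, 1, 0, 0]

/-- the four reflections -/
def rv : Fin 4 → Fin 6 → ℤ := ![![0, 0, 1, 1, 1, 1], ![0, 1, 0, 1, 1, 0], ![0, 1, 1, 1, 0, 0], ![1, 0, 1, 1, 1, 0]]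

/-- a reflection -/
def r6 (i : Fin 4) (x : Fin 6 → ℤ) : Fin 6 → ℤ := x - f6 x (rv i) • rv i

/-- the six roots -/
def a6 (i : Fin 3) (x : Fin 6 → ℤ) : Prop :=
  x = av i ∨ x = bv i ∨ x = av i + bv i ∨ x = -av i ∨ x = -bv i ∨ x = -(av i + bv i)

instance a6.dec (i : Fin 3) : DecidablePred (a6 i) := fun _ => by unfold a6; infer_instance

theorem e6_base : (∀ i, V6 (av i) ∧ V6 (bv i) ∧ V6 (av i + bv i) ∧ V6 (-av i) ∧ V6 (-bv i) ∧ V6 (-(av i + bv i)) ∧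
    3 ∣ av i 3 ∧ 3 ∣ bv i 3 ∧ f6 (av i) (bv i) = -1 ∧ f6 (bv i) (av i) = -1 ∧
    ∀ j, i ≠ j → ¬ a6 j (av i) ∧ ¬ a6 j (bv i)) ∧ V6 cv ∧ (∀ i, V6 (rv i)) ∧ ¬ a6 0 (r6 0 (r6 1 (r6 2 (r6 3 (av 0))))) := by
  decide +kernel

theorem e6_all : ∀ s : Fin chevE6.nroots, (3 ∣ vec chevE6 6 s 3 → (∃ i, a6 i (vec chevE6 6 s)) ∧
    ∀ i, ¬ a6 i (vec chevE6 6 s) → f6 (vec chevE6 6 s) (av i) = 0 ∧ f6 (vec chevE6 6 s) (bv i) = 0) ∧
    (∀ i, 3 ∣ vec chevE6 6 s 3 - (f6 (vec chevE6 6 s) (av i) - f6 (vec chevE6 6 s) (bv i))) ∧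
    3 ∣ r6 0 (r6 1 (r6 2 (r6 3 (vec chevE6 6 s)))) 3 - vec chevE6 6 s 3 := by
  decide +kernel

theorem e6_span (x : Fin 6 → ℤ) (m : ℤ) (h : x 3 = 3 * m) : x = (x 0 - m) • av 0 + (x 2 - 2 * m) • bv 0 + (x 5 - m) • av 1 +
    (x 4 - 2 * m) • bv 1 + (-m) • av 2 + (x 1 - 2 * m) • bv 2 := by
  funext i
  fin_cases i <;> simp [av, bv, h] <;> ring

variable {p : ℕ} [Fact p.Prime] {k : Type} [Field k] [CharP k p] {Y : Type} [Group Y] {N : Type} [Fintype N]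
  [DecidableEq N] {ρ : Y →* GL N k} {F : MulAut Y} {G : Subgroup Y} [IsAlgClosed k] {X : Datum p ρ F G}

variable (X) in
/-- standard coordinates -/
structure Em (Φ Ψ : Set (X.I → ℤ)) (j : (Fin 6 → ℤ) →+ (X.I → ℤ)) : Prop where
  rt : ∀ c ∈ Φ, X.Rt c
  all : ∀ c, c ∈ Φ ↔ ∃ x, V6 x ∧ c = j x
  pr : ∀ x y, V6 y → pr X (j x) (j y) = f6 x y
  ker : ∀ x, j x ∈ Ψ ↔ V6 x ∧ 3 ∣ x 3
  sub : Ψ ⊆ Φ
  inj : Function.Injective j

namespace Em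

variable {Φ Ψ : Set (X.I → ℤ)} {j : (Fin 6 → ℤ) →+ (X.I → ℤ)} (E : Em X Φ Ψ j)
include E

theorem mem_A2 (i : Fin 3) (x : Fin 6 → ℤ) : j x ∈ A2 X (j (av i)) (j (bv i)) ↔ a6 i x := by
  simp only [A2, a6, Set.mem_insert_iff, Set.mem_singleton_iff, ← map_add, ← map_neg, E.inj.eq_iff]

theorem act_r (i : Fin 4) (x : Fin 6 → ℤ) : X.act (X.rf (j (rv i))) (j x) = j (r6 i x) := by
  have h := e6_base.2.2.1 i
  rw [TW.act_rf (E.rt _ ((E.all _).2 ⟨_, h, rfl⟩)), E.pr _ _ h, r6, map_sub, map_zsmul]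

theorem cmp (i : Fin 3) : Cmp X Ψ (j (av i)) (j (bv i)) := by
  obtain ⟨h1, h2, h3, h4, h5, h6, h7, h8, h9, h10, -⟩ := e6_base.1 i
  refine ⟨?_, (E.pr _ _ h2).trans h9, (E.pr _ _ h1).trans h10, fun c hc h => ?_⟩
  · rintro _ (rfl | rfl | rfl | rfl | rfl | rfl) <;> simp only [← map_add, ← map_neg, E.ker]
    exacts [⟨h1, h7⟩, ⟨h2, h8⟩, ⟨h3, dvd_add h7 h8⟩, ⟨h4, h7.neg_right⟩, ⟨h5, h8.neg_right⟩, ⟨h6, (dvd_add h7 h8).neg_right⟩]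
  · obtain ⟨_, ⟨s, rfl⟩, rfl⟩ := (E.all c).1 (E.sub hc)
    have := ((e6_all s).1 ((E.ker _).1 hc).2).2 i (mt (E.mem_A2 i _).2 h)
    exact ⟨(E.pr _ _ h1).trans this.1, (E.pr _ _ h2).trans this.2⟩

theorem mem_lam {Λ : AddSubgroup (X.I → ℤ)} (h : Ψ ⊆ Λ) {x : Fin 6 → ℤ} (hx : 3 ∣ x 3) : j x ∈ Λ := by
  obtain ⟨m, hm⟩ := hx
  have ha : ∀ i, j (av i) ∈ Λ := fun i => h ((E.cmp i).sub Dec.a_mem)
  have hb : ∀ i, j (bv i) ∈ Λ := fun i => h ((E.cmp i).sub Dec.b_mem)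
  rw [e6_span x m hm]
  simp only [map_add, map_zsmul]
  exact add_mem (add_mem (add_mem (add_mem (add_mem (zsmul_mem (ha _) _) (zsmul_mem (hb _) _)) (zsmul_mem (ha _) _))
    (zsmul_mem (hb _) _)) (zsmul_mem (ha _) _)) (zsmul_mem (hb _) _)

theorem pk : Pk X Φ Ψ (fun i => j (av i)) (fun i => j (bv i)) (j cv)
    (X.rf (j (rv 0)) * (X.rf (j (rv 1)) * (X.rf (j (rv 2)) * X.rf (j (rv 3))))) := by
  have hw : ∀ x, X.act (X.rf (j (rv 0)) * (X.rf (j (rv 1)) * (X.rf (j (rv 2)) * X.rf (j (rv 3))))) (j x) =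
      j (r6 0 (r6 1 (r6 2 (r6 3 x)))) := fun x => by simp only [act_mul', E.act_r]
  have hr : ∀ i, X.rf (j (rv i)) ∈ closure (X.rf '' Φ) := fun i =>
    subset_closure ⟨_, (E.all _).2 ⟨_, e6_base.2.2.1 i, rfl⟩, rfl⟩
  refine ⟨E.cmp, fun c hc => ?_, fun i i' h => ?_, (E.all _).2 ⟨_, e6_base.2.1, rfl⟩, fun h => ?_, fun Λ h => ⟨?_, fun c hc => ?_⟩,
    mul_mem (hr 0) (mul_mem (hr 1) (mul_mem (hr 2) (hr 3))), ?_⟩
  · obtain ⟨_, ⟨s, rfl⟩, rfl⟩ := (E.all c).1 (E.sub hc)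
    exact ((e6_all s).1 ((E.ker _).1 hc).2).1.imp fun i => (E.mem_A2 i _).2
  · simp only [E.mem_A2]
    exact (e6_base.1 i).2.2.2.2.2.2.2.2.2.2 i' h
  · exact absurd ((E.ker _).1 h).2 (by decide)
  · rw [← map_zsmul]
    exact E.mem_lam h (by decide)
  · obtain ⟨_, ⟨s, rfl⟩, rfl⟩ := (E.all c).1 hc
    refine ⟨?_, fun i => ?_⟩
    · rw [hw, ← map_sub]
      exact E.mem_lam h (e6_all s).2.2
    · rw [E.pr _ _ (e6_base.1 i).1, E.pr _ _ (e6_base.1 i).2.1, ← map_zsmul, ← map_sub]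
      exact E.mem_lam h (by simpa [cv] using (e6_all s).2.1 i)
  · rw [hw, E.mem_A2]
    exact e6_base.2.2.2

end Em

end Cfsg.Agent.RC.B.R
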