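import Cfsg.Agent.RC.B.Defs

/-!
# RC (S4576), the simple groups of type `E₆` at `3` : definitions and boxes (helper3)
-/

set_option autoImplicit false
set_option linter.unusedSectionVars false

namespace Cfsg.Agent.RC.B.Sim

open Cfsg Cfsg.Agent.DL Matrix Subgroup Cfsg.Agent.KM.Ht Cfsg.Agent.KM.Tor

/-- `g` is central in `D` modulo `μ` -/
def C2 {Y : Type} [Group Y] (μ D : Subgroup Y) (g : Y) : Prop := g ∈ D ∧ ∀ d ∈ D, d * g * d⁻¹ * g⁻¹ ∈ μ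

variable {p : ℕ} [Fact p.Prime] {k : Type} [Field k] [CharP k p] {Y : Type} [Group Y] {N : Type} [Fintype N]
  [DecidableEq N] {ρ : Y →* GL N k} {F : MulAut Y} {G : Subgroup Y} [IsAlgClosed k] (X : Datum p ρ F G)

/-- an element of the Weyl group of `Ψ` multiplies `t` by a central element `≠ 1` -/
def Mv (Ψ : Set (X.I → ℤ)) (t : Y) : Prop :=
  ∃ w ∈ closure (X.rf '' Ψ), ∃ m, X.Rp w m ∧ m * t * m⁻¹ * t⁻¹ ∈ mu X ∧ m * t ≠ t * m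

/-- the centraliser of `g` has the type `A₂ A₂ A₂` -/
structure T3 (g : Y) : Prop where
  card : (X.Sz {g}).ncard = 18
  orb : ∀ w ∈ closure (X.rf '' X.Sz {g}), ∀ a ∈ X.Sz {g}, X.wt (X.act w a) ⬝ᵥ X.cor a ≠ 0
  cen : ∀ a ∈ X.Sz {g}, ∀ b ∈ X.Sz {g}, X.wt a ⬝ᵥ X.cor b = -1 → ∀ ω : kˣ, orderOf ω = 3 →
    ∃ i : ℕ, zc X a b ω * g ^ i ∈ Zc X {a | X.Rt a}
  cmp : ∀ a ∈ X.Sz {g}, ∀ b ∈ X.Sz {g}, ∀ a' ∈ X.Sz {g}, ∀ b' ∈ X.Sz {g}, X.wt a ⬝ᵥ X.cor b = -1 →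
    X.wt a' ⬝ᵥ X.cor b' = -1 → ∀ ω ω' : kˣ, orderOf ω = 3 → orderOf ω' = 3 → zc X a' b' ω' = zc X a b ω → a' ∈ A2 X a b

/-- [AB] no subsystem of type `A₂` : the `l`-subgroups are abelian -/
def BoxAB : Prop := AllD fun {p} _ _ _ _ {Y} _ _ _ _ _ _ _ _ X => ∀ (l : ℕ) (Z : Set Y) (P : Subgroup Y), l.Prime → l ≠ p →
  l ≠ 2 → Sl X → Z.Finite → Z ⊆ X.T → (∀ a ∈ X.Sz Z, ∀ b ∈ X.Sz Z, X.wt a ⬝ᵥ X.cor b ≠ -1) → Finite P → IsPGroup l P →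
  P ≤ X.cen Z → Ab P

/-- [N1] proper Levi subgroups -/
def BoxN1 : Prop := AllD fun {p} _ _ _ _ {Y} _ _ _ _ _ _ _ _ X => ∀ (Ψ : Set (X.I → ℤ)) (t : Y) (v : X.R → ℤ), TE X 6 →
  3 ≠ p → (∀ a ∈ Ψ, X.Rt a) → t ∈ X.T → v ≠ 0 → Pp X Ψ v → Mv X Ψ t →
  ∀ a ∈ Ψ, ∀ b ∈ Ψ, X.χ a t = 1 → X.χ b t = 1 → X.wt a ⬝ᵥ X.cor b ≠ -1

/-- [N2] the centre is not in the central torus -/
def BoxN2 : Prop := AllD fun {p} _ _ _ _ {Y} _ _ _ _ _ _ _ _ X => ∀ (S : Subgroup Y) (t : Y), TE X 6 → 3 ≠ p →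
  Z0 X S = S → t ∈ X.T → Mv X (X.Sz S) t → ¬ mu X ≤ S

/-- [N3] the type of a pair -/
def BoxN3 : Prop := AllD fun {p} _ _ _ _ {Y} _ _ _ _ _ _ _ _ X => ∀ g x : Y, TE X 6 → 3 ≠ p → g ∈ X.T → x ∈ X.T →
  g ^ 3 ∈ mu X → Mv X {a | X.Rt a} g → Mv X (X.Sz {g}) x → T3 X g

/-- [END] a regular plane -/
def BoxEnd : Prop := AllD fun {_} _ _ _ _ {Y} _ _ _ _ _ {F} _ _ X => ∀ (D : Subgroup Y) (y g x d : Y), TE X 6 →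
  St X D ⊥ y → (∀ ζ ∈ mu X, F ζ = ζ) → g ∈ X.T → x ∈ X.T → C2 (mu X) D g → C2 (mu X) D x → g ^ 3 ∈ mu X →
  x ^ 3 ∈ mu X → T3 X g → X.Sz {g, x} = ∅ → d ∈ D → d * g = g * d → d * x ≠ x * d → False

/-- [SLOC] the local theorem -/
def BoxSLoc : Prop := AllD fun {_} _ _ _ _ {Y} _ _ _ _ _ {F} _ _ X => ∀ (D S : Subgroup Y) (y : Y), TE X 6 →
  St X D S y → (∀ ζ ∈ mu X, F ζ = ζ) → (∃ a ∈ D, ∃ b ∈ D, a * b * a⁻¹ * b⁻¹ ∉ mu X) →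
  (∀ g, C2 (mu X) D g → g ∈ Zn D) ∨ (IsCyclic ↥(D ⊓ S) ∧
    ∃ g ∈ D, ∀ x, C2 (mu X) D x → ∃ i : Fin 3, (g ^ (i : ℕ))⁻¹ * x ∈ (D ⊓ S) ⊔ mu X)

end Cfsg.Agent.RC.B.Sim
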