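import Cfsg.Agent.RC.B.Kit
import Cfsg.Agent.RC.B.PK
import Cfsg.Agent.RC.B.Tri
import Cfsg.Agent.RC.B.Zl

/-!
# RC, `E₆`, `l = 3` : elements which are conjugate to a central multiple (helper98)
-/

set_option autoImplicit false
set_option linter.unusedSectionVars false

namespace Cfsg.Agent.RC.B

open Cfsg Cfsg.Lie Cfsg.Agent.DL Cfsg.Agent.Nodes.Reps Matrix Subgroup Cfsg.Agent.KM.Ht Cfsg.Agent.KM.Tor
open Cfsg.Agent.KZ.DatX Cfsg.Agent.Nodes.RGDChev Cfsg.Agent.Nodes.Coroot Cfsg.Agent.ChevalleyStructure.NPerm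
  Cfsg.Agent.ChevalleyStructure.CoxeterGeom Cfsg.Agent.ChevalleyStructure.CoxeterGeomTypes Cfsg.Agent.Tits.Roots
open Cfsg.Agent.TO.X.Cn (Pi1 pm_E6 χ_pow)
open Cfsg.Agent.H931.KC (hr Kac)
open Cfsg.Agent.KM.Ex (sr_dot)

namespace SG

/-! ### the lattice -/

/-- the radical of `Q / 3 Q` -/
def b0 : Fin 6 → ℤ := ![1, 0, -1, 0, 1, -1]

theorem car : ∀ i j, cartanOf chevE6 6 i j = (![![2, 0, -1, 0, 0, 0], ![0, 2, 0, -1, 0, 0], ![-1, 0, 2, -1, 0, 0],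
    ![0, -1, -1, 2, -1, 0], ![0, 0, 0, -1, 2, -1], ![0, 0, 0, 0, -1, 2]] : Fin 6 → Fin 6 → ℤ) i j := by decide +kernel

theorem rad {β : Fin 6 → ℤ} (h : ∀ i, 3 ∣ co chevE6 6 β i) (i : Fin 6) : 3 ∣ β i - β 0 * b0 i := by
  have h0 := h 0
  have h1 := h 1
  have h2 := h 2
  have h3 := h 3
  have h4 := h 4
  have h5 := h 5
  simp [co, car, Fin.sum_univ_six] at h0 h1 h2 h3 h4 h5
  fin_cases i <;> simp [b0] <;> omega

theorem hr6 : hr chevE6 6 = ![1, 2, 2, 3, 2, 1] := by decide +kernel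

/-- the certificates -/
def dl : List (Fin 6 → ℤ) := [![-2, 0, 0, 0, 1, 0], ![-2, 1, 0, 0, 0, 0], ![-1, 0, 0, 0, 0, 0], ![-1, 0, 0, 0, 0, 1],
  ![0, -1, 0, 0, 0, 2], ![0, 0, -1, 0, 0, 0], ![0, 0, -1, 0, 0, 2], ![0, 0, 0, 0, -1, 0], ![0, 0, 0, 0, 0, -1]]

/-- the types of the forms modulo three -/
def Ty3 (c : Fin 6 → ℤ) : Prop := (∀ i, 3 ∣ c i) ∨ c = sr 3 ∨
  (∃ δ ∈ dl, ¬ 3 ∣ δ ⬝ᵥ b0 ∧ ∀ s : Fin chevE6.nroots, 3 ∣ vec chevE6 6 s ⬝ᵥ c → δ ⬝ᵥ vec chevE6 6 s = 0) ∨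
  ∃ s : Fin chevE6.nroots, ∀ i, 3 ∣ c i - co chevE6 6 (vec chevE6 6 s) i

instance Ty3.dec (c : Fin 6 → ℤ) : Decidable (Ty3 c) := by unfold Ty3; infer_instance

theorem ty3' : ∀ a b c d e f : Fin 4, a.1 + 2 * b.1 + 2 * c.1 + 3 * d.1 + 2 * e.1 + f.1 ≤ 3 →
    Ty3 ![a.1, b.1, c.1, d.1, e.1, f.1] := by decide +kernel

theorem ty3 {c : Fin 6 → ℕ} (h : c 0 + 2 * c 1 + 2 * c 2 + 3 * c 3 + 2 * c 4 + c 5 ≤ 3) : Ty3 fun i => c i := by
  have h1 := ty3' ⟨c 0, by omega⟩ ⟨c 1, by omega⟩ ⟨c 2, by omega⟩ ⟨c 3, by omega⟩ ⟨c 4, by omega⟩ ⟨c 5, by omega⟩ h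
  convert h1 using 2 with i
  fin_cases i <;> rfl

theorem two_rt : ∀ s t : Fin chevE6.nroots, (¬ ∀ i, 3 ∣ vec chevE6 6 t i - vec chevE6 6 s i - b0 i) ∧
    ¬ ∀ i, 3 ∣ vec chevE6 6 t i - vec chevE6 6 s i + b0 i := by decide +kernel

theorem cnt18 : (Finset.univ.filter fun s : Fin chevE6.nroots => 3 ∣ vec chevE6 6 s 3).card = 18 := by decide +kernel

theorem cnt72 : (Finset.univ.filter fun _ : Fin chevE6.nroots => True).card = 72 := by decide +kernel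

/-! ### coordinates -/

variable {p : ℕ} [Fact p.Prime] {k : Type} [Field k] [CharP k p] {Y : Type} [Group Y] {N : Type} [Fintype N]
  [DecidableEq N] {ρ : Y →* GL N k} {F : MulAut Y} {G : Subgroup Y} [IsAlgClosed k] {X : Datum p ρ F G}
  {Mx : Matrix (Fin 6) (Fin 6) ℤ} {X₀ : XF hpE6 p k Mx} (K : Kit X X₀) {ξ : kˣ} {t g x m ζ : Y} {w : X.W}

/-- the element with the coordinates `β` -/
noncomputable def el (ξ : kˣ) (β : Fin 6 → ℤ) : Y := X.τ (coch (K.ψ β) ξ)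

theorem el_T (ξ : kˣ) (β : Fin 6 → ℤ) : el K ξ β ∈ X.T := X.τ_mem _

theorem el_add (ξ : kˣ) (β γ : Fin 6 → ℤ) : el K ξ (β + γ) = el K ξ β * el K ξ γ := by
  rw [el, map_add, coch_add, map_mul]
  rfl

theorem el_smul (ξ : kˣ) (n : ℤ) (β : Fin 6 → ℤ) : el K ξ (n • β) = el K ξ β ^ n := by
  rw [el, map_zsmul, coch_zsmul, map_zpow, map_zpow]
  rfl

theorem χ_el (a : X.I → ℤ) (ξ : kˣ) (β : Fin 6 → ℤ) :
    X.χ a (el K ξ β) = (ξ ^ (K.e a ⬝ᵥ co chevE6 6 β) : kˣ) := K.χ_ψ a β ξ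

theorem inv1 {δ : Fin 6 → ℤ} {Ψ : Set (X.I → ℤ)} (h0 : ∀ r ∈ Ψ, X.Rt r) (h : ∀ r ∈ Ψ, δ ⬝ᵥ K.e r = 0)
    (hw : w ∈ closure (X.rf '' Ψ)) (a : X.I → ℤ) : δ ⬝ᵥ K.e (X.act w a) = δ ⬝ᵥ K.e a := by
  induction hw using closure_induction_left with
  | one => rw [Kit.act_one']
  | mul_left r hr w _ ih =>
    obtain ⟨r, hr, rfl⟩ := hr
    rw [act_mul', K.act_rf (h0 r hr), dotProduct_sub, dotProduct_smul, h r hr, smul_zero, sub_zero, ih]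
  | inv_mul_cancel r hr w _ ih =>
    obtain ⟨r, hr, rfl⟩ := hr
    rw [inv_eq_of_mul_eq_one_right (X.rf_mul_self (h0 r hr)), act_mul', K.act_rf (h0 r hr), dotProduct_sub,
      dotProduct_smul, h r hr, smul_zero, sub_zero, ih]

theorem inv2 {n : ℤ} {a : X.I → ℤ} (h : ∀ i, n ∣ co chevE6 6 (K.e a) i) (w : X.W) :
    ∀ i, n ∣ K.e (X.act w a) i - K.e a i := by
  induction w using X.cs.simple_induction_left with
  | one => simp [Kit.act_one']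
  | mul_simple_left w j ih =>
    have hj := isRoot_sr X.cs X.h j
    choose u hu using ih
    have h1 : K.e (X.act w a) = K.e a + n • u := funext fun i => by
      rw [Pi.add_apply, Pi.smul_apply, smul_eq_mul, ← hu, add_sub_cancel]
    have h2 : n ∣ K.e (X.act w a) ⬝ᵥ co chevE6 6 (K.e (sr j)) := by
      rw [h1, add_dotProduct, smul_dotProduct, co_comm sl_E6]
      exact dvd_add (Finset.dvd_sum fun i _ => (h i).mul_left _) (Dvd.intro _ rfl)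
    intro i
    rw [← X.rf_sr, act_mul', K.act_rf hj, Pi.sub_apply, Pi.smul_apply, sub_right_comm, hu]
    exact dvd_sub (Dvd.intro _ rfl) (h2.mul_right _)

variable (H : Ok X chevE6 6 1)
include H

theorem conj_el (hm : X.Rp w m) (ξ : kˣ) (β : Fin 6 → ℤ) :
    m * el K ξ β * m⁻¹ = el K ξ (K.e (X.act w (K.e.symm β))) := by
  have h1 : X.act w (K.e.symm β) = ∑ i, β i • X.act w (K.e.symm (sr i)) := by
    conv_lhs => rw [sum_sr β, map_sum K.e.symm]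
    exact (map_sum (rep X.cs X.h w) _ _).trans (Finset.sum_congr rfl fun i _ => by rw [map_zsmul, map_zsmul])
  rw [el, el, X.conj_τ hm, mon_coch, h1, map_sum K.e, map_sum K.ψ, K.ψ_apply, mulVec_sum]
  refine congrArg (fun v => X.τ (coch v ξ)) (Finset.sum_congr rfl fun i _ => ?_)
  rw [mulVec_smul, map_zsmul, map_zsmul, ← X.cor_act w (K.rt_sr i), K.cor_eq H ((K.rt_sr i).act w)]

variable (hξ : orderOf ξ = 9)
include hξ

theorem el_eq {β γ : Fin 6 → ℤ} : el K ξ β = el K ξ γ ↔ ∀ i, 9 ∣ β i - γ i := by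
  have h1 := K.τ_ψ_eq_one H (β - γ) ξ
  rw [hξ] at h1
  refine Iff.trans ?_ h1
  rw [show X.τ (coch (K.ψ (β - γ)) ξ) = el K ξ (β + (-1 : ℤ) • γ) by rw [neg_one_smul, ← sub_eq_add_neg]; rfl, el_add,
    el_smul, _root_.zpow_neg_one, mul_inv_eq_one]

theorem exists_el (ht : t ∈ X.T) (h : t ^ 9 = 1) : ∃ β, t = el K ξ β := by
  obtain ⟨ζ, β, -, h1, rfl⟩ := K.exists_el H ht
  have h2 : IsPrimitiveRoot (ξ : k) 9 := IsPrimitiveRoot.coe_units_iff.2 (hξ ▸ IsPrimitiveRoot.orderOf ξ)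
  have h3 : ζ ^ 9 = 1 := orderOf_dvd_iff_pow_eq_one.1 (h1.trans (orderOf_dvd_of_pow_eq_one h))
  obtain ⟨i, -, hi⟩ := h2.eq_pow_of_pow_eq_one (ξ := (ζ : k)) (by rw [← Units.val_pow_eq_pow_val, h3, Units.val_one])
  refine ⟨(i : ℤ) • β, ?_⟩
  rw [el_smul, el, ← map_zpow, ← map_zpow, zpow_natCast, show ξ ^ i = ζ from Units.ext (by rw [← hi]; rfl)]

omit H in
theorem χ_eq_one {a : X.I → ℤ} {β : Fin 6 → ℤ} : X.χ a (el K ξ β) = 1 ↔ 9 ∣ K.e a ⬝ᵥ co chevE6 6 β := by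
  rw [χ_el, Units.val_eq_one, ← orderOf_dvd_iff_zpow_eq_one, hξ]
  rfl

/-- the central `3`-elements -/
theorem cen_el (ht : t ∈ Zc X {a | X.Rt a}) (h : t ^ 9 = 1) : ∃ ε : ℤ, t = el K ξ ((3 * ε) • b0) := by
  obtain ⟨β, rfl⟩ := exists_el K H hξ ht.1 h
  have h1 : ∀ i, 9 ∣ co chevE6 6 β i := fun i => by
    have h2 := (χ_eq_one K hξ).1 (ht.2 _ (K.rt_sr i))
    rwa [AddEquiv.apply_symm_apply, sr_dot] at h2
  choose u hu using h1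
  obtain ⟨γ, hγ⟩ := pm_co pm_E6 u
  have h3 : ∀ i, 3 * u i = co chevE6 6 γ i := fun i => congrFun hγ i
  obtain rfl : β = (3 : ℤ) • γ := co_inj sl_E6 (by decide) pm_E6 (funext fun i => by
    rw [co_smul, hu, Pi.smul_apply, ← h3, smul_eq_mul]; ring)
  refine ⟨γ 0, (el_eq K H hξ).2 fun i => ?_⟩
  obtain ⟨v, hv⟩ := rad (fun i => h3 i ▸ Dvd.intro _ rfl) i
  exact ⟨v, by rw [Pi.smul_apply, Pi.smul_apply, smul_eq_mul, smul_eq_mul]; linear_combination 3 * hv⟩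

theorem b0_cube (ε : ℤ) : el K ξ ((3 * ε) • b0) ^ 3 = 1 := by
  rw [← zpow_natCast, ← el_smul, ← zpow_zero (el K ξ 0), ← el_smul, el_eq K H hξ]
  exact fun i => ⟨ε * b0 i, by simp only [Pi.smul_apply, smul_eq_mul]; push_cast; ring⟩

include K in
theorem cen_mu (ht : t ∈ Zc X {a | X.Rt a}) (h : t ^ 9 = 1) : t ∈ mu X := ⟨ht, by
  obtain ⟨ε, rfl⟩ := cen_el K H hξ ht h
  exact b0_cube K H hξ ε⟩

theorem mu_el (h : ζ ∈ mu X) (h1 : ζ ≠ 1) : ∃ ε : ℤ, ¬ 3 ∣ ε ∧ ζ = el K ξ ((3 * ε) • b0) := by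
  obtain ⟨ε, hε⟩ := cen_el K H hξ h.1 (by rw [show 9 = 3 * 3 from rfl, pow_mul, h.2, one_pow])
  refine ⟨ε, ?_, hε⟩
  rintro ⟨j, rfl⟩
  exact h1 (by rw [hε, show 3 * (3 * j) = 3 * (3 * j) from rfl, ← b0_cube K H hξ j, ← zpow_natCast, ← el_smul, smul_smul]; rfl)

include K in
/-- the centre is cyclic -/
theorem mu_cyc (h : ζ ∈ mu X) (h1 : ζ ≠ 1) (ht : t ∈ mu X) : ∃ j : ℤ, t = ζ ^ j := by
  obtain ⟨ε, h2, rfl⟩ := mu_el K H hξ h h1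
  obtain ⟨η, rfl⟩ := cen_el K H hξ ht.1 (by rw [show 9 = 3 * 3 from rfl, pow_mul, ht.2, one_pow])
  refine ⟨ε * η, ?_⟩
  rw [← el_smul, el_eq K H hξ]
  obtain ⟨v, hv⟩ : 3 ∣ 1 - ε * ε := by
    have : ε % 3 = 1 ∨ ε % 3 = 2 := by omega
    rcases this with e | e
    · exact ⟨-(ε / 3) * (3 * (ε / 3) + 2), by nth_rw 1 2 [← Int.mul_ediv_add_emod ε 3, e]; ring⟩
    · exact ⟨-(ε / 3 + 1) * (3 * (ε / 3) + 1), by nth_rw 1 2 [← Int.mul_ediv_add_emod ε 3, e]; ring⟩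
  exact fun i => ⟨η * v * b0 i, by
    simp only [Pi.smul_apply, smul_eq_mul]; linear_combination 3 * η * b0 i * hv⟩

include K in
/-- **the type `A₂ ^ 3`** -/
theorem typ (hg : g ∈ X.T) (hx : x ∈ X.T) (g3 : g ^ 3 ∈ mu X) (x9 : x ^ 9 = 1) (hm : X.Rp w m) (hζ : ζ ∈ mu X)
    (hζ1 : ζ ≠ 1) (e : m * g * m⁻¹ = g * ζ) {w' : X.W} {m' ζ' : Y} (hm' : X.Rp w' m')
    (hw' : w' ∈ closure (X.rf '' X.Sz {g})) (hζ' : ζ' ∈ mu X) (hζ1' : ζ' ≠ 1) (e' : m' * x * m'⁻¹ = x * ζ') :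
    ∃ K' : Kit X X₀, ∀ a, X.χ a g = ((ξ ^ 3) ^ K'.e a 3 : kˣ) := by
  have g9 : g ^ 9 = 1 := by rw [show 9 = 3 * 3 from rfl, pow_mul, g3.2]
  obtain ⟨β, hβ⟩ := exists_el K H hξ hg g9
  obtain ⟨K', c, c0, d, hK, hc⟩ := K.kac sl_E6 (m := 9) (by decide) (K.ψ β)
  obtain ⟨β', hβ'⟩ := K'.exists_ψ H (K.ψ β)
  rw [hβ', K'.φ_ψ] at hc
  obtain rfl : g = el K' ξ β' := by rw [hβ, el, hβ', el]
  clear hβ hβ'
  have h1 : ∀ i, 3 ∣ c i := fun i => by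
    have h2 := g3.1.2 _ (K'.rt_sr i)
    rw [← zpow_natCast, ← el_smul, χ_eq_one K' hξ, AddEquiv.apply_symm_apply, sr_dot, co_smul, hc] at h2
    simp only [Pi.smul_apply, Pi.add_apply, smul_eq_mul] at h2
    omega
  choose c' hc' using h1
  have h2 : ∀ a : Fin 6 → ℤ, a ⬝ᵥ co chevE6 6 β' = 3 * (a ⬝ᵥ fun i => (c' i : ℤ)) + 9 * (a ⬝ᵥ d) := fun a => by
    simp only [hc, dotProduct, Fin.sum_univ_six, hc', Pi.add_apply, Pi.smul_apply, smul_eq_mul]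
    push_cast
    ring
  have h3 := hK.sum
  rw [hr6, Fin.sum_univ_six] at h3
  simp only [hc'] at h3
  simp at h3
  rcases ty3 (c := c') (by omega) with h4 | h4 | ⟨δ, -, h4, h5⟩ | ⟨s, h4⟩
  · refine absurd ?_ hζ1
    have h5 : el K' ξ β' ∈ Zc X {a | X.Rt a} := ⟨hg, fun a _ => (χ_eq_one K' hξ).2 (by
      obtain ⟨v, hv⟩ : 3 ∣ K'.e a ⬝ᵥ fun i => (c' i : ℤ) := Finset.dvd_sum fun i _ => (h4 i).mul_left _
      rw [h2, hv]
      omega)⟩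
    rwa [Ln.Zc_cen (fun _ h => h) h5 (X.G_eq.ge hm.mem_G), mul_inv_cancel_right, left_eq_mul] at e
  · refine ⟨K', fun a => ?_⟩
    rw [χ_el, h2, h4, dotProduct_comm _ (sr 3), sr_dot, _root_.zpow_add, _root_.zpow_mul, _root_.zpow_mul, show ξ ^ (9 : ℤ) = 1 from
      (zpow_natCast ξ 9).trans (hξ ▸ pow_orderOf_eq_one ξ), _root_.one_zpow, mul_one]
    rfl
  · obtain ⟨γ, rfl⟩ := exists_el K' H hξ hx x9
    obtain ⟨ε, h6, rfl⟩ := mu_el K' H hξ hζ' hζ1'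
    rw [conj_el K' H hm', ← el_add, el_eq K' H hξ] at e'
    have h7 := inv1 K' (δ := δ) X.Sz_root (fun r hr => K'.forall_rt
      (Q := fun a => 3 ∣ (a ⬝ᵥ fun i => (c' i : ℤ)) → δ ⬝ᵥ a = 0) h5 hr.1 (by
        have h7 := (χ_eq_one K' hξ).1 (hr.2 _ rfl)
        rw [h2] at h7
        omega)) hw' (K'.e.symm γ)
    choose u hu using e'
    rw [AddEquiv.apply_symm_apply, show K'.e (X.act w' (K'.e.symm γ)) = γ + (3 * ε) • b0 + (9 : ℤ) • u from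
      funext fun i => by rw [Pi.add_apply, Pi.smul_apply, smul_eq_mul, ← hu, add_sub_cancel], dotProduct_add,
      dotProduct_add, dotProduct_smul, dotProduct_smul, smul_eq_mul, smul_eq_mul] at h7
    exact ((Int.prime_three.dvd_or_dvd (a := ε) (b := δ ⬝ᵥ b0) ⟨-(δ ⬝ᵥ u), mul_left_cancel₀ three_ne_zero
      (by linear_combination h7)⟩).elim h6 h4).elim
  · obtain ⟨ε, h6, rfl⟩ := mu_el K' H hξ hζ hζ1
    rw [conj_el K' H hm, ← el_add, el_eq K' H hξ] at e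
    have h7 := inv2 K' (n := 9) (a := K'.e.symm (β' - (3 : ℤ) • vec chevE6 6 s)) (fun i => by
      have h7 : 3 ∣ (c' i : ℤ) - co chevE6 6 (vec chevE6 6 s) i := h4 i
      rw [AddEquiv.apply_symm_apply, co_sub, co_smul, hc]
      simp only [Pi.smul_apply, Pi.add_apply, Pi.sub_apply, smul_eq_mul, hc']
      push_cast
      omega) w
    refine (K'.forall_rt (Q := fun a => ¬ ∀ i, 3 ∣ a i - vec chevE6 6 s i - ε * b0 i) (fun t h => ?_)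
      ((K'.rt_vec s).act w) fun i => ?_).elim
    · obtain ⟨v, rfl | rfl⟩ : ∃ v, ε = 3 * v + 1 ∨ ε = 3 * v - 1 := ⟨(ε + 1) / 3, by omega⟩
      · exact (two_rt s t).1 fun i => (dvd_add (h i) (Dvd.intro (v * b0 i) rfl)).trans (dvd_of_eq (by ring))
      · exact (two_rt s t).2 fun i => (dvd_add (h i) (Dvd.intro (v * b0 i) rfl)).trans (dvd_of_eq (by ring))
    · have h8 := h7 i
      have h9 := e i
      rw [AddEquiv.apply_symm_apply, map_sub, map_zsmul, Datum.act, map_sub, map_zsmul, map_sub, map_zsmul] at h8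
      simp only [Pi.smul_apply, Pi.add_apply, Pi.sub_apply, smul_eq_mul, mul_assoc] at h8 h9
      change 9 ∣ K'.e (X.act w (K'.e.symm β')) i - 3 * K'.e (X.act w (K'.e.symm (vec chevE6 6 s))) i - _ at h8
      change 3 ∣ K'.e (X.act w (K'.e.symm (vec chevE6 6 s))) i - _ - _
      omega

end SG

end Cfsg.Agent.RC.B
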