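import Cfsg.Agent.RC.B.SimD
import Cfsg.Agent.RC.B.Dec
import Cfsg.Agent.KM.Tor.One
import Cfsg.Agent.KM.Tor.TW
import Cfsg.Agent.Lib.NormalAbelian

/-!
# RC (S4576): `boxAB : BoxAB` (helper10)
-/

set_option autoImplicit false
set_option linter.unusedSectionVars false

namespace Cfsg.Agent.RC.B.Sim

open Cfsg Cfsg.Agent.DL Cfsg.Agent.Nodes.Reps Cfsg.Agent.Nodes.BNOf Matrix Subgroup Cfsg.Agent.KM.Ht Cfsg.Agent.KM.Tor
open Cfsg.Agent.KM.Tor.TW (pr pr_neg bd)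

variable {p : ℕ} [Fact p.Prime] {k : Type} [Field k] [CharP k p] {Y : Type} [Group Y] {N : Type} [Fintype N]
  [DecidableEq N] {ρ : Y →* GL N k} {F : MulAut Y} {G : Subgroup Y} [IsAlgClosed k] {X : Datum p ρ F G}
  {Z : Set Y} {d x : Y} {w : X.W}

namespace AB

theorem sq_one (hS : Sl X) (h : ∀ a ∈ X.Sz Z, ∀ b ∈ X.Sz Z, X.wt a ⬝ᵥ X.cor b ≠ -1) (hw : w ∈ closure (X.rf '' X.Sz Z)) :
    w * w = 1 := by
  have h1 : ∀ a ∈ X.Sz Z, closure (X.rf '' X.Sz Z) ≤ centralizer {X.rf a} := fun a ha => (closure_le _).2 (by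
    rintro _ ⟨b, hb, rfl⟩
    refine mem_centralizer_singleton_iff.2 ?_
    by_cases e1 : a = b
    · rw [e1]
    by_cases e2 : a = -b
    · rw [e2, X.rf_neg hb.1]
    have k1 := bd hS ha.1 hb.1 e1 e2
    have k2 : pr X a b ≠ -1 := h a ha b hb
    have k3 : pr X (-a) b ≠ -1 := h _ (X.Sz_neg ha) b hb
    rw [pr_neg] at k3
    have k4 := X.rf_act' (X.rf b) ha.1
    rw [TW.act_rf hb.1, show pr X a b = 0 by omega, zero_smul, sub_zero] at k4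
    exact mul_inv_eq_iff_eq_mul.1 k4.symm)
  induction hw using closure_induction_left with
  | one => exact one_mul _
  | inv_mul_cancel r hr w hw ih | mul_left r hr w hw ih =>
    obtain ⟨a, ha, rfl⟩ := hr
    try rw [inv_eq_of_mul_eq_one_right (X.rf_mul_self ha.1)]
    rw [mul_assoc, ← mul_assoc w, mem_centralizer_singleton_iff.1 (h1 a ha hw), mul_assoc, ih, mul_one, X.rf_mul_self ha.1]

theorem mem_of_sq {H : Subgroup Y} (h : Odd (orderOf d)) (h1 : d * d ∈ H) : d ∈ H := by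
  obtain ⟨j, hj⟩ := h
  have h2 : (d * d) ^ (j + 1) = d := by
    rw [← pow_two, ← pow_mul, show 2 * (j + 1) = orderOf d + 1 by omega, pow_succ, pow_orderOf_eq_one, one_mul]
  exact h2 ▸ pow_mem h1 _

theorem step (hS : Sl X) (hZ : Z ⊆ X.T) (h : ∀ a ∈ X.Sz Z, ∀ b ∈ X.Sz Z, X.wt a ⬝ᵥ X.cor b ≠ -1) (hx : x ∈ X.T)
    (hd : d ∈ X.cen Z) (h1 : Odd (orderOf d)) (h2 : d * x * d⁻¹ * x⁻¹ ∈ Zc X (X.Sz Z))
    (h3 : Odd (orderOf (d * x * d⁻¹ * x⁻¹))) : d ∈ X.cen (insert x Z) := by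
  obtain ⟨z, hz⟩ : ∃ z, z = d * x * d⁻¹ * x⁻¹ := ⟨_, rfl⟩
  rw [← hz] at h2 h3
  obtain ⟨c, h4, m, ⟨w, h5⟩, h6, e⟩ := X.exists_conj_form (s := fun i : Option Z => i.elim x (↑))
    (t := fun i => i.elim (z * x) (↑)) (Option.forall.2 ⟨hx, fun i => hZ i.2⟩)
    (Option.forall.2 ⟨mul_mem h2.1 hx, fun i => hZ i.2⟩) (X.cen_le_G _ hd)
    (Option.forall.2 ⟨by simp [hz], fun i => (X.cen_le_centralizer hZ hd i i.2).symm⟩)
  have h7 : c ∈ X.cen (insert x Z) := X.S_le_cen _ (RGD.Sup_mono (fun a ha => by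
    have k1 : a ∈ X.Sz Z := ⟨ha.1, fun u hu => ha.2 u ⟨some ⟨u, hu⟩, rfl⟩⟩
    have k2 : X.χ a (z * x) = 1 := ha.2 _ ⟨none, rfl⟩
    rw [X.χ_mul a h2.1 hx, h2.2 a k1, one_mul] at k2
    exact ⟨ha.1, Set.forall_mem_insert.2 ⟨k2, k1.2⟩⟩) h4)
  have h8 : m ∈ X.cen Z := by
    rw [show m = c⁻¹ * d by rw [e]; group]
    exact mul_mem (inv_mem (X.cen_anti (Set.subset_insert _ _) h7)) hd
  have h9 : m * m ∈ X.T := Rp.mem_of_one (sq_one hS h (Dec.mem_clo hZ h5 h8) ▸ h5.mul h5)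
  have h10 : m * x = z * x * m := h6 none
  have h11 := One.Zc_comm hZ h2 h8
  have h12 : z = 1 := mem_bot.1 (mem_of_sq h3 (mem_bot.2 (mul_right_cancel (b := x * (m * m)) (by
    rw [one_mul]
    nth_rw 2 [← X.T_comm h9 hx]
    rw [mul_assoc m, h10, ← mul_assoc m, ← mul_assoc m, h11, mul_assoc z m, h10]
    group))))
  rw [h12, one_mul] at h10
  refine mem_of_sq h1 ?_
  rw [show d * d = c * (m * c * m⁻¹) * (m * m) by rw [e]; group]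
  exact mul_mem (mul_mem h7 (X.conj_mem_cen (Set.insert_subset hx hZ) (X.cen_le_G _ h8)
    (Set.forall_mem_insert.2 ⟨h10.symm, X.cen_le_centralizer hZ h8⟩) h7)) (X.T_le_cen _ h9)

end AB

open AB in
/-- **AB** -/
theorem boxAB : BoxAB := by
  intro p _ k _ _ Y _ N _ _ ρ F G _ X l Z P hl hp h2 hS
  induction hn : (X.Sz Z).ncard using Nat.strong_induction_on generalizing Z P with
  | _ n ih =>
  intro hf hZ h hP hl' hc
  by_cases h0 : P ≤ Zc X (X.Sz Z)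
  · exact fun a ha b hb => X.T_comm (h0 ha).1 (h0 hb).1
  have := Fact.mk hl
  have := hl'.isNilpotent
  have ho : ∀ (g : Y), ∀ a ∈ P, ∃ j, orderOf (g⁻¹ * a * g) = l ^ j := fun g a ha => by
    obtain ⟨j, hj⟩ := IsPGroup.iff_orderOf.1 hl' ⟨a, ha⟩
    exact ⟨j, by rw [← hj, ← MulAut.conj_inv_apply, MulEquiv.orderOf_eq, orderOf_mk]⟩
  obtain ⟨x, -, h3, h4⟩ := Lib.NormalAbelian.exists_mem_not_mem_central_mod (A := (Zc X (X.Sz Z)).subgroupOf P) (C := ⊤)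
    ⟨fun a ha g => mem_subgroupOf.2 (by
      rw [coe_mul, coe_mul, coe_inv, One.Zc_comm hZ (mem_subgroupOf.1 ha) (hc g.2), mul_inv_cancel_right]; exact ha)⟩ inferInstance
    fun e => h0 fun c hc => e (x := ⟨c, hc⟩) trivial
  obtain ⟨g, hg, h5⟩ := toral_cen hZ hf (hc x.2) fun e => by
    obtain ⟨j, hj⟩ := ho 1 x x.2
    rw [inv_one, one_mul, mul_one] at hj
    exact hp ((Nat.prime_dvd_prime_iff_eq Fact.out hl).1 ((Fact.out : p.Prime).dvd_of_dvd_pow (hj ▸ e))).symm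
  have h6 : ∀ z ∈ Zc X (X.Sz Z), g⁻¹ * z * g = z := fun z hz => by
    rw [mul_assoc, ← One.Zc_comm hZ hz hg, inv_mul_cancel_left]
  have h7 : ∀ a ∈ P, Odd (orderOf (g⁻¹ * a * g)) := fun a ha => by
    obtain ⟨j, hj⟩ := ho g a ha
    exact hj ▸ (hl.odd_of_ne_two h2).pow
  have h8 : X.Sz (insert (g⁻¹ * x * g) Z) ⊆ X.Sz Z := fun a ha => ⟨ha.1, fun z hz => ha.2 z (.inr hz)⟩
  have h9 := ih _ (hn ▸ Set.ncard_lt_ncard ⟨h8, fun e => h3 (mem_subgroupOf.2 (by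
      have k1 : g⁻¹ * x * g ∈ Zc X (X.Sz Z) := ⟨h5, fun a ha => (e ha).2 _ (.inl rfl)⟩
      rwa [show (x : Y) = g⁻¹ * x * g from (MulAut.conj g⁻¹).injective (by simpa using (h6 _ k1).symm)]))⟩
      (X.finite_roots.subset X.Sz_root)) _ (P.map (MulAut.conj g⁻¹).toMonoidHom) rfl (hf.insert _) (Set.insert_subset h5 hZ)
    (fun a ha b hb => h a (h8 ha) b (h8 hb)) (Finite.of_surjective _ (MonoidHom.subgroupMap_surjective _ P)) (hl'.map _) (by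
      rintro _ ⟨d, hd, rfl⟩
      have k1 : d * x * d⁻¹ * (x : Y)⁻¹ ∈ Zc X (X.Sz Z) := by simpa [mul_assoc] using inv_mem (mem_subgroupOf.1 (h4 ⟨d, hd⟩))
      have k2 : g⁻¹ * d * g * (g⁻¹ * x * g) * (g⁻¹ * d * g)⁻¹ * (g⁻¹ * x * g)⁻¹ = g⁻¹ * (d * x * d⁻¹ * (x : Y)⁻¹) * g := by group
      simpa using step hS hZ h h5 (mul_mem (mul_mem (inv_mem hg) (hc hd)) hg) (h7 d hd) (by rwa [k2, h6 _ k1])
        (k2 ▸ h7 _ (mul_mem (mul_mem (mul_mem hd x.2) (inv_mem hd)) (inv_mem x.2))))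
  exact fun a ha b hb => (MulAut.conj g⁻¹).injective (by
    rw [map_mul, map_mul]; exact h9 _ ⟨a, ha, rfl⟩ _ ⟨b, hb, rfl⟩)

end Cfsg.Agent.RC.B.Sim
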