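import Cfsg.Agent.RC.B.Main
import Cfsg.Agent.RC.B.SimD
import Cfsg.Agent.RC.B.PK
import Cfsg.Agent.RC.A.Desc

/-!
# RC (S4576), the simple groups of type `E₆` at `3` : the lift of the block (helper98)
-/

set_option autoImplicit false
set_option linter.unusedSectionVars false

namespace Cfsg.Agent.RC.B.Sim

open Cfsg Cfsg.Agent.DL Subgroup Cfsg.Agent.KM.Ht Cfsg.Agent.KM.Tor Cfsg.Agent.Blocks.Basic
open Cfsg.Agent.KM.Mu (Rob RCg fac_mul fac_mono card_comap')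

namespace Lift

variable {K : Type} [Group K]

theorem card_Zn (D : Subgroup K) : Nat.card (Zn D) = Nat.card (center D) := by
  rw [← card_map_of_injective (K := center D) D.subtype_injective]
  refine congrArg (fun H : Subgroup K => Nat.card H) (Subgroup.ext fun x => ⟨fun h => ⟨⟨x, h.1⟩,
    mem_center_iff.2 fun g => Subtype.ext (h.2 g g.2), rfl⟩, ?_⟩)
  rintro ⟨z, hz, rfl⟩
  exact ⟨z.2, fun g hg => congrArg Subtype.val (mem_center_iff.1 hz ⟨g, hg⟩)⟩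

/-- the lift of a block through a central kernel -/
theorem exists_lift {l : ℕ} [Fact l.Prime] {M : Ideal AlgInt} (hM : IsPModular l M) {Γ : Type} [Group Γ] [Finite Γ]
    {π : Γ →* K} (hπ : Function.Surjective π) (hk : π.ker ≤ center Γ) {b : Set (IrrCharacter K)} (hb : IsPBlock M b)
    {D : Subgroup K} (hD : IsDefectGroup l M b D) {χ : IrrCharacter K} (hχ : χ ∈ b) :
    ∃ (B : Set (IrrCharacter Γ)) (E : Subgroup Γ) (ϑ : IrrCharacter Γ), IsPBlock M B ∧ IsDefectGroup l M B E ∧ ϑ ∈ B ∧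
      E.map π = D ∧ charDegree (ϑ : Γ → ℂ) = charDegree (χ : K → ℂ) := by
  have := hM.2.1.isPrime
  have := Finite.of_surjective π hπ
  let ϑ : IrrCharacter Γ := ⟨_, Characters.Core.isIrr_comp π hπ χ.2⟩
  have hB := isPBlock_blockOf (M := M) ϑ
  obtain ⟨E, hE⟩ := H644.exists_isDefectGroup hM hB
  obtain ⟨x, hx⟩ := TID.Red.conj_defect hM hb (isPBlock_eq_blockOf hb hχ ▸ (RC.A.Desc.dn_cen hM hπ hk).1 χ E hE) hD
  obtain ⟨y, rfl⟩ := hπ x
  refine ⟨_, _, ϑ, hB, isDefectGroup_conj hE y, mem_blockOf_self _, ?_, ?_⟩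
  · rw [← hx, map_map, map_map]
    exact congrArg E.map (MonoidHom.ext fun z => by simp)
  · unfold charDegree
    rw [show (ϑ : Γ → ℂ) 1 = (χ : K → ℂ) (π 1) from rfl, map_one]

end Lift

open Lift Mn Zl

/-- **[SIMPLE]** -/
theorem boxSimple_of (can : BoxCan) (br : BoxBR) (k0 : BoxK0) (main : BoxMain) (cyc : BoxCyc) (sl : BoxSLoc) :
    BoxSimple := fun {p _ k _ _ Y _ N _ _ ρ F G _} X M K _ π hq hE hp hM hF hπ hk b D hb hD ha χ hχ => by
  have : Fact (Nat.Prime 3) := ⟨Nat.prime_three⟩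
  have := X.amb.finite_GF G
  have := Finite.of_surjective π hπ
  have h0 : ∀ x : GF F G, π x = 1 ↔ (x : Y) ∈ mu X := fun x => by rw [← MonoidHom.mem_ker, hk, mem_subgroupOf]
  obtain ⟨B, E, ϑ, hB, hD', hϑ, rfl, h1⟩ := exists_lift hM hπ (fun x hx => mem_center_iff.2 fun g =>
    Subtype.ext (Ln.mu_comm ((h0 x).1 hx) g.2.1)) hb hD hχ
  have h2 : ∃ a ∈ E, ∃ b ∈ E, π a * π b ≠ π b * π a := by
    by_contra e
    push Not at e
    exact ha ⟨⟨by
      rintro ⟨_, a, h2, rfl⟩ ⟨_, b, h3, rfl⟩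
      exact Subtype.ext (e a h2 b h3)⟩⟩
  have h3 : ¬ IsMulCommutative E := fun e => by
    obtain ⟨a, h2, b, h3, h4⟩ := h2
    exact h4 (by rw [← map_mul, ← map_mul, show a * b = b * a from congrArg Subtype.val (e.1.1 ⟨a, h2⟩ ⟨b, h3⟩)])
  obtain ⟨g, hg, hN, S, y, h⟩ := exists_st can br k0 hE hp hM hB hD' h3
  have h4 : ∀ x : GF F G, (x : Y) ∈ E.map (GF F G).subtype ↔ x ∈ E := fun x => mem_map_iff_mem (subtype_injective _)
  rw [← mu_conj hg hN] at hF h0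
  have h5 : π.ker ≤ E := fun x hx => (h4 x).1 (St.mu_mem h ((h0 x).1 hx) x.2.2)
  have h6 : (E.map π).comap π = E := comap_map_eq_self h5
  have h7 : ∀ x : GF F G, π x ∈ Zn (E.map π) → C2 (mu (X.conj hg hN)) (E.map (GF F G).subtype) x := fun x hx =>
    ⟨(h4 x).2 (h6.le hx.1), by
      rintro _ ⟨d, hd, rfl⟩
      exact (h0 (d * x * d⁻¹ * x⁻¹)).1 (by
        rw [map_mul, map_mul, map_mul, map_inv, map_inv, hx.2 _ ⟨d, hd, rfl⟩, mul_inv_cancel_right, mul_inv_cancel])⟩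
  rcases sl _ _ S y (hE.conj hg hN) h hF (by
    obtain ⟨a, h2, b, h3, h4⟩ := h2
    exact ⟨a, ⟨a, h2, rfl⟩, b, ⟨b, h3, rfl⟩, fun e => h4 (by
      have h5 := (h0 (a * b * a⁻¹ * b⁻¹)).2 e
      rwa [map_mul, map_mul, map_mul, map_inv, map_inv, mul_inv_eq_one, mul_inv_eq_iff_eq_mul] at h5)⟩) with h8 | ⟨h8, u, hu, h9⟩
  · have k1 := main X 6 M hq hE hp hM B E hB hD' h3 ϑ hϑ
    have k2 := fac_mono (p := 3) (show (Zn (E.map π)).comap π ≤ Zn E from fun x hx =>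
      ⟨h6.le hx.1, fun d hd => Subtype.ext ((h8 x (h7 x hx)).2 _ ⟨d, hd, rfl⟩)⟩)
    have k3 := fac_mul (p := 3) (card_comap' hπ (Zn (E.map π))) Nat.card_pos.ne'
    have k4 := fac_mul (p := 3) (card_comap' hπ ⊤) Nat.card_pos.ne'
    rw [comap_top, card_top, card_top] at k4
    unfold Rob at k1 ⊢
    rw [card_Zn] at k2 k3
    rw [h1] at k1
    omega
  · obtain ⟨u, hu, rfl⟩ := hu
    have k1 : E.map (GF F G).subtype ⊓ S ≤ GF F G := inf_le_left.trans (map_subtype_le E)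
    have := isCyclic_of_surjective _ (subgroupOfEquivOfLe k1).symm.surjective
    refine cyc K M b _ hM hb hD ha ⟨((E.map (GF F G).subtype ⊓ S).subgroupOf (GF F G)).map π, ?_,
      isCyclic_of_surjective _ (π.subgroupMap_surjective _), card_le3 (π u) fun z hz => ?_, fun z _ hz => ?_⟩ χ hχ
    · rintro _ ⟨x, hx, rfl⟩
      refine ⟨⟨x, (h4 x).1 hx.1, rfl⟩, ?_⟩
      rintro _ ⟨d, hd, rfl⟩
      rw [← map_mul, ← map_mul, show d * x = x * d from Subtype.ext ((St.inf_le h hx).2 _ ⟨d, hd, rfl⟩)]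
    · obtain ⟨x, rfl⟩ := hπ z
      obtain ⟨i, hi⟩ := h9 x (h7 x hz)
      obtain ⟨ζ, k2, k3⟩ := split (inf_le_right.trans (Can.le_T h.can)) hi
      have k4 : ζ ∈ GF F G := h.loc.le (St.mu_mem h k2 (hF ζ k2))
      refine ⟨i, (⟨ζ, k4⟩ : GF F G)⁻¹ * ((u ^ (i : ℕ))⁻¹ * x), k3, ?_⟩
      rw [map_mul, map_inv, (h0 ⟨ζ, k4⟩).2 k2, inv_one, one_mul, map_mul, map_inv, map_pow]
    · obtain ⟨n, rfl⟩ := hπ z
      rintro _ ⟨x, hx, rfl⟩
      have k2 : ∀ x : GF F G, x ∈ E ↔ n * x * n⁻¹ ∈ E := fun x => by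
        rw [← h6, mem_comap, mem_comap, map_mul, map_mul, map_inv]
        exact mem_normalizer_iff.1 hz _
      have k3 : (n : Y) ∈ normalizer ((E.map (GF F G).subtype : Subgroup Y) : Set Y) := mem_normalizer_iff.2 fun z => ⟨by
        rintro ⟨z, hz, rfl⟩
        exact ⟨_, (k2 z).1 hz, rfl⟩, fun hz => by
        have k3 : z ∈ GF F G := (mul_mem_cancel_left n.2).1 ((mul_mem_cancel_right (inv_mem n.2)).1 (map_subtype_le E hz))
        exact (h4 ⟨z, k3⟩).2 ((k2 ⟨z, k3⟩).2 ((h4 _).1 hz))⟩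
      exact ⟨n * x * n⁻¹, ⟨(mem_normalizer_iff.1 k3 _).1 hx.1,
        h.can.z0 ▸ h.can.nrm n n.2.1 k3 x (h.can.z0.symm ▸ hx.2)⟩, by rw [map_mul, map_mul, map_inv]⟩

end Cfsg.Agent.RC.B.Sim
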