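import Cfsg.Agent.RC.B.Main
import Cfsg.Agent.RC.X.E6

/-!
# RC (S4576): the rows `E₆`, `²E₆` (helper3)
-/

set_option autoImplicit false
set_option linter.unusedSectionVars false

namespace Cfsg.Agent.RC.B

open Cfsg Cfsg.Lie Cfsg.Agent.DL Subgroup Cfsg.Agent.KM Cfsg.Agent.KM.Mu Cfsg.Agent.RC.D2 Cfsg.Agent.KZ.DatX
  Cfsg.Agent.Nodes.RGDChev

variable (h3 : BoxMain) (k1 : BoxK1) (hs : BoxSimple)
include h3 k1 hs

theorem Sim.row_sc [Fact (Nat.Prime 3)] {p : ℕ} [Fact p.Prime] {k : Type} [Field k] [CharP k p] {Y : Type}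
    [Group Y] {N : Type} [Fintype N] [DecidableEq N] {ρ : Y →* GL N k} {F : MulAut Y} {G : Subgroup Y} [IsAlgClosed k]
    {X : Datum p ρ F G} {S : Type} [Group S] (s : KM.Sc X S) (hE : TE X 6) (hp : 3 ≠ p)
    (hk : ∀ g : GF F G, s.π g = 1 → (g : Y) ∈ mu X) {A : Type} [CommGroup A] (hA : HasSchurMultiplier S A)
    (hr : ¬ p ∣ Nat.card A) : RRow 3 S := fun K _ _ σ M B D χ R => by
  have := X.amb.finite_GF G
  have c1 : Nat.card (mu X) = 3 := (k1 X 6 hE hp).1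
  obtain ⟨ψ, h5, h6⟩ := s.cov K R.qs
    (fun e => hr (e.trans (R.ker ▸ H95.StemCover.card_ker_dvd hA R.qs.1.commutator_eq_top σ R.surj R.ker.le)))
    ((QuotientGroup.quotientMulEquivOfEq R.ker.symm).trans (QuotientGroup.quotientKerEquivOfSurjective σ R.surj))
  have h7 : ∀ g ∈ ψ.ker, (g : Y) ∈ mu X := fun g hg => hk g (ker_le_of (σ := σ) h6 hg)
  by_cases h : ψ.ker = ⊥
  · exact (rw_quot R.hM ψ h5 (by rw [h, card_bot]; decide) (h3.rk s.qs hE hp M R.hM R.km)).rcg B D R.hB R.hD R.na χ R.mem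
  obtain ⟨⟨g, hg⟩, h1⟩ := ne_bot_iff_exists_ne_one.1 h
  have h2 : (g : Y) ≠ 1 := fun e => h1 (Subtype.ext (Subtype.ext e))
  refine hs X M K ψ s.qs hE hp R.hM (Mn.fix_mu c1 (h7 g hg) h2 g.2.2) h5 (le_antisymm h7 fun x hx => ?_) B D R.hB R.hD
    R.na χ R.mem
  obtain ⟨i, hi⟩ := Zl.mem_three c1 (h7 g hg) h2 hx
  rw [show x = g ^ (i : ℕ) from Subtype.ext hi]
  exact pow_mem hg _

theorem Sim.row_has [Fact (Nat.Prime 3)] (ty : BoxTy) {p : ℕ} [Fact p.Prime] {Mx : Matrix (Fin 6) (Fin 6) ℤ}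
    {Adm : _} {d : ℕ} {S : Type} [Group S] (h : Sc.HasSc hpE6 p Mx Adm 3 d S) (hp : 3 ≠ p) {A : Type} [CommGroup A]
    (hA : HasSchurMultiplier S A) (hr : ¬ p ∣ Nat.card A) : RRow 3 S := by
  obtain ⟨k, _, _, _, X, t, -, Y, _, N, _, _, ρ, F', X', θ, s, ⟨I⟩, h2, h4⟩ := h
  obtain ⟨h5, h6⟩ := (ty hpE6 X sl_E6).2 X' θ 3 I
  refine Sim.row_sc h3 k1 hs s ⟨s.pi1, h6, .inl ⟨rfl, h5⟩⟩ hp (fun g hg => ?_) hA hr
  have h7 : θ g = 1 := by rw [← h4, hg, map_one]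
  exact Zl.mem_mu.2 ⟨⟨trivial, fun z _ => mem_center_iff.1 (h2.le h7) z⟩, I.pow_eq_one trivial h7⟩

/-- **`E₆(q)`** -/
theorem row_e6 (hS : Si.SI) (ty : BoxTy) : RRowFor CE6 := fun l hl h2 S _ _ _ _ h => by
  rcases Ex.odd_cases h2 with rfl | h5
  · obtain ⟨F, _, _, h1, ⟨i⟩⟩ := h
    obtain ⟨r, e, _, _, hr, he, hF⟩ := Nt.exists_char F h1
    exact RRow.of_equiv i (Sim.row_has h3 k1 hs ty (Sc.hasSc_E6 Dat.boxDat2 hF) hr (S2105.result hF)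
      (Sc.not_dvd_sub Fact.out he 3))
  · exact e6_ge (si_of hS) h5 h

/-- **`²E₆(q)`** -/
theorem row_te6 (hS : Si.SI) (ty : BoxTy) : RRowFor CTe6 := fun l hl h2 S _ _ _ _ h => by
  rcases Ex.odd_cases h2 with rfl | h5
  · obtain ⟨F, _, _, q, h1, hq, hF, ⟨i⟩⟩ := h
    obtain ⟨r, e, _, _, hr, he, rfl⟩ := Nt.exists_char' F h1 hq two_ne_zero hF
    refine RRow.of_equiv i ?_
    by_cases h2 : r ^ e = 2
    · rw [h2] at hF ⊢
      exact X.te62 F hF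
    exact Sim.row_has h3 k1 hs ty (Sc.hasSc_2E6 Dat.boxDat2 hF) hr (S2108.result hq hF h2) (Sc.not_dvd_add Fact.out he 3)
  · exact te6_ge (si_of hS) h5 h

end Cfsg.Agent.RC.B
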