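import Cfsg.Agent.RC.B.SimD
import Cfsg.Agent.RC.B.Dec
import Cfsg.Agent.RC.B.Zl
import Cfsg.Agent.RC.B.PK

/-!
# RC (S4576): `boxEnd_of` (helper42)
-/

set_option autoImplicit false
set_option linter.unusedSectionVars false

namespace Cfsg.Agent.RC.B.Sim

open Cfsg Cfsg.Lie Cfsg.Agent.DL Cfsg.Agent.Nodes.Reps Cfsg.Agent.Nodes.BNOf Matrix Subgroup Cfsg.Agent.KM.Ht
  Cfsg.Agent.KM.Tor
open Cfsg.Agent.KM.Tor.TW (pr pr_add pr_neg pr_self pr_act a_neg a_add bd)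
open Cfsg.Agent.TO.X.Cn (χ_pow rp_pow)
open Cfsg.Agent.DL.CF (act_mul act_one)
open Ln

namespace En

section Grp

variable {Y : Type} [Group Y] {μ G : Subgroup Y} {d u v : Y} (hμ : ∀ m ∈ μ, ∀ g ∈ G, g * m = m * g)
include hμ

theorem cm_mul (hu : u ∈ G) (h1 : d * u * d⁻¹ * u⁻¹ ∈ μ) (h2 : d * v * d⁻¹ * v⁻¹ ∈ μ) :
    d * (u * v) * d⁻¹ * (u * v)⁻¹ ∈ μ := by
  rw [show d * (u * v) * d⁻¹ * (u * v)⁻¹ = d * u * d⁻¹ * u⁻¹ * (u * (d * v * d⁻¹ * v⁻¹) * u⁻¹) by group, hμ _ h2 u hu,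
    mul_inv_cancel_right]
  exact mul_mem h1 h2

theorem cm_pow (hu : u ∈ G) (h1 : d * u * d⁻¹ * u⁻¹ ∈ μ) (i : ℕ) : d * u ^ i * d⁻¹ * (u ^ i)⁻¹ ∈ μ := by
  induction i with
  | zero => simp
  | succ i ih => rw [pow_succ']; exact cm_mul hμ hu h1 ih

theorem cm_inv (hu : u ∈ G) (h1 : d * u * d⁻¹ * u⁻¹ ∈ μ) : d * u⁻¹ * d⁻¹ * u⁻¹⁻¹ ∈ μ := by
  rw [show d * u⁻¹ * d⁻¹ * u⁻¹⁻¹ = u⁻¹ * (d * u * d⁻¹ * u⁻¹)⁻¹ * u⁻¹⁻¹ by group, hμ _ (inv_mem h1) _ (inv_mem hu),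
    mul_inv_cancel_right]
  exact inv_mem h1

end Grp

theorem cube {k : Type} [Field k] {c : k} {n : ℕ} (h : c ^ 3 = 1) (h1 : c ^ n = 1) (h2 : ¬ 3 ∣ n) : c = 1 := by
  have h3 := pow_gcd_eq_one.2 ⟨h, h1⟩
  rwa [(Nat.prime_three.coprime_iff_not_dvd.2 h2).gcd_eq_one, pow_one] at h3

variable {p : ℕ} [Fact p.Prime] {k : Type} [Field k] [CharP k p] {Y : Type} [Group Y] {N : Type} [Fintype N]
  [DecidableEq N] {ρ : Y →* GL N k} {F : MulAut Y} {G : Subgroup Y} [IsAlgClosed k] {X : Datum p ρ F G}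
  {g x : Y} {a b : X.I → ℤ} {w : X.W}

theorem not_mem (hE : X.Sz {g, x} = ∅) (ha : a ∈ X.Sz {g}) : X.χ a x ≠ 1 := fun e =>
  (hE.subset ⟨ha.1, by rintro z (rfl | rfl); exacts [ha.2 _ rfl, e]⟩).elim

theorem pr_eq (hS : Sl X) (hE : X.Sz {g, x} = ∅) (h3 : X.χ a x ^ 3 = 1) (ha : a ∈ X.Sz {g}) (hb : b ∈ X.Sz {g})
    (h : X.χ b x = X.χ a x) (h0 : pr X b a ≠ 0) (h1 : b ≠ a) : pr X b a = -1 := by
  have h2 : b ≠ -a := fun e => by
    rw [e, X.χ_neg, inv_eq_iff_eq_inv, ← mul_eq_one_iff_eq_inv₀ (X.χ_ne_zero _ _), ← sq] at h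
    exact not_mem hE ha (cube h3 h (by decide))
  have h4 := bd hS hb.1 ha.1 h1 h2
  have h5 : pr X b a ≠ 1 := fun e => by
    have h6 : X.Rt (b + -a) := by
      have h7 : X.Rt (X.act (X.rf a) b) := hb.1.act (X.rf a)
      rwa [TW.act_rf ha.1, e, one_smul, sub_eq_add_neg] at h7
    refine not_mem hE (a := b + -a) ⟨h6, (X.Lam _).add_mem hb.2 ((X.Lam _).neg_mem ha.2)⟩ ?_
    rw [X.χ_add, X.χ_neg, h, mul_inv_cancel₀ (X.χ_ne_zero _ _)]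
  omega

/-- `w` rotates the roots which it moves -/
theorem rot (hS : Sl X) (hE : X.Sz {g, x} = ∅) (h3 : ∀ a, X.Rt a → X.χ a x ^ 3 = 1) (t : T3 X g)
    (hw : w ∈ closure (X.rf '' X.Sz {g})) {j : ℕ} (hj : w ^ 3 ^ j = 1) (h1 : ∀ a ∈ X.Sz {g}, X.act w a ∈ X.Sz {g})
    (h2 : ∀ a, X.Rt a → X.χ (X.act w a) x = X.χ a x) (ha : a ∈ X.Sz {g}) (h : X.act w a ≠ a) :
    Bs X a (X.act w a) ∧ X.act w (X.act w a) = -(a + X.act w a) := by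
  have hb := h1 a ha
  have hc := h1 _ hb
  have k1 : pr X (X.act w a) a = -1 := pr_eq hS hE (h3 a ha.1) ha hb (h2 a ha.1) (t.orb w hw a ha) h
  have k2 : X.act w (X.act w a) ≠ a := fun e => h (by
    have k3 : ∀ i : ℕ, X.act ((w * w) ^ i) a = a := fun i => by
      induction i with
      | zero => rw [pow_zero, act_one]
      | succ i ih => rw [pow_succ, act_mul, act_mul, e, ih]
    obtain ⟨i, hi⟩ : Odd (3 ^ j) := Odd.pow (by decide)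
    have k4 := k3 (i + 1)
    rwa [← sq, ← pow_mul, show 2 * (i + 1) = 3 ^ j + 1 from hi ▸ rfl, pow_succ, hj, one_mul] at k4)
  have k3 : pr X (X.act w (X.act w a)) a = -1 := pr_eq hS hE (h3 a ha.1) ha hc ((h2 _ hb.1).trans (h2 a ha.1))
    (by have := t.orb (w * w) (mul_mem hw hw) a ha; rwa [act_mul] at this) k2
  have k4 : Bs X a (X.act w a) := ⟨ha.1, hb.1, (hS _ _ ha.1 hb.1).trans k1, k1⟩
  have k5 : pr X (X.act w (X.act w a)) (a + X.act w a) = -2 := by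
    change X.wt _ ⬝ᵥ X.cor _ = _
    rw [k4.cor_add, dotProduct_add]
    exact congrArg₂ (· + ·) k3 ((pr_act w _ ha.1).trans k1)
  refine ⟨k4, by_contra fun e => ?_⟩
  have k6 := (bd hS hc.1 k4.add (fun e' => by rw [e', pr_self k4.add] at k5; exact absurd k5 (by decide)) e).1
  exact absurd (k5 ▸ k6) (by decide)

theorem F_zc (ha : X.Rt a) (w : X.W) (ω : kˣ) :
    F (zc X a (X.act w a) ω) = zc X (X.g a) (X.g (X.act w a)) (ω ^ p ^ X.ex a) := by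
  change F (X.τ _) = X.τ _
  rw [X.F_τ, mon_coch, mulVec_sub, X.Mx_cor ha, X.Mx_cor (ha.act w), X.ex_act w ha, ← smul_sub, coch_zsmul,
    ← Nat.cast_pow, zpow_natCast]

end En

open En Zl in
/-- **[END]** -/
theorem boxEnd_of (hLn : BoxLn) (hSyl : BoxSyl) (hK1 : BoxK1) : BoxEnd := by
  intro p _ k _ _ Y _ N _ _ ρ F G _ X D y g x d hT h hF gT xT cg cx _ x3 t hE dD dg dx
  have hG : D ≤ G := fun d hd => (h.loc.le hd).1
  have hμ : ∀ m ∈ mu X, ∀ g ∈ G, g * m = m * g := fun m hm g hg => mu_comm hm hg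
  have hg1 : ({g} : Set Y) ⊆ X.T := Set.singleton_subset_iff.2 gT
  have hZ : ({g, x} : Set Y) ⊆ X.T := Set.insert_subset gT (Set.singleton_subset_iff.2 xT)
  have hS : ∀ c ∈ X.S ∅, c = 1 := fun c hc => mem_bot.1 (RGD.Sup_le (fun _ e => e.elim) hc)
  have yT : y ∈ X.T := by
    have h1 := TO.X.Cn.ppr_ord X Nat.prime_three hZ (by rintro z (rfl | rfl); exacts [el_D h.loc _ cg.1, el_D h.loc _ cx.1])
      h.loc.mem.1 (by rintro z (rfl | rfl); exacts [h.loc.comm _ cg.1, h.loc.comm _ cx.1]) h.loc.reg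
    obtain ⟨s, hs, u, hu, e⟩ := (X.mem_TS X.Sz_root).1 h1
    rw [hE] at hs
    rwa [e, hS s hs, one_mul]
  have hζ := cx.2 d dD
  obtain ⟨w, hw⟩ : d ∈ X.NN := by
    obtain ⟨c, hc, m, hm, -, e⟩ := X.exists_conj_form (s := ![g, x]) (t := ![g, d * x * d⁻¹ * x⁻¹ * x])
      (Fin.forall_fin_two.2 ⟨gT, xT⟩) (Fin.forall_fin_two.2 ⟨gT, mul_mem hζ.1.1 xT⟩) (hG dD)
      (Fin.forall_fin_two.2 ⟨dg, by simp⟩)
    have h1 : c ∈ X.S ∅ := RGD.Sup_mono (fun r hr => by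
      have k2 : X.χ r (d * x * d⁻¹ * x⁻¹ * x) = 1 := hr.2 _ ⟨1, rfl⟩
      rw [X.χ_mul r hζ.1.1 xT, hζ.1.2 r hr.1, one_mul] at k2
      exact not_mem hE ⟨hr.1, fun _ e => e ▸ hr.2 _ ⟨0, rfl⟩⟩ k2) hc
    rwa [e, hS c h1, one_mul]
  obtain ⟨i, hi⟩ := el_D h.loc _ cg.1
  obtain ⟨j, hj⟩ := el_D h.loc _ dD
  have h1 : d ∈ X.cen {g} := TO.X.Cn.mem_cen h.pi gT hi (Nat.coprime_one_right _) (hG dD) dg
  have Fg : F g = g := (h.loc.le cg.1).2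
  have h2 : ∀ a ∈ X.Sz {g}, X.g a ∈ X.Sz {g} := fun a => X.g_mem_Sz hg1 (fun z e => e ▸ Fg)
  have h3 : ∀ a, X.Rt a → X.χ a x ^ 3 = 1 := fun a ha => (χ_pow X a xT 3).symm.trans (x3.1.2 a ha)
  have h4 : ∀ a, X.Rt a → X.χ (X.act w a) x = X.χ a x := fun a ha => by
    rw [← X.χ_rp hw a xT, show d * x * d⁻¹ = d * x * d⁻¹ * x⁻¹ * x by group, X.χ_mul _ hζ.1.1 xT, hζ.1.2 _ (ha.act w),
      one_mul]
  have h5 := fun a => rot (a := a) h.sl hE h3 t (Dec.mem_clo hg1 hw h1) (j := j)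
    (X.rp_unique (rp_pow X hw _) (hj ▸ rp_one)) (fun a => X.act_mem_Sz hg1 hw (X.cen_le_centralizer hg1 h1)) h4
  obtain ⟨a, ha, h6⟩ : ∃ a ∈ X.Sz {g}, X.act w a ≠ a := by
    by_contra e
    obtain rfl := eq_one_of_pos hg1 h2 hw h1 fun a ha h0 => (not_not.1 fun e' => e ⟨a, ha, e'⟩).symm ▸ h0
    exact dx (X.T_comm hw.mem_of_one xT)
  obtain ⟨hb, h7⟩ := h5 a ha h6
  have hb' := X.act_mem_Sz hg1 hw (X.cen_le_centralizer hg1 h1) ha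
  have h8 : y ∈ Zc X (A2 X a (X.act w a)) := by
    have k1 : ∀ r, X.χ (X.act w r) y = X.χ r y := fun r => X.χ_act_of_comm (Set.singleton_subset_iff.2 yT) hw
      (mem_centralizer_singleton_iff.2 (h.loc.comm d dD)) r rfl
    have k2 := k1 (X.act w a)
    rw [h7, X.χ_neg, X.χ_add, k1, inv_eq_iff_eq_inv, ← mul_eq_one_iff_eq_inv₀ (X.χ_ne_zero _ _)] at k2
    have k3 : X.χ a y = 1 := cube (by linear_combination k2)
      (by rw [← χ_pow X a yT, pow_orderOf_eq_one, X.χ_one]) h.loc.reg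
    exact mem_Zc_A2 yT k3 ((k1 a).trans k3)
  obtain ⟨ω, o1, o2, o3⟩ := exists_om (a := a) (b := X.act w a) xT (fun e => not_mem hE ha (e.2 a (.inl rfl)))
    ⟨x3.1.1, fun c hc => x3.1.2 c (hb.rt c hc)⟩ (h4 a ha.1).symm
  have o4 : ω ^ 3 = 1 := o1 ▸ pow_orderOf_eq_one ω
  obtain ⟨e, h9⟩ := t.cen a ha _ hb' hb.ab ω o1
  have h10 : zc X a (X.act w a) ω * g ^ e ∈ mu X := by
    have k1 := (hK1 X 6 hT h.p3).2 ⊥ h.can.z0 _ ⟨h9.1, fun c hc => h9.2 c hc.1⟩ (by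
      rintro _ rfl
      refine ⟨i + 1, ?_⟩
      rw [Commute.mul_pow (X.T_comm (zc_T ..) (pow_mem gT e)), ← pow_mul, mul_comm e, pow_mul g, pow_succ 3 i, pow_mul g, hi,
        mul_comm (3 ^ i), pow_mul, zc_cube _ _ o4]
      simp)
    rwa [bot_sup_eq] at k1
  have h11 : zc X a (X.act w a) ω = zc X a (X.act w a) ω * g ^ e * (g ^ e)⁻¹ := by group
  have h12 : F (zc X a (X.act w a) ω) = zc X a (X.act w a) ω := by
    rw [h11, map_mul, hF _ h10, map_inv, map_pow, Fg]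
  have h13 : X.g (X.act w a) = X.act w (X.g a) := by rw [X.g_act w ha.1, X.Fw_eq_of_fix hw (h.loc.le dD).2]
  have h14 : X.g a ∈ A2 X a (X.act w a) := by
    have k1 := (h5 _ (h2 a ha) fun e => h6 (X.g_inj hb.rb ha.1 (h13.trans e))).1
    refine t.cmp a ha _ hb' _ (h2 a ha) _ (h2 _ hb') hb.ab (h13 ▸ k1.ab) ω (ω ^ p ^ X.ex a) o1 ?_
      ((F_zc ha.1 w ω).symm.trans h12)
    rw [Nat.Coprime.orderOf_pow, o1]
    rw [o1]
    exact ((Nat.coprime_primes Nat.prime_three Fact.out).2 h.p3).pow_right _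
  have h15 : Rot X a (X.act w a) (X.g a) (X.g (X.act w a)) := by
    rw [h13]
    rcases h14 with e | e | e | e | e | e <;> rw [e]
    · exact ⟨1, .inl rfl, .inl ⟨(one_smul ..).symm, (one_smul ..).symm⟩⟩
    · exact ⟨1, .inl rfl, .inr (.inl ⟨(one_smul ..).symm, by rw [h7, neg_one_smul]⟩)⟩
    · exact ⟨-1, .inr rfl, .inr (.inr ⟨by rw [neg_neg, one_smul], by rw [a_add, h7, neg_one_smul, neg_add_rev, add_neg_cancel_left]⟩)⟩
    · exact ⟨-1, .inr rfl, .inl ⟨(neg_one_smul ..).symm, by rw [a_neg, neg_one_smul]⟩⟩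
    · exact ⟨-1, .inr rfl, .inr (.inl ⟨(neg_one_smul ..).symm, by rw [a_neg, h7, neg_neg, neg_neg, one_smul]⟩)⟩
    · exact ⟨1, .inl rfl, .inr (.inr ⟨by rw [neg_one_smul], by rw [a_neg, a_add, h7, one_smul, neg_add_rev a, add_neg_cancel_left, neg_neg]⟩)⟩
  obtain ⟨n, n1, n2, n3⟩ := hLn X a _ hb.ra hb.rb hb.ab hb.ba (h.la a _ hb.ra hb.rb hb.ab).1 h15
  refine zc_not_mem h.la hb o1 (hSyl 3 Y (GF F G) D (mu X) y x n _ Nat.prime_three (X.amb.finite_GF G) h.loc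
    (fun m hm g hg => (hμ m hm g hg.1).symm) (h.loc.le cx.1) ⟨n3.mem_G, n2⟩ (Zc_cen hb.rt h8 (mem_sup_right n1))
    (conj_rot hb n3 xT o2 o3 o4) ((zc_cube a (X.act w a) o4).symm ▸ one_mem _) ?_ fun c hc => ⟨cx.2 c hc, ?_⟩)
  · rw [Zc_cen hb.rt (zc_mem_A2 hb o4) (mem_sup_right n1), mul_inv_cancel_right, mul_inv_cancel]
    exact one_mem _
  · rw [h11]
    refine cm_mul hμ (mem_mu.1 h10).1.1 ?_ (cm_inv hμ (pow_mem (hG cg.1) e) (cm_pow hμ (hG cg.1) (cg.2 c hc) e))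
    rw [hμ _ h10 c (hG hc), mul_inv_cancel_right, mul_inv_cancel]
    exact one_mem _

end Cfsg.Agent.RC.B.Sim
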