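import Cfsg.Agent.KM.Xc.E6F

/-!
# RC (S4576), the simple groups of type `E₆` at `3` : finite checks (helper3)

The lists describe the weights `sr i + c6 x` of the module of dimension `27`.
-/

set_option autoImplicit false

namespace Cfsg.Agent.RC.B.Sim

open Cfsg Cfsg.Lie Matrix Finset Cfsg.Agent.Nodes.RGDChev Cfsg.Agent.KM.Tor Cfsg.Agent.KM.Xc.E6 Cfsg.Agent.Tits.Roots

/-- the roots -/
abbrev rv (s : Fin chevE6.nroots) : V6 := vec chevE6 6 s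

/-- stable under the reflection in `a` -/
def Stb (i : Fin 6) (O : Finset V6) (a : V6) : Prop := ∀ x ∈ O, x - (a i + bb x a) • a ∈ O

instance Stb.dec (i : Fin 6) (O : Finset V6) (a : V6) : Decidable (Stb i O a) := by unfold Stb; infer_instance

/-- three weights of the subsystem generated by `a`, `b` -/
def Tri (O : Finset V6) (a b : V6) : Prop := ∃ x ∈ O, x - a - b ∈ O ∧ (x - a ∈ O ∨ x - b ∈ O)

instance Tri.dec (O : Finset V6) (a b : V6) : Decidable (Tri O a b) := by unfold Tri; infer_instance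

/-- all weights -/
def O27 : Finset V6 := ⟨([![0, 0, 0, 0, 0, 0], ![-1, 0, 0, 0, 0, 0], ![-1, 0, -1, 0, 0, 0], ![-1, 0, -1, -1, 0, 0],
  ![-1, -1, -1, -1, 0, 0], ![-1, 0, -1, -1, -1, 0], ![-1, -1, -1, -1, -1, 0], ![-1, 0, -1, -1, -1, -1],
  ![-1, -1, -1, -2, -1, 0], ![-1, -1, -1, -1, -1, -1], ![-1, -1, -2, -2, -1, 0], ![-1, -1, -1, -2, -1, -1],
  ![-2, -1, -2, -2, -1, 0], ![-1, -1, -2, -2, -1, -1], ![-1, -1, -1, -2, -2, -1], ![-2, -1, -2, -2, -1, -1],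
  ![-1, -1, -2, -2, -2, -1], ![-2, -1, -2, -2, -2, -1], ![-1, -1, -2, -3, -2, -1], ![-2, -1, -2, -3, -2, -1],
  ![-1, -2, -2, -3, -2, -1], ![-2, -2, -2, -3, -2, -1], ![-2, -1, -3, -3, -2, -1], ![-2, -2, -3, -3, -2, -1],
  ![-2, -2, -3, -4, -2, -1], ![-2, -2, -3, -4, -3, -1], ![-2, -2, -3, -4, -3, -2]] : List V6), by decide +kernel⟩

/-- the natural module of `A₅` -/
def O6 : Finset V6 := ⟨([![0, 0, 0, 0, 0, 0], ![-1, 0, 0, 0, 0, 0], ![-1, 0, -1, 0, 0, 0], ![-1, 0, -1, -1, 0, 0],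
  ![-1, 0, -1, -1, -1, 0], ![-1, 0, -1, -1, -1, -1]] : List V6), by decide +kernel⟩

/-- the natural module of the first `A₂` -/
def O3 : Finset V6 := ⟨([![0, 0, 0, 0, 0, 0], ![-1, 0, 0, 0, 0, 0], ![-1, 0, -1, 0, 0, 0]] : List V6), by decide +kernel⟩

/-- the natural module of the second `A₂` -/
def O3' : Finset V6 := ⟨([![0, 0, 0, 0, 0, 0], ![0, 0, 0, 0, 0, -1], ![0, 0, 0, 0, -1, -1]] : List V6), by decide +kernel⟩

/-- the roots of `A₂ A₂ A₂` -/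
def R18 : List V6 := [![-1, -2, -2, -3, -2, -1], ![-1, -1, -2, -3, -2, -1], ![-1, 0, -1, 0, 0, 0], ![-1, 0, 0, 0, 0, 0],
  ![0, -1, 0, 0, 0, 0], ![0, 0, -1, 0, 0, 0], ![0, 0, 0, 0, -1, -1], ![0, 0, 0, 0, -1, 0], ![0, 0, 0, 0, 0, -1],
  ![0, 0, 0, 0, 0, 1], ![0, 0, 0, 0, 1, 0], ![0, 0, 0, 0, 1, 1], ![0, 0, 1, 0, 0, 0], ![0, 1, 0, 0, 0, 0],
  ![1, 0, 0, 0, 0, 0], ![1, 0, 1, 0, 0, 0], ![1, 1, 2, 3, 2, 1], ![1, 2, 2, 3, 2, 1]]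

/-- the classes of the fundamental weights -/
def b0 : V6 := ![1, 0, -1, 0, 1, -1]

/-- the fundamental weights modulo the root lattice -/
def tb : Fin 6 → V6 := ![![0, 0, 0, 0, 0, 0], ![1, 2, 2, 3, 2, 1], ![3, 3, 5, 6, 4, 2], ![2, 3, 4, 6, 4, 2],
  ![0, 1, 1, 2, 2, 1], ![2, 2, 3, 4, 3, 2]]

theorem c6_tb : ∀ j, c6 (tb j) = sr j - b0 j • sr 0 := by decide +kernel

theorem c6_three : c6 ![4, 3, 5, 6, 4, 2] = (3 : ℤ) • sr 0 := by decide +kernel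

theorem st27 : ∀ s, Stb 0 O27 (rv s) := by decide +kernel

theorem st6 : ∀ s, rv s 1 = 0 → Stb 0 O6 (rv s) := by decide +kernel

theorem st3 : ∀ s, rv s 3 = 0 → Stb 0 O3 (rv s) := by decide +kernel

theorem st3' : ∀ s, rv s 3 = 0 → Stb 5 O3' (rv s) := by decide +kernel

theorem tri6 : ∀ s, rv s 1 = 0 → ∀ s', rv s' 1 = 0 → bb (rv s) (rv s') = -1 → Tri O6 (rv s) (rv s') := by decide +kernel

theorem tri3 : ∀ s, rv s 3 = 0 → ∀ s', rv s' 3 = 0 → bb (rv s) (rv s') = -1 →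
    Tri O3 (rv s) (rv s') ∨ Tri O3' (rv s) (rv s') := by decide +kernel

/-- small vectors -/
def v4 (a b c d e f : Fin 4) : V6 := ![(a : ℕ), (b : ℕ), (c : ℕ), (d : ℕ), (e : ℕ), (f : ℕ)]

theorem kac3 : ∀ a b c d e f : Fin 4, (a : ℕ) + 2 * b + 2 * c + 3 * d + 2 * e + f ≤ 3 → v4 a b c d e f = sr 3 ∨
    (∃ r ∈ [(0 : ℤ), 1, 2], 9 < #{x ∈ O27 | (3 : ℤ) ∣ x ⬝ᵥ v4 a b c d e f - r}) ∨
    ∀ s, (3 : ℤ) ∣ rv s ⬝ᵥ v4 a b c d e f → rv s 0 = 0 := by decide +kernel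

theorem hr6 : H931.KC.hr chevE6 6 = ![1, 2, 2, 3, 2, 1] := by decide +kernel

theorem r18 : ∀ s, (3 : ℤ) ∣ rv s 3 → rv s ∈ R18 := by decide +kernel

theorem card18 : #{s : Fin chevE6.nroots | (3 : ℤ) ∣ rv s 3} = 18 := by decide +kernel

theorem orb18 : ∀ b ∈ R18, ∀ a ∈ R18, bb b a ≠ 0 → ∀ c ∈ R18, bb (b - bb b c • c) a ≠ 0 := by decide +kernel

theorem cen18 : ∀ a ∈ R18, ∀ b ∈ R18, bb a b = -1 → ∃ ε ∈ [(1 : ℤ), -1], ∀ i, 3 ∣ c6 (a - b) i - ε * sr 3 i := by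
  decide +kernel

theorem cmp18 : ∀ a ∈ R18, ∀ b ∈ R18, bb a b = -1 → ∀ a' ∈ R18, ∀ b' ∈ R18, bb a' b' = -1 → ∀ j ∈ [(1 : ℤ), 2],
    (∀ i, 3 ∣ j * (a' i - b' i) - (a i - b i)) → A2P a b a' := by decide +kernel

end Cfsg.Agent.RC.B.Sim
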