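import Cfsg.Agent.RC.B.Two
import Cfsg.Agent.RC.B.SimD

/-!
# RC, type `E₆` : `boxN1`, `boxN2` (helper29)

The Weyl group of a proper Levi subsystem preserves a set of at most six of the `27` minuscule weights.
-/

set_option autoImplicit false
set_option linter.unusedSectionVars false

namespace Cfsg.Agent.RC.B.Sim

open Cfsg Cfsg.Lie Cfsg.Agent.DL Cfsg.Agent.Nodes.Reps Matrix Cfsg.Agent.KM.Ht Cfsg.Agent.KM.Tor
open Cfsg.Agent.KZ.DatX Cfsg.Agent.Nodes.RGDChev Cfsg.Agent.Nodes.Coroot Cfsg.Agent.ChevalleyStructure.NPerm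
  Cfsg.Agent.ChevalleyStructure.CoxeterGeom Cfsg.Agent.ChevalleyStructure.CoxeterGeomTypes Cfsg.Agent.Tits.Roots
open Cfsg.Agent.KM.Tor.LN6 (zz th)

namespace SN

theorem count {α β : Type} [DecidableEq α] [CommGroup β] {L A : Finset α} {σ : α → α} {f : α → β} {ω c : β}
    (h1 : ∀ x ∈ L, σ x ∈ L) (h2 : Set.InjOn σ L) (h3 : ∀ x ∈ L, f (σ x) = f x * ω) (o1 : ω ≠ 1) (o2 : ω * ω ≠ 1)
    (hA : A ⊆ L) (hc : ∀ x ∈ A, f x = c) : 3 * A.card ≤ L.card := by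
  have b1 : A.image σ ⊆ L := Finset.image_subset_iff.2 fun x hx => h1 x (hA hx)
  have b2 : (A.image σ).image σ ⊆ L := Finset.image_subset_iff.2 fun x hx => h1 x (b1 hx)
  have c1 : ∀ x ∈ A.image σ, f x = c * ω := Finset.forall_mem_image.2 fun x hx => by rw [h3 x (hA hx), hc x hx]
  have c2 : ∀ x ∈ (A.image σ).image σ, f x = c * (ω * ω) := Finset.forall_mem_image.2 fun x hx => by
    rw [h3 x (b1 hx), c1 x hx, mul_assoc]
  have h4 := Finset.card_le_card (Finset.union_subset hA (Finset.union_subset b1 b2))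
  rw [Finset.card_union_of_disjoint (Finset.disjoint_left.2 fun x hx hx' => (Finset.mem_union.1 hx').elim
      (fun h => o1 (mul_eq_left.1 ((c1 x h).symm.trans (hc x hx)))) fun h => o2 (mul_eq_left.1 ((c2 x h).symm.trans (hc x hx)))),
    Finset.card_union_of_disjoint (Finset.disjoint_left.2 fun x hx hx' => o1 (mul_eq_left.1 (mul_left_cancel
      ((c2 x hx').symm.trans (c1 x hx))))), Finset.card_image_of_injOn (h2.mono b1),
    Finset.card_image_of_injOn (h2.mono hA)] at h4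
  omega

/-- the layers -/
def LL : Fin 6 → Finset (Fin 6 → ℤ) := ![{![1, 0, 0, 0, 0, 0]},
  {![1, 0, 0, 0, 0, 0], ![-1, 0, 1, 0, 0, 0], ![0, 0, -1, 1, 0, 0], ![0, 1, 0, -1, 1, 0], ![0, 1, 0, 0, -1, 1],
    ![0, 1, 0, 0, 0, -1]}, {![1, 0, 0, 0, 0, 0], ![-1, 0, 1, 0, 0, 0]},
  {![1, 0, 0, 0, 0, 0], ![-1, 0, 1, 0, 0, 0], ![0, 0, -1, 1, 0, 0], ![0, 0, 0, 0, 0, -1], ![0, 0, 0, 0, -1, 1],
    ![0, 0, 0, -1, 1, 0]}, {![0, 0, 0, 0, 0, -1], ![0, 0, 0, 0, -1, 1]}, {![0, 0, 0, 0, 0, -1]}]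

theorem c1 : ∀ (i : Fin 6) (s : Fin chevE6.nroots), vec chevE6 6 s i = 0 → ∀ l ∈ LL i,
    l - (l ⬝ᵥ vec chevE6 6 s) • co chevE6 6 (vec chevE6 6 s) ∈ LL i := by decide +kernel

theorem c2 : ∀ i : Fin 6, (∀ l ∈ LL i, 3 ∣ l ⬝ᵥ zz - 1) ∧ (LL i).card ≤ 6 ∧
    (i ∉ ({1, 3} : Finset (Fin 6)) → (LL i).card ≤ 2 ∧ (LL i).card ≠ 0) := by decide +kernel

theorem c3 : ∀ i ∈ ({1, 3} : Finset (Fin 6)), ∀ s : Fin chevE6.nroots, vec chevE6 6 s i = 0 → ∀ t : Fin chevE6.nroots,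
    vec chevE6 6 t i = 0 → vec chevE6 6 s ⬝ᵥ co chevE6 6 (vec chevE6 6 t) = -1 → ∃ l ∈ LL i, ∃ x ∈ ({0, 1} : Finset ℤ),
      ∃ y ∈ ({-1, 1} : Finset ℤ), ({l, l - co chevE6 6 (vec chevE6 6 s), l - x • co chevE6 6 (vec chevE6 6 s) -
        y • co chevE6 6 (vec chevE6 6 t)} : Finset (Fin 6 → ℤ)) ⊆ LL i ∧ ({l, l - co chevE6 6 (vec chevE6 6 s),
          l - x • co chevE6 6 (vec chevE6 6 s) - y • co chevE6 6 (vec chevE6 6 t)} : Finset (Fin 6 → ℤ)).card = 3 := by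
  decide +kernel

variable {p : ℕ} [Fact p.Prime] {k : Type} [Field k] [CharP k p] {Y : Type} [Group Y] {N : Type} [Fintype N]
  [DecidableEq N] {ρ : Y →* GL N k} {F : MulAut Y} {G : Subgroup Y} [IsAlgClosed k] {X : Datum p ρ F G}

section Gen

variable {C : ChevalleyDatum} {n : ℕ} {M : CoxeterMatrix (Fin n)} {hp : IsType C n M} {Mx : Matrix (Fin n) (Fin n) ℤ}
  {X₀ : XF hp p k Mx} (K : Kit X X₀) {j : Fin n} (H : Ok X C n j)
include H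

/-- weights are characters of the torus -/
theorem exists_chr (l : Fin n → ℤ) : ∃ f : (X.R → kˣ) →* kˣ, ∀ β ξ, f (coch (K.ψ β) ξ) = ξ ^ (l ⬝ᵥ β) := by
  choose u hu using fun r => K.exists_ψ H (Pi.single r 1)
  refine ⟨chr fun r => l ⬝ᵥ u r, fun β ξ => (chr_coch _ _ _).trans (congrArg (ξ ^ ·) ?_)⟩
  have h : β = ∑ r, K.ψ β r • u r := K.ψ_inj H (by
    simp only [map_sum, map_zsmul, ← hu]
    exact pi_eq_sum_univ' _)
  conv_rhs => rw [h, dotProduct_sum]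
  exact Finset.sum_congr rfl fun r _ => by rw [dotProduct_smul, smul_eq_mul, mul_comm]

theorem Wm_ψ (w : X.W) (x : X.I → ℤ) : X.Wm w *ᵥ K.ψ (K.e x) = K.ψ (K.e (X.act w x)) := by
  rw [X.eq_sum_sr x, Datum.act]
  simp only [map_sum, map_zsmul, mulVec_sum, mulVec_smul]
  refine Finset.sum_congr rfl fun i _ => congrArg _ ?_
  rw [← K.cor_eq H (isRoot_sr _ _ i), ← K.cor_eq H ((isRoot_sr _ _ i).act w), X.cor_sr]
  exact (X.cor_act_sr w i).symm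

end Gen

variable {Mx : Matrix (Fin 6) (Fin 6) ℤ} {X₀ : XF hpE6 p k Mx} (K : Kit X X₀) (H : Ok X chevE6 6 1)
include H

theorem layer {Ψ : Set (X.I → ℤ)} {i : Fin 6} (hΨ : ∀ a ∈ Ψ, X.Rt a ∧ K.e a i = 0) {β : Fin 6 → ℤ} {ξ c : kˣ}
    (h : Mv X Ψ (X.τ (coch (K.ψ β) ξ))) {A : Finset (Fin 6 → ℤ)} (hA : A ⊆ LL i) (hc : ∀ l ∈ A, ξ ^ (l ⬝ᵥ β) = c) :
    3 * A.card ≤ (LL i).card := by
  obtain ⟨w, hw, m, hm, h1, h2⟩ := h
  have gen : ∀ a ∈ Ψ, ∀ l ∈ LL i, ∃ l' ∈ LL i, ∀ x, l ⬝ᵥ K.e (X.act (X.rf a) x) = l' ⬝ᵥ K.e x := fun a ha l hl =>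
    ⟨_, K.forall_rt (Q := fun a => a i = 0 → ∀ l ∈ LL i, l - (l ⬝ᵥ a) • co chevE6 6 a ∈ LL i) (c1 i) (hΨ a ha).1
      (hΨ a ha).2 l hl, fun x => by
        rw [K.act_rf (hΨ a ha).1, dotProduct_sub, dotProduct_smul, sub_dotProduct, smul_dotProduct, smul_eq_mul, smul_eq_mul,
          dotProduct_comm (co _ _ _), mul_comm]⟩
  have key : ∀ l ∈ LL i, ∃ l' ∈ LL i, ∀ x, l ⬝ᵥ K.e (X.act w x) = l' ⬝ᵥ K.e x := by
    clear hm
    induction hw using Subgroup.closure_induction'' with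
    | mem _ h =>
      obtain ⟨a, ha, rfl⟩ := h
      exact gen a ha
    | inv_mem _ h =>
      obtain ⟨a, ha, rfl⟩ := h
      rw [inv_eq_of_mul_eq_one_right (X.rf_mul_self (hΨ a ha).1)]
      exact gen a ha
    | one => exact fun l hl => ⟨l, hl, fun x => by rw [Kit.act_one']⟩
    | mul u v _ _ hu hv =>
      intro l hl
      obtain ⟨l₁, a1, a2⟩ := hu l hl
      obtain ⟨l₂, b1, b2⟩ := hv l₁ a1
      exact ⟨l₂, b1, fun x => by rw [act_mul', a2, b2]⟩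
  choose! σ s1 s2 using key
  obtain ⟨ω, o1, o2⟩ := K.mu_form H h1
  have o3 : ω ≠ 1 := fun e => h2 (by
    rw [e, map_one, map_one, mul_inv_eq_one, mul_inv_eq_iff_eq_mul] at o2
    exact o2)
  obtain ⟨x, rfl⟩ := K.e.surjective β
  rw [X.conj_τ hm, mon_coch, Wm_ψ K H, mul_inv_eq_iff_eq_mul, ← map_mul, X.τ_inj.eq_iff] at o2
  refine count (f := fun l => ξ ^ (l ⬝ᵥ K.e x)) s1 (fun l hl l' hl' e => dotProduct_eq _ _ fun y => ?_) (fun l hl => ?_) o3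
    (fun e => o3 (by rwa [pow_three, e, mul_one] at o1)) hA hc
  · have h3 := (s2 l hl (X.act w⁻¹ (K.e.symm y))).trans (e ▸ (s2 l' hl' _).symm)
    rwa [act_act_inv, AddEquiv.apply_symm_apply] at h3
  · obtain ⟨f, hf⟩ := exists_chr K H l
    obtain ⟨d, hd⟩ := (c2 i).1 l hl
    have h3 := congrArg f o2
    rw [map_mul, hf, hf, hf, s2 l hl, eq_add_of_sub_eq hd, _root_.zpow_add, _root_.zpow_mul, zpow_ofNat, o1, _root_.one_zpow,
      one_mul, zpow_one] at h3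
    exact h3.trans (mul_comm _ _)

theorem mem_13 {Ψ : Set (X.I → ℤ)} {i : Fin 6} (hΨ : ∀ a ∈ Ψ, X.Rt a ∧ K.e a i = 0) {t : Y} (ht : t ∈ X.T)
    (h : Mv X Ψ t) : i ∈ ({1, 3} : Finset (Fin 6)) := by_contra fun hi => by
  obtain ⟨ξ, β, _, _, rfl⟩ := K.exists_el H ht
  obtain ⟨l, hl⟩ := Finset.card_ne_zero.1 ((c2 i).2.2 hi).2
  have h1 := layer K H hΨ h (Finset.singleton_subset_iff.2 hl) fun _ e => by rw [Finset.mem_singleton.1 e]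
  have h2 := ((c2 i).2.2 hi).1
  rw [Finset.card_singleton] at h1
  omega

end SN

open SN

theorem boxN1x : BoxN1 := fun X Ψ t v hE _ h0 ht hv hP hM a ha b hb a1 b1 hab => by
  obtain ⟨_, X₀, ⟨K⟩⟩ := hE.kit6
  have H := hE.ok6
  obtain ⟨w, hw⟩ := K.dom H.sl v
  generalize K.tw H.sl w = K at hw
  obtain ⟨i, hi⟩ : ∃ i, K.φ v i ≠ 0 := Function.ne_iff.1 fun e => hv (K.φ_inj H (e.trans (map_zero _).symm))
  have hΨ : ∀ a ∈ Ψ, X.Rt a ∧ K.e a i = 0 := fun a ha => ⟨h0 a ha, (K.dot_eq_zero hw (h0 a ha)).1 (hP a ha) i hi⟩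
  obtain ⟨l, _, x, _, y, _, h1, h2⟩ := K.forall_rt (Q := fun b => b i = 0 → K.e a ⬝ᵥ co chevE6 6 b = -1 → ∃ l ∈ LL i,
    ∃ x ∈ ({0, 1} : Finset ℤ), ∃ y ∈ ({-1, 1} : Finset ℤ), ({l, l - co chevE6 6 (K.e a), l - x • co chevE6 6 (K.e a) -
      y • co chevE6 6 b} : Finset (Fin 6 → ℤ)) ⊆ LL i ∧ ({l, l - co chevE6 6 (K.e a), l - x • co chevE6 6 (K.e a) -
        y • co chevE6 6 b} : Finset (Fin 6 → ℤ)).card = 3)
    (K.forall_rt (Q := fun a => a i = 0 → ∀ t : Fin chevE6.nroots, vec chevE6 6 t i = 0 →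
      a ⬝ᵥ co chevE6 6 (vec chevE6 6 t) = -1 → ∃ l ∈ LL i, ∃ x ∈ ({0, 1} : Finset ℤ), ∃ y ∈ ({-1, 1} : Finset ℤ),
        ({l, l - co chevE6 6 a, l - x • co chevE6 6 a - y • co chevE6 6 (vec chevE6 6 t)} : Finset (Fin 6 → ℤ)) ⊆ LL i ∧
        ({l, l - co chevE6 6 a, l - x • co chevE6 6 a - y • co chevE6 6 (vec chevE6 6 t)} : Finset (Fin 6 → ℤ)).card = 3)
      (c3 i (mem_13 K H hΨ ht hM)) (h0 a ha) (hΨ a ha).2) (h0 b hb) (hΨ b hb).2 (K.wt_cor a (h0 b hb) ▸ hab)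
  obtain ⟨ξ, β, _, _, rfl⟩ := K.exists_el H ht
  rw [K.χ_ψ, co_comm H.sl, dotProduct_comm, Units.val_eq_one] at a1 b1
  have h3 := SN.layer K H hΨ hM h1 (c := ξ ^ (l ⬝ᵥ β)) fun l' hl' => by
    simp only [Finset.mem_insert, Finset.mem_singleton] at hl'
    rcases hl' with rfl | rfl | rfl
    · rfl
    · rw [sub_dotProduct, _root_.zpow_sub, a1, inv_one, mul_one]
    · rw [sub_dotProduct, sub_dotProduct, smul_dotProduct, smul_dotProduct, _root_.zpow_sub, _root_.zpow_sub, smul_eq_mul,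
        smul_eq_mul, _root_.zpow_mul', _root_.zpow_mul', a1, b1, _root_.one_zpow, _root_.one_zpow, inv_one, mul_one, mul_one]
  have h4 := (c2 i).2.1
  omega

theorem boxN2 : BoxN2 := fun X S t hE _ hS ht hM hm => by
  obtain ⟨_, X₀, ⟨K⟩⟩ := hE.kit6
  have H := hE.ok6
  obtain ⟨v, _, hv⟩ := exists_gen (X := X) (S : Set _)
  rw [hS] at hv
  obtain ⟨K, J, hz⟩ := K.std sl_E6 (fun _ ha => ha.1) ⟨v, hv⟩
  have hJ : J ⊆ {1, 3} := fun i hi => mem_13 K H (fun a ha => ⟨ha.1, ((hz a).1 ha).2 i hi⟩) ht hM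
  obtain ⟨f, hf⟩ := exists_chr K H (sr 0 - sr 5)
  have key : S ≤ f.ker.map X.τ := hS.ge.trans ((Subgroup.closure_le _).2 (by
    rintro _ ⟨u, a, hu, rfl⟩
    refine ⟨_, ?_, rfl⟩
    rw [K.pp_form H hJ hz hu]
    refine (hf _ _).trans ?_
    rw [dotProduct_add, dotProduct_smul, dotProduct_smul, show (sr 0 - sr 5) ⬝ᵥ th = 0 by decide +kernel,
      show (sr 0 - sr 5) ⬝ᵥ Two.om = 0 by decide +kernel, smul_zero, smul_zero, add_zero, zpow_zero]))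
  obtain ⟨w, _, m, _, h1, h2⟩ := hM
  obtain ⟨ω, o1, o2⟩ := K.mu_form H h1
  obtain ⟨c, c1, c2⟩ := key (hm h1)
  rw [X.τ_inj (c2.trans o2), SetLike.mem_coe, MonoidHom.mem_ker, hf, show (sr 0 - sr 5) ⬝ᵥ zz = 2 by decide +kernel,
    zpow_ofNat] at c1
  rw [pow_succ, c1, one_mul] at o1
  rw [o1, map_one, map_one, mul_inv_eq_one, mul_inv_eq_iff_eq_mul] at o2
  exact h2 o2

end Cfsg.Agent.RC.B.Sim
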